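import Groth.Agent.Etcore.ExtAdj
import Groth.Agent.Etcore.DerLES

/-!
# The edge lemma for an adjunction `L ⊣ R`, `L` exact

`edge adj A N n : Ext A (R N) n →+ Ext (L A) N n`, `e ↦ L(e) ≫ counit`.  If the higher derived
functors `R^j R N`, `1 ≤ j < n`, have no `Ext^b(A, -)` at all, if `edge` is surjective in degree `n`
and injective in degree `n + 1`, then `Hom(A, R^n R N) = 0`.
(Consequence of the Leray spectral sequence, proved by dimension shifting.)
-/

set_option autoImplicit false

universe w w' v v' u u'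

open CategoryTheory CategoryTheory.Limits CategoryTheory.Abelian

namespace Groth.Agent.EtpbcB.EdgeLemma

variable {C : Type u} [Category.{v} C] [Abelian C] [HasExt.{w} C]
variable {D : Type u'} [Category.{v'} D] [Abelian D] [HasExt.{w'} D]
variable {L : C ⥤ D} {R : D ⥤ C} [L.Additive] [PreservesFiniteLimits L] [PreservesFiniteColimits L]

/-- The edge map `Ext A (R N) n → Ext (L A) N n`. -/
noncomputable def edge (adj : L ⊣ R) (A : C) (N : D) (n : ℕ) :
    Ext.{w} A (R.obj N) n →+ Ext.{w'} (L.obj A) N n where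
  toFun e := (e.mapExactFunctor L).comp (Ext.mk₀ (adj.counit.app N)) (add_zero n)
  map_zero' := by simp
  map_add' := by intro x y; simp

omit [PreservesFiniteLimits L] [PreservesFiniteColimits L] [L.Additive] [HasExt.{w} C] in
theorem mk₀_sub' {X Y : D} (a b : X ⟶ Y) : Ext.mk₀ (a - b) = Ext.mk₀ a - Ext.mk₀ b := by
  rw [eq_sub_iff_add_eq, ← Ext.mk₀_add, sub_add_cancel]

omit [PreservesFiniteLimits L] [PreservesFiniteColimits L] [L.Additive] [HasExt.{w} C] in
theorem sub_comp' {X Y Z : D} {a b c : ℕ} (x y : Ext.{w'} X Y a) (z : Ext.{w'} Y Z b)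
    (h : a + b = c) : (x - y).comp z h = x.comp z h - y.comp z h :=
  map_sub (z.postcomp X h) x y

variable (adj : L ⊣ R)

theorem edge_apply (A : C) (N : D) (n : ℕ) (e : Ext.{w} A (R.obj N) n) :
    edge adj A N n e = (e.mapExactFunctor L).comp (Ext.mk₀ (adj.counit.app N)) (add_zero n) := rfl

theorem edge_mk₀ (A : C) (N : D) (g : A ⟶ R.obj N) :
    edge adj A N 0 (Ext.mk₀ g) = Ext.mk₀ ((adj.homEquiv A N).symm g) := by
  rw [edge_apply, Ext.mapExactFunctor_mk₀, Ext.mk₀_comp_mk₀, adj.homEquiv_counit]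

section

variable {S : ShortComplex D} (hS : S.ShortExact)

/-- the image of `R X₂ → R X₃`, as a cokernel -/
noncomputable abbrev Bc (R : D ⥤ C) (S : ShortComplex D) : C := cokernel (R.map S.f)

/-- `0 → R X₁ → R X₂ → B → 0` -/
noncomputable abbrev T (R : D ⥤ C) (S : ShortComplex D) : ShortComplex C :=
  ShortComplex.mk (R.map S.f) (cokernel.π (R.map S.f)) (cokernel.condition _)

variable [R.Additive] [PreservesFiniteLimits R]

omit [HasExt.{w} C] [HasExt.{w'} D] [R.Additive] in
include hS in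
theorem shortExact_T : (T R S).ShortExact :=
  have := hS.mono_f
  { exact := ShortComplex.exact_cokernel _
    mono_f := inferInstanceAs (Mono (R.map S.f))
    epi_g := inferInstanceAs (Epi (cokernel.π _)) }

/-- `κ : B → R X₃` -/
noncomputable abbrev kap (R : D ⥤ C) [R.Additive] (S : ShortComplex D) : Bc R S ⟶ R.obj S.X₃ :=
  cokernel.desc _ (R.map S.g) (by rw [← R.map_comp, S.zero, R.map_zero])

omit [HasExt.{w} C] [HasExt.{w'} D] [PreservesFiniteLimits R] in
theorem π_kap : cokernel.π (R.map S.f) ≫ kap R S = R.map S.g := cokernel.π_desc _ _ _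

omit [HasExt.{w} C] [HasExt.{w'} D] in
include hS in
theorem mono_kap : Mono (kap R S) := by
  have hex : (S.map R).Exact := hS.exact.map_of_mono_of_preservesKernel R hS.mono_f inferInstance
  have hm := hex.mono_cokernelDesc
  exact hm

/-- the comparison of short exact sequences given by the counit -/
noncomputable def cmp (S : ShortComplex D) : (T R S).map L ⟶ S where
  τ₁ := adj.counit.app S.X₁
  τ₂ := adj.counit.app S.X₂
  τ₃ := L.map (kap R S) ≫ adj.counit.app S.X₃
  comm₁₂ := (adj.counit.naturality S.f).symm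
  comm₂₃ := by
    change adj.counit.app S.X₂ ≫ S.g = L.map (cokernel.π (R.map S.f)) ≫ L.map (kap R S) ≫ _
    rw [← L.map_comp_assoc, π_kap]
    exact (adj.counit.naturality S.g).symm

include hS in
theorem edge_delta (A : C) (a : ℕ) (e : Ext.{w} A (Bc R S) a) :
    edge adj A S.X₁ (a + 1) (e.comp (shortExact_T hS).extClass rfl) =
      (edge adj A S.X₃ a (e.comp (Ext.mk₀ (kap R S)) (add_zero a))).comp hS.extClass rfl := by
  have key : ((shortExact_T (R := R) hS).extClass.mapExactFunctor L).comp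
      (Ext.mk₀ (adj.counit.app S.X₁)) (add_zero 1) =
      (Ext.mk₀ (L.map (kap R S) ≫ adj.counit.app S.X₃)).comp hS.extClass (zero_add 1) := by
    rw [Ext.mapExactFunctor_extClass]
    exact ShortComplex.ShortExact.extClass_naturality ((shortExact_T (R := R) hS).map_of_exact L) hS
      (cmp adj S)
  rw [edge_apply, edge_apply, Ext.mapExactFunctor_comp, Ext.comp_assoc_of_third_deg_zero, key,
    ← Ext.mk₀_comp_mk₀, Ext.mapExactFunctor_comp, Ext.mapExactFunctor_mk₀,
    ← Ext.comp_assoc_of_second_deg_zero]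
  congr 1
  rw [Ext.comp_assoc_of_third_deg_zero]

end

section main

variable [R.Additive] [PreservesFiniteLimits R] {S : ShortComplex D} (hS : S.ShortExact)

omit [HasExt.{w} C] [HasExt.{w'} D] [R.Additive] [PreservesFiniteLimits R] [L.Additive]
  [PreservesFiniteColimits L] in
include adj in
theorem injective_R (I : D) [Injective I] : Injective (R.obj I) :=
  adj.map_injective I inferInstance

/-- `0 → B → R X₃ → coker κ → 0` -/
noncomputable abbrev K (R : D ⥤ C) [R.Additive] (S : ShortComplex D) : ShortComplex C :=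
  ShortComplex.mk (kap R S) (cokernel.π (kap R S)) (cokernel.condition _)

omit [HasExt.{w} C] [HasExt.{w'} D] in
include hS in
theorem shortExact_K : (K R S).ShortExact :=
  have := mono_kap (R := R) hS
  { exact := ShortComplex.exact_cokernel _
    mono_f := inferInstanceAs (Mono (kap R S))
    epi_g := inferInstanceAs (Epi (cokernel.π _)) }

include hS in
/-- degree zero -/
theorem kap_surj_zero (A : C) [Injective S.X₂]
    (h1 : Function.Surjective (edge adj A S.X₁ 1)) (g : A ⟶ R.obj S.X₃) :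
    ∃ e : A ⟶ Bc R S, e ≫ kap R S = g := by
  have hRI := injective_R adj S.X₂
  obtain ⟨x, hx⟩ := h1 ((Ext.mk₀ ((adj.homEquiv A S.X₃).symm g)).comp hS.extClass (zero_add 1))
  obtain ⟨e, rfl⟩ := Ext.covariant_sequence_exact₁ A (shortExact_T (R := R) hS) x
    (Ext.eq_zero_of_injective _) (rfl : 0 + 1 = 1)
  obtain ⟨e, rfl⟩ := (Ext.mk₀_bijective _ _).2 e
  rw [edge_delta adj hS A 0, Ext.mk₀_comp_mk₀, edge_mk₀] at hx
  have hx2 : (Ext.mk₀ ((adj.homEquiv A S.X₃).symm (e ≫ kap R S - g))).comp hS.extClass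
      (zero_add 1) = 0 := by
    have hh : (adj.homEquiv A S.X₃).symm (e ≫ kap R S - g) =
        (adj.homEquiv A S.X₃).symm (e ≫ kap R S) - (adj.homEquiv A S.X₃).symm g := by
      simp [Adjunction.homEquiv_counit, Preadditive.sub_comp]
    rw [hh, mk₀_sub', sub_comp', hx, sub_self]
  obtain ⟨u, hu⟩ := Ext.covariant_sequence_exact₃ (L.obj A) hS _ (rfl : 0 + 1 = 1) hx2
  obtain ⟨u, rfl⟩ := (Ext.mk₀_bijective _ _).2 u
  rw [Ext.mk₀_comp_mk₀] at hu
  have hu2 := (Ext.mk₀_bijective _ _).1 hu
  have hu3 : (adj.homEquiv A S.X₂ u) ≫ R.map S.g = e ≫ kap R S - g := by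
    rw [← adj.homEquiv_naturality_right, hu2, Equiv.apply_symm_apply]
  refine ⟨e - adj.homEquiv A S.X₂ u ≫ cokernel.π (R.map S.f), ?_⟩
  rw [Preadditive.sub_comp, Category.assoc, π_kap, hu3]
  abel

include hS in
theorem kap_inj (A : C) [Injective S.X₂] (a : ℕ)
    (h2 : Function.Injective (edge adj A S.X₁ (a + 2))) (e : Ext.{w} A (Bc R S) (a + 1))
    (he : e.comp (Ext.mk₀ (kap R S)) (add_zero (a + 1)) = 0) : e = 0 := by
  have hRI := injective_R adj S.X₂
  have h0 : e.comp (shortExact_T (R := R) hS).extClass (rfl : a + 1 + 1 = a + 1 + 1) = 0 := by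
    apply h2
    rw [map_zero, edge_delta adj hS A (a + 1), he, map_zero, Ext.zero_comp]
  obtain ⟨u, hu⟩ := Ext.covariant_sequence_exact₃ A (shortExact_T (R := R) hS) e rfl h0
  have hu0 : u = 0 := Ext.eq_zero_of_injective u
  rw [← hu, hu0, Ext.zero_comp]

include hS in
theorem hom_coker_eq_zero (A : C) [Injective S.X₂]
    (h1 : Function.Surjective (edge adj A S.X₁ 1))
    (h2 : Function.Injective (edge adj A S.X₁ 2)) (φ : A ⟶ cokernel (kap R S)) : φ = 0 := by
  have hδ : (Ext.mk₀ φ).comp (shortExact_K (R := R) hS).extClass (zero_add 1) = 0 := by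
    apply kap_inj adj hS A 0 h2
    rw [Ext.comp_assoc_of_third_deg_zero]
    have : (shortExact_K (R := R) hS).extClass.comp (Ext.mk₀ (kap R S)) (add_zero 1) = 0 :=
      (shortExact_K (R := R) hS).extClass_comp
    erw [this]
    exact Ext.comp_zero (Ext.mk₀ φ) _ _ _ _
  obtain ⟨g, hg⟩ := Ext.covariant_sequence_exact₃ A (shortExact_K (R := R) hS) _ (rfl : 0 + 1 = 1) hδ
  obtain ⟨g, rfl⟩ := (Ext.mk₀_bijective _ _).2 g
  obtain ⟨e, rfl⟩ := kap_surj_zero adj hS A h1 g
  rw [Ext.mk₀_comp_mk₀] at hg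
  have := (Ext.mk₀_bijective _ _).1 hg
  rw [← this, Category.assoc]
  erw [cokernel.condition (kap R S)]
  exact comp_zero

variable [EnoughInjectives D]

omit [HasExt.{w} C] [HasExt.{w'} D] in
include hS in
theorem nonempty_iso_coker [Injective S.X₂] :
    Nonempty ((R.rightDerived 1).obj S.X₁ ≅ cokernel (kap R S)) := by
  obtain ⟨e⟩ := Etcore.DerLES.nonempty_iso_one_of_injective R hS
  have e1 : cokernel (R.map S.g) ≅ cokernel (cokernel.π (R.map S.f) ≫ kap R S) :=
    cokernelIsoOfEq (π_kap (R := R) (S := S)).symm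
  exact ⟨e ≪≫ e1 ≪≫ cokernelEpiComp _ _⟩

/-- **The edge lemma.** -/
theorem hom_rightDerived_eq_zero (A : C) (n : ℕ) : ∀ (N : D),
    (∀ j, j < n → ∀ b, Subsingleton (Ext.{w} A ((R.rightDerived (j + 1)).obj N) b)) →
    Function.Surjective (edge adj A N (n + 1)) → Function.Injective (edge adj A N (n + 2)) →
    ∀ φ : A ⟶ (R.rightDerived (n + 1)).obj N, φ = 0 := by
  induction n with
  | zero =>
    intro N _ h1 h2 φ
    let I : InjectivePresentation N := Classical.arbitrary _
    let S := ShortComplex.mk _ _ (cokernel.condition I.f)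
    have hI : Injective S.X₂ := I.injective
    have hS : S.ShortExact := { exact := ShortComplex.exact_cokernel I.f }
    obtain ⟨e⟩ := nonempty_iso_coker (R := R) hS
    have := hom_coker_eq_zero adj hS A h1 h2 (φ ≫ e.hom)
    rw [← cancel_mono e.hom, this, zero_comp]
  | succ n ih =>
    intro N hN h1 h2 φ
    let I : InjectivePresentation N := Classical.arbitrary _
    let S := ShortComplex.mk _ _ (cokernel.condition I.f)
    have hI : Injective S.X₂ := I.injective
    have hS : S.ShortExact := { exact := ShortComplex.exact_cokernel I.f }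
    have hRI := injective_R adj S.X₂
    obtain ⟨e⟩ := nonempty_iso_coker (R := R) hS
    have hK : ∀ b, Subsingleton (Ext.{w} A (cokernel (kap R S)) b) := fun b => by
      have := hN 0 (Nat.succ_pos n) b
      refine ⟨fun x y => ?_⟩
      have hx : ∀ x : Ext.{w} A (cokernel (kap R S)) b, x = 0 := fun x => by
        have h0 : x.comp (Ext.mk₀ e.inv) (add_zero b) = 0 := Subsingleton.elim _ _
        have : x = (x.comp (Ext.mk₀ e.inv) (add_zero b)).comp (Ext.mk₀ e.hom) (add_zero b) := by
          rw [Ext.comp_assoc_of_third_deg_zero, Ext.mk₀_comp_mk₀, e.inv_hom_id, Ext.comp_mk₀_id]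
        rw [this, h0, Ext.zero_comp]
      rw [hx x, hx y]
    have hsurj : ∀ (b : ℕ) (z : Ext.{w} A (R.obj S.X₃) b),
        ∃ e : Ext.{w} A (Bc R S) b, e.comp (Ext.mk₀ (kap R S)) (add_zero b) = z := fun b z => by
      have := hK b
      exact Ext.covariant_sequence_exact₂ A (shortExact_K (R := R) hS) z (Subsingleton.elim _ _)
    obtain ⟨e'⟩ := Etcore.DerLES.nonempty_iso_of_injective R hS n
    have key := ih S.X₃ ?_ ?_ ?_ (φ ≫ e'.hom)
    · rw [← cancel_mono e'.hom, key, zero_comp]
    · intro j hj b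
      obtain ⟨e''⟩ := Etcore.DerLES.nonempty_iso_of_injective R hS j
      have := hN (j + 1) (by omega) b
      refine ⟨fun x y => ?_⟩
      have hx : ∀ x : Ext.{w} A ((R.rightDerived (j + 1)).obj S.X₃) b, x = 0 := fun x => by
        have h0 : x.comp (Ext.mk₀ e''.inv) (add_zero b) = 0 := Subsingleton.elim _ _
        have : x = (x.comp (Ext.mk₀ e''.inv) (add_zero b)).comp (Ext.mk₀ e''.hom) (add_zero b) := by
          rw [Ext.comp_assoc_of_third_deg_zero, Ext.mk₀_comp_mk₀, e''.inv_hom_id, Ext.comp_mk₀_id]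
        rw [this, h0, Ext.zero_comp]
      rw [hx x, hx y]
    · intro y
      obtain ⟨x, hx⟩ := h1 (y.comp hS.extClass rfl)
      obtain ⟨e, rfl⟩ := Ext.covariant_sequence_exact₁ A (shortExact_T (R := R) hS) x
        (Ext.eq_zero_of_injective _) (rfl : n + 1 + 1 = n + 1 + 1)
      rw [edge_delta adj hS A (n + 1)] at hx
      refine ⟨e.comp (Ext.mk₀ (kap R S)) (add_zero (n + 1)), ?_⟩
      rw [← sub_eq_zero]
      obtain ⟨u, hu⟩ := Ext.covariant_sequence_exact₃ (L.obj A) hS
        (edge adj A S.X₃ (n + 1) (e.comp (Ext.mk₀ (kap R S)) (add_zero (n + 1))) - y)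
        (rfl : n + 1 + 1 = n + 1 + 1) (by rw [sub_comp', hx, sub_self])
      have hu0 : u = 0 := Ext.eq_zero_of_injective u
      rw [← hu, hu0, Ext.zero_comp]
    · rw [injective_iff_map_eq_zero]
      intro z hz
      obtain ⟨e, rfl⟩ := hsurj _ z
      have h0 : e.comp (shortExact_T (R := R) hS).extClass (rfl : n + 2 + 1 = n + 2 + 1) = 0 := by
        apply h2
        rw [map_zero, edge_delta adj hS A (n + 2), hz, Ext.zero_comp]
      obtain ⟨u, hu⟩ := Ext.covariant_sequence_exact₃ A (shortExact_T (R := R) hS) e rfl h0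
      have hu0 : u = 0 := Ext.eq_zero_of_injective u
      rw [← hu, hu0, Ext.zero_comp, Ext.zero_comp]

end main

end Groth.Agent.EtpbcB.EdgeLemma
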