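import Groth.Agent.EtpbcB.BCIso
import Groth.Agent.Etcore.PullJoint
import Groth.Agent.Etcore.TorInv

/-!
# Morphisms satisfying base change for torsion sheaves

`BCMor S f` : for every cartesian square over `f : X ⟶ Z` with `g : T ⟶ Z` quasi-compact and quasi-separated and
every abelian sheaf `F` on `T` whose torsion orders are invertible on `S`, base change holds in every degree
(abstract isomorphism) and canonically in degree zero.  `UBC S f` : all base changes of `f` satisfy `BCMor S`.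

* `nonempty_iso_of_bc` : dimension shifting with a base change transformation invertible on a class of objects.
* `bcAt_of_van` : degree zero and vanishing for `tInv S J`, `J` injective, give base change.
* `BCMor.comp`, `BCMor.of_cover`, `UBC.comp`, `UBC.of_cover`.
* `isZero_pull_Rpush` : vanishing of a pulled back higher direct image.
-/

set_option autoImplicit false
universe v₁ v₂ v₃ v₄ u₁ u₂ u₃ u₄ u
open CategoryTheory CategoryTheory.Limits AlgebraicGeometry Opposite

noncomputable section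
namespace Groth.Agent.EtpbcB.BCU

section abs

variable {𝒳' : Type u₁} [Category.{v₁} 𝒳'] [Abelian 𝒳'] [EnoughInjectives 𝒳']
  {𝒴' : Type u₂} [Category.{v₂} 𝒴'] [Abelian 𝒴']
  {𝒳 : Type u₃} [Category.{v₃} 𝒳] [Abelian 𝒳] [EnoughInjectives 𝒳]
  {𝒴 : Type u₄} [Category.{v₄} 𝒴] [Abelian 𝒴]
  (A₁ : 𝒳' ⥤ 𝒴') [A₁.Additive] [PreservesFiniteLimits A₁]
  (G : 𝒴' ⥤ 𝒴) [G.Additive] [PreservesFiniteLimits G] [PreservesFiniteColimits G]
  (H : 𝒳' ⥤ 𝒳) [H.Additive] [PreservesFiniteLimits H] [PreservesFiniteColimits H]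
  (A₂ : 𝒳 ⥤ 𝒴) [A₂.Additive] [PreservesFiniteLimits A₂]
  (e : A₁ ⋙ G ⟶ H ⋙ A₂)

include e in
omit [PreservesFiniteLimits G] in
/-- Dimension shifting with a base change transformation which is invertible on `P`. -/
theorem nonempty_iso_of_bc (P : ObjectProperty 𝒳')
    (hP : ∀ {F F' : 𝒳'} (p : F ⟶ F') [Epi p], P F → P F')
    (he : ∀ F, P F → IsIso (e.app F))
    (hI : ∀ F, P F → ∃ (I : 𝒳') (i : F ⟶ I), Mono i ∧ P I ∧
      ∀ q, 0 < q → IsZero ((A₁.rightDerived q).obj I) ∧ IsZero ((A₂.rightDerived q).obj (H.obj I)))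
    (F : 𝒳') (hF : P F) (q : ℕ) :
    Nonempty (G.obj ((A₁.rightDerived q).obj F) ≅ (A₂.rightDerived q).obj (H.obj F)) := by
  induction q generalizing F with
  | zero =>
    have := he F hF
    exact ⟨G.mapIso (A₁.rightDerivedZeroIsoSelf.app F) ≪≫ asIso (e.app F) ≪≫
      (A₂.rightDerivedZeroIsoSelf.app (H.obj F)).symm⟩
  | succ q ih =>
    obtain ⟨I, i, hi, hPI, hac⟩ := hI F hF
    let S : ShortComplex 𝒳' := ShortComplex.mk i (cokernel.π i) (cokernel.condition i)
    have hS : S.ShortExact :=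
      { exact := ShortComplex.exact_of_g_is_cokernel _ (cokernelIsCokernel i) }
    have hSH : (S.map H).ShortExact := hS.map_of_exact H
    have hPF' : P (cokernel i) := hP (cokernel.π i) hPI
    rcases q with _ | q
    · obtain ⟨e1⟩ := Etrest.Eff.nonempty_iso_cokernel A₁ hS (hac 1 one_pos).1
      obtain ⟨e2⟩ := Etrest.Eff.nonempty_iso_cokernel A₂ hSH (hac 1 one_pos).2
      have h1 := he I hPI
      have h2 := he _ hPF'
      refine ⟨G.mapIso e1 ≪≫ PreservesCokernel.iso G _ ≪≫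
        cokernel.mapIso _ _ (asIso (e.app I)) (asIso (e.app (cokernel i)))
          (e.naturality _) ≪≫ e2.symm⟩
    · obtain ⟨e3⟩ := ih (cokernel i) hPF'
      have h1 := Etrest.RDer1.isIso_δ A₁ hS (q + 1) (hac _ (Nat.succ_pos _)).1
        (hac _ (Nat.succ_pos _)).1
      have h2 := Etrest.RDer1.isIso_δ A₂ hSH (q + 1) (hac _ (Nat.succ_pos _)).2
        (hac _ (Nat.succ_pos _)).2
      exact ⟨G.mapIso (@asIso _ _ _ _ _ h1).symm ≪≫ e3 ≪≫ @asIso _ _ _ _ _ h2⟩

end abs

open EtCoh Etcore.TorInv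

/-- `F` is acyclic for `g_*`. -/
def Acyc {T S : Scheme.{u}} (g : T ⟶ S) (F : Ab T) : Prop :=
  ∀ q : ℕ, 0 < q → IsZero ((Rpush g q).obj F)

lemma Acyc.of_iso {T S : Scheme.{u}} {g : T ⟶ S} {F F' : Ab T} (hF : Acyc g F) (e : F ≅ F') :
    Acyc g F' :=
  fun q hq => (hF q hq).of_iso ((Rpush g q).mapIso e.symm)

lemma acyc_tInv {T Z S : Scheme.{u}} (g : T ⟶ Z) [QuasiCompact g] [QuasiSeparated g] (s : Z ⟶ S)
    (J : Ab T) [Injective J] : Acyc g (tInv S J) :=
  fun q hq => isZero_Rpush g s J q hq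

/-- Base change for one cartesian square and one sheaf. -/
def BCAt {X Z Y T : Scheme.{u}} (f : X ⟶ Z) (g : T ⟶ Z) (h : Y ⟶ X) (e : Y ⟶ T)
    (w : e ≫ g = h ≫ f) (F : Ab T) : Prop :=
  (∀ q : ℕ, Nonempty ((pull f).obj ((Rpush g q).obj F) ≅ (Rpush h q).obj ((pull e).obj F))) ∧
    IsIso (baseChange0 g f h e w F)

/-- `f` satisfies base change for sheaves with torsion orders invertible on `S`, against all quasi-compact
quasi-separated morphisms. -/
def BCMor (S : Scheme.{u}) {X Z : Scheme.{u}} (f : X ⟶ Z) : Prop :=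
  ∀ ⦃T Y : Scheme.{u}⦄ (g : T ⟶ Z) [QuasiCompact g] [QuasiSeparated g] (h : Y ⟶ X) (e : Y ⟶ T)
    (sq : IsPullback e h g f) (F : Ab T), EtPBC.IsTorsionInvertibleOn S F → BCAt f g h e sq.w F

variable {S : Scheme.{u}}

/-- Base change from degree zero and vanishing for the sheaves `tInv S J`. -/
theorem bcAt_of_van {X Z Y T : Scheme.{u}} {f : X ⟶ Z} {g : T ⟶ Z} {h : Y ⟶ X} {e : Y ⟶ T}
    (w : e ≫ g = h ≫ f)
    (h0 : ∀ F : Ab T, EtPBC.IsTorsionInvertibleOn S F → IsIso (baseChange0 g f h e w F))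
    (hg : ∀ (J : Ab T) [Injective J], Acyc g (tInv S J))
    (hh : ∀ (J : Ab T) [Injective J], Acyc h ((pull e).obj (tInv S J)))
    (F : Ab T) (hF : EtPBC.IsTorsionInvertibleOn S F) : BCAt f g h e w F := by
  refine ⟨fun q => ?_, h0 F hF⟩
  have i1 : PreservesFiniteLimits (pull f) := Groth.Agent.S0101.result f
  have i2 : PreservesFiniteLimits (pull e) := Groth.Agent.S0101.result e
  exact nonempty_iso_of_bc (push g) (pull f) (pull e) (push h) (BCCalc.bcNat w)
    (EtPBC.IsTorsionInvertibleOn S) (fun p _ h => isTorsionInvertibleOn_of_epi S p h)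
    (fun F hF => h0 F hF) (fun F hF => by
      obtain ⟨J, hJ, i, hi⟩ := exists_mono S F hF
      exact ⟨tInv S J, i, hi, isTorsionInvertibleOn_tInv S J,
        fun q hq => ⟨hg J q hq, hh J q hq⟩⟩) F hF q

lemma BCMor.acyc {X Z Y T : Scheme.{u}} {f : X ⟶ Z} (hf : BCMor S f) {g : T ⟶ Z} [QuasiCompact g]
    [QuasiSeparated g] {h : Y ⟶ X} {e : Y ⟶ T} (sq : IsPullback e h g f) {F : Ab T}
    (hF : EtPBC.IsTorsionInvertibleOn S F) (hg : Acyc g F) : Acyc h ((pull e).obj F) := by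
  intro q hq
  obtain ⟨i⟩ := (hf g h e sq F hF).1 q
  exact ((pull f).map_isZero (hg q hq)).of_iso i.symm

/-- Composition. -/
theorem BCMor.comp {X' X Z : Scheme.{u}} {u : X' ⟶ X} {f : X ⟶ Z} (hf : BCMor S f)
    (hu : BCMor S u) : BCMor S (u ≫ f) := by
  intro T Y g _ _ h e sq F hF
  obtain ⟨l, hl1, hl2⟩ : ∃ l : Y ⟶ pullback g f, l ≫ pullback.fst g f = e ∧
      l ≫ pullback.snd g f = h ≫ u :=
    ⟨pullback.lift e (h ≫ u) (by rw [Category.assoc]; exact sq.w), pullback.lift_fst _ _ _,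
      pullback.lift_snd _ _ _⟩
  subst hl1
  have sq1 : IsPullback (pullback.fst g f) (pullback.snd g f) g f := IsPullback.of_hasPullback g f
  have sq2 : IsPullback l h (pullback.snd g f) u := IsPullback.of_right sq hl2 sq1
  have b1 := hf g (pullback.snd g f) (pullback.fst g f) sq1 F hF
  have b2 := hu (pullback.snd g f) h l sq2 ((pull (pullback.fst g f)).obj F)
    (Etcore.Torsion.isTorsionInvertibleOn_pull S _ F hF)
  refine ⟨fun q => ?_, ?_⟩
  · obtain ⟨i1⟩ := b1.1 q
    obtain ⟨i2⟩ := b2.1 q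
    exact ⟨((BCCalc.pullComp f u).app _).symm ≪≫ (pull u).mapIso i1 ≪≫ i2 ≪≫
      (Rpush h q).mapIso ((BCCalc.pullComp (pullback.fst g f) l).app F)⟩
  · have i1 := b1.2
    have i2 := b2.2
    exact BCIso.isIso_hpaste sq1.w sq2.w sq.w F inferInstance i2

/-- Descent of base change along a jointly surjective family of morphisms satisfying base change. -/
theorem BCMor.of_cover {X Z : Scheme.{u}} {f : X ⟶ Z} (s : Z ⟶ S) {ι : Type*} {X' : ι → Scheme.{u}}
    (u : ∀ i, X' i ⟶ X) (hsurj : ∀ x : X, ∃ (i : ι) (y : X' i), (u i) y = x)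
    (hu : ∀ i, BCMor S (u i)) (hf : ∀ i, BCMor S (u i ≫ f)) : BCMor S f := by
  intro T Y g _ _ h e sq F hF
  have hqc : QuasiCompact h := MorphismProperty.of_isPullback sq inferInstance
  have hqs : QuasiSeparated h := MorphismProperty.of_isPullback sq inferInstance
  have sq1 : ∀ i, IsPullback (pullback.fst h (u i)) (pullback.snd h (u i)) h (u i) :=
    fun i => IsPullback.of_hasPullback h (u i)
  have sq2 : ∀ i, IsPullback (pullback.fst h (u i) ≫ e) (pullback.snd h (u i)) g (u i ≫ f) :=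
    fun i => (sq1 i).paste_horiz sq
  refine bcAt_of_van sq.w (fun F hF => ?_) (fun J _ => acyc_tInv g s J) (fun J _ => ?_) F hF
  · refine Etcore.PullJoint.isIso_of_pull u hsurj _ fun i => ?_
    exact BCIso.isIso_of_hpaste sq.w (sq1 i).w (sq2 i).w F (hf i g _ _ (sq2 i) F hF).2
      (hu i h _ _ (sq1 i) _ (Etcore.Torsion.isTorsionInvertibleOn_pull S _ F hF)).2
  · intro q hq
    refine Etcore.PullJoint.isZero_of_pull u hsurj _ fun i => ?_
    have hJ := isTorsionInvertibleOn_tInv S J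
    obtain ⟨i2⟩ := (hu i h _ _ (sq1 i) _ (Etcore.Torsion.isTorsionInvertibleOn_pull S e _ hJ)).1 q
    have h1 := (hf i).acyc (sq2 i) hJ (acyc_tInv g s J) q hq
    exact h1.of_iso (i2 ≪≫ (Rpush _ q).mapIso ((BCCalc.pullComp e (pullback.fst h (u i))).app _))

/-- Vanishing of a pulled back higher direct image. -/
theorem isZero_pull_Rpush {X' X Z Y T : Scheme.{u}} {u : X' ⟶ X} {f : X ⟶ Z} (hu : BCMor S u)
    (huf : BCMor S (u ≫ f)) {g : T ⟶ Z} [QuasiCompact g]
    [QuasiSeparated g] {h : Y ⟶ X} {e : Y ⟶ T} (sq : IsPullback e h g f) {F : Ab T}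
    (hF : EtPBC.IsTorsionInvertibleOn S F) (hg : Acyc g F) {q : ℕ} (hq : 0 < q) :
    IsZero ((pull u).obj ((Rpush h q).obj ((pull e).obj F))) := by
  have hqc : QuasiCompact h := MorphismProperty.of_isPullback sq inferInstance
  have hqs : QuasiSeparated h := MorphismProperty.of_isPullback sq inferInstance
  have sq1 : IsPullback (pullback.fst h u) (pullback.snd h u) h u :=
    IsPullback.of_hasPullback h u
  have sq2 : IsPullback (pullback.fst h u ≫ e) (pullback.snd h u) g (u ≫ f) := sq1.paste_horiz sq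
  obtain ⟨i2⟩ := (hu h _ _ sq1 _ (Etcore.Torsion.isTorsionInvertibleOn_pull S e _ hF)).1 q
  have h1 := huf.acyc sq2 hF hg q hq
  exact h1.of_iso (i2 ≪≫ (Rpush _ q).mapIso ((BCCalc.pullComp e (pullback.fst h u)).app _))

/-- Base change holds for squares in which the horizontal direct images are equivalences. -/
theorem bcAt_of_isEquivalence {X Z Y T : Scheme.{u}} {f : X ⟶ Z} {g : T ⟶ Z} {h : Y ⟶ X} {e : Y ⟶ T}
    (w : e ≫ g = h ≫ f) (i1 : (push f).IsEquivalence) (i2 : (push e).IsEquivalence) (F : Ab T) :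
    BCAt f g h e w F := by
  have i3 : (pull f).IsEquivalence := (pullPushAdj f).isEquivalence_left_of_isEquivalence_right
  have i4 : (pull e).IsEquivalence := (pullPushAdj e).isEquivalence_left_of_isEquivalence_right
  have h0 : ∀ F : Ab T, IsIso (baseChange0 g f h e w F) := by
    intro F
    have h1 : IsIso ((pullPushAdj f).unit.app ((push g).obj F) ≫
        (push f).map (baseChange0 g f h e w F)) := by
      rw [BCCalc.unit_baseChange0 w F]
      infer_instance
    have h2 : IsIso ((push f).map (baseChange0 g f h e w F)) :=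
      IsIso.of_isIso_comp_left ((pullPushAdj f).unit.app ((push g).obj F)) _
    exact isIso_of_reflects_iso _ (push f)
  refine ⟨fun q => ?_, h0 F⟩
  exact nonempty_iso_of_bc (push g) (pull f) (pull e) (push h) (BCCalc.bcNat w)
    (fun _ => True) (fun _ _ _ => trivial) (fun F _ => h0 F) (fun F _ => by
      refine ⟨Injective.under F, Injective.ι F, inferInstance, trivial, fun q hq => ?_⟩
      obtain ⟨q, rfl⟩ := Nat.exists_eq_succ_of_ne_zero hq.ne'
      have h3 : Injective ((pull e).obj (Injective.under F)) :=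
        ((pull e).asEquivalence.map_injective_iff (Injective.under F)).2 inferInstance
      exact ⟨Functor.isZero_rightDerived_obj_injective_succ _ _ _,
        Functor.isZero_rightDerived_obj_injective_succ _ _ _⟩) F trivial q

/-- Base change along an isomorphism. -/
theorem BCMor.of_isIso {X Z : Scheme.{u}} (f : X ⟶ Z) [IsIso f] : BCMor S f := by
  intro T Y g _ _ h e sq F hF
  have he : IsIso e := sq.isIso_fst_of_isIso inferInstance
  exact bcAt_of_isEquivalence sq.w inferInstance inferInstance F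

theorem BCMor.precomp_iso {X' X Z : Scheme.{u}} (i : X' ⟶ X) [IsIso i] {f : X ⟶ Z} (hf : BCMor S f) :
    BCMor S (i ≫ f) := hf.comp (BCMor.of_isIso i)

theorem BCMor.postcomp_iso {X Z Z' : Scheme.{u}} {f : X ⟶ Z} (hf : BCMor S f) (i : Z ⟶ Z') [IsIso i] :
    BCMor S (f ≫ i) := (BCMor.of_isIso i).comp hf

theorem isTorsionInvertibleOn_of_hom {S' S : Scheme.{u}} (s : S' ⟶ S) {T : Scheme.{u}} {F : Ab T}
    (hF : EtPBC.IsTorsionInvertibleOn S F) : EtPBC.IsTorsionInvertibleOn S' F := by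
  intro U t x
  obtain ⟨V, g, n, hv, hn, h0⟩ := hF U t x
  refine ⟨V, g, n, hv, ?_, h0⟩
  have := hn.map s.appTop.hom
  rwa [map_natCast] at this

theorem BCMor.of_hom {S' S : Scheme.{u}} (s : S' ⟶ S) {X Z : Scheme.{u}} {f : X ⟶ Z}
    (hf : BCMor S' f) : BCMor S f :=
  fun _ _ g _ _ h e sq F hF => hf g h e sq F (isTorsionInvertibleOn_of_hom s hF)

/-- All base changes of `a` satisfy base change. -/
def UBC (S : Scheme.{u}) {X B : Scheme.{u}} (a : X ⟶ B) : Prop :=
  ∀ ⦃X' B' : Scheme.{u}⦄ (b : B' ⟶ B) (p : X' ⟶ X) (f' : X' ⟶ B'), IsPullback p f' a b → BCMor S f'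

theorem UBC.bcMor {X B : Scheme.{u}} {a : X ⟶ B} (ha : UBC S a) : BCMor S a :=
  ha (𝟙 B) (𝟙 X) a (IsPullback.of_id_fst)

theorem UBC.of_isPullback {X B X' B' : Scheme.{u}} {a : X ⟶ B} (ha : UBC S a) {b : B' ⟶ B}
    {p : X' ⟶ X} {f' : X' ⟶ B'} (sq : IsPullback p f' a b) : UBC S f' :=
  fun _ _ b' _ f'' sq' => ha (b' ≫ b) _ f'' (sq'.paste_horiz sq)

theorem UBC.of_isIso {X B : Scheme.{u}} (a : X ⟶ B) [IsIso a] : UBC S a := by
  intro X' B' b p f' sq
  have : IsIso f' := sq.isIso_snd_of_isIso inferInstance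
  exact BCMor.of_isIso f'

theorem UBC.comp {X₂ X B : Scheme.{u}} {u : X₂ ⟶ X} {a : X ⟶ B} (ha : UBC S a) (hu : UBC S u) :
    UBC S (u ≫ a) := by
  intro X' B' b p f' sq
  have sq1 : IsPullback (pullback.fst a b) (pullback.snd a b) a b := IsPullback.of_hasPullback a b
  obtain ⟨l, hl1, hl2⟩ : ∃ l : X' ⟶ pullback a b, l ≫ pullback.fst a b = p ≫ u ∧
      l ≫ pullback.snd a b = f' :=
    ⟨pullback.lift (p ≫ u) f' (by rw [Category.assoc]; exact sq.w), pullback.lift_fst _ _ _,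
      pullback.lift_snd _ _ _⟩
  subst hl2
  have sq2 : IsPullback p l u (pullback.fst a b) := IsPullback.of_bot sq hl1.symm sq1
  exact (ha b _ _ sq1).comp (hu _ _ _ sq2)

theorem UBC.of_hom {S' S : Scheme.{u}} (s : S' ⟶ S) {X B : Scheme.{u}} {a : X ⟶ B}
    (ha : UBC S' a) : UBC S a :=
  fun _ _ b p f' sq => BCMor.of_hom s (ha b p f' sq)

theorem UBC.of_cover {X B : Scheme.{u}} {a : X ⟶ B} (s : B ⟶ S) {ι : Type*} {X₂ : ι → Scheme.{u}}
    (u : ∀ i, X₂ i ⟶ X) (hsurj : ∀ x : X, ∃ (i : ι) (y : X₂ i), (u i) y = x)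
    (hu : ∀ i, UBC S (u i)) (hf : ∀ i, UBC S (u i ≫ a)) : UBC S a := by
  intro X' B' b p f' sq
  refine BCMor.of_cover (b ≫ s) (fun i => pullback.snd (u i) p) (fun x => ?_)
    (fun i => hu i _ _ _ (IsPullback.of_hasPullback (u i) p))
    (fun i => hf i b _ _ ((IsPullback.of_hasPullback (u i) p).paste_vert sq))
  obtain ⟨i, y, hy⟩ := hsurj (p x)
  obtain ⟨z, -, hz⟩ := Scheme.Pullback.exists_preimage_pullback (f := u i) (g := p) y x hy
  exact ⟨i, z, hz⟩

end Groth.Agent.EtpbcB.BCU
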