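import Groth.Agent.EtpbcB.BCMor
import Groth.Agent.S0631

/-!
# Universal homeomorphisms satisfy base change
-/

set_option autoImplicit false
universe u
open CategoryTheory CategoryTheory.Limits AlgebraicGeometry Opposite

noncomputable section
namespace Groth.Agent.EtpbcB.BCU

open EtCoh Etcore.TorInv

variable {S : Scheme.{u}}

/-- Direct image along a universal homeomorphism is an equivalence. -/
theorem push_isEquivalence {X Y : Scheme.{u}} (i : X ⟶ Y) [IsIntegralHom i]
    [UniversallyInjective i] [Surjective i] : (push i).IsEquivalence := by
  obtain ⟨h1, h2, h3, -⟩ := Groth.Agent.S0631.result i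
  have h4 : (EtCoh.push i).EssSurj := ⟨fun G => by
    obtain ⟨Y, hY⟩ := (h3 G).2 (by
      rw [i.surjective.range_eq]
      exact Set.subset_univ _)
    exact ⟨Y, hY⟩⟩
  exact {}

/-- Base change along universal homeomorphisms. -/
theorem BCMor.of_univHomeo {X Z : Scheme.{u}} (f : X ⟶ Z) [IsIntegralHom f] [UniversallyInjective f]
    [Surjective f] : BCMor S f := by
  intro T Y g _ _ h e sq F hF
  have h1 : IsIntegralHom e := MorphismProperty.of_isPullback sq.flip inferInstance
  have h2 : UniversallyInjective e := MorphismProperty.of_isPullback sq.flip inferInstance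
  have h3 : Surjective e := MorphismProperty.of_isPullback sq.flip inferInstance
  exact bcAt_of_isEquivalence sq.w (push_isEquivalence f) (push_isEquivalence e) F

theorem UBC.of_univHomeo {X B : Scheme.{u}} (a : X ⟶ B) [IsIntegralHom a] [UniversallyInjective a]
    [Surjective a] : UBC S a := by
  intro X' B' b p f' sq
  have h1 : IsIntegralHom f' := MorphismProperty.of_isPullback sq inferInstance
  have h2 : UniversallyInjective f' := MorphismProperty.of_isPullback sq inferInstance
  have h3 : Surjective f' := MorphismProperty.of_isPullback sq inferInstance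
  exact BCMor.of_univHomeo f'

end Groth.Agent.EtpbcB.BCU
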