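import Groth.Agent.EtpbcB.OshHens
import Groth.Agent.Etrest.SHBase
import Groth.Agent.Flat2B.FlatIndEtale
import Groth.Agent.Hensel.Lazard

/-!
# The map of étale local rings induced by a morphism of schemes

For `f : X ⟶ Y` and a geometric point `ξ` of `X`:
* `psi f ξ : Spec (Osh ξ) ⟶ Spec (Osh (ξ ≫ f))`, `psi_toBase`, `pt_psi`;
* `psiHom f ξ : Osh (ξ ≫ f) →+* Osh ξ` with `spm (psiHom f ξ) = psi f ξ`, a local homomorphism;
* `flat_psi` : flat if `f` is;
* `psiHom_comp` : compatible with the structure of strict henselizations.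
-/

set_option autoImplicit false
set_option backward.isDefEq.respectTransparency.types false
universe u
open CategoryTheory CategoryTheory.Limits AlgebraicGeometry Opposite IsLocalRing

namespace Groth.Agent.EtpbcB.Psi

open EtCoh Groth.Agent.EtpbcB.StrictLoc Groth.Agent.Etrest.StrictLoc Groth.Agent.EtpbcB.OshHens

/-- Two morphisms from a local scheme to an unramified scheme which agree at a point over the closed
point are equal. -/
theorem eq_of_pt {U Y : Scheme.{u}} (π : U ⟶ Y) [FormallyUnramified π] [LocallyOfFiniteType π]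
    {T : Type u} [CommRing T] [IsLocalRing T] (a b : Spec (CommRingCat.of T) ⟶ U)
    (h : a ≫ π = b ≫ π) {W : Scheme.{u}} (t : W ⟶ Spec (CommRingCat.of T))
    (ht : closedPoint T ∈ Set.range t) (hr : t ≫ a = t ≫ b) : a = b := by
  have h1 := Sga1.EtaleSection.isOpenImmersion_equalizer π a b h
  have h2 : Surjective (equalizer.ι a b) := by
    refine ⟨fun z => ?_⟩
    obtain ⟨y, hy⟩ := ht
    have h3 : closedPoint T ∈ (equalizer.ι a b).opensRange := by
      refine ⟨(equalizer.lift t hr) y, ?_⟩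
      rw [← Scheme.Hom.comp_apply, equalizer.lift_ι]
      exact hy
    have h4 : z ∈ (equalizer.ι a b).opensRange :=
      (specializes_closedPoint (R := T) z).mem_open (equalizer.ι a b).opensRange.2 h3
    exact h4
  have h3 : IsIso (equalizer.ι a b) :=
    (isIso_iff_isOpenImmersion_and_surjective _).2 ⟨h1, h2⟩
  rw [← cancel_epi (equalizer.ι a b), equalizer.condition]

variable {X Y : Scheme.{u}} {Ω : Type u} [Field Ω] [IsSepClosed Ω]

/-- Morphisms from the strict localization to an unramified scheme are determined on the geometric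
point. -/
theorem eq_of_pt' {U : Scheme.{u}} (ξ : Spec (CommRingCat.of Ω) ⟶ X) (π : U ⟶ Y)
    [FormallyUnramified π] [LocallyOfFiniteType π]
    (a b : Spec (Osh ξ) ⟶ U) (h : a ≫ π = b ≫ π) (hr : pt ξ ≫ a = pt ξ ≫ b) : a = b :=
  @eq_of_pt U Y π _ _ (Osh ξ) _ inferInstance a b h _ (pt ξ) ⟨default, pt_default ξ⟩ hr

variable (f : X ⟶ Y) (ξ : Spec (CommRingCat.of Ω) ⟶ X)

/-- Every pointed étale neighbourhood is dominated by some `D i`. -/
theorem exists_dom (U : X.Etale) (l : Spec (CommRingCat.of Ω) ⟶ U.left) (hl : l ≫ U.hom = ξ) :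
    ∃ (i : Idx ξ) (m : (D ξ).obj i ⟶ U), lft ξ i ≫ m.left = l := by
  obtain ⟨i, m, hm⟩ := exists_hom ξ U (Over.homMk l hl)
  exact ⟨i, m, congrArg (fun z => CommaMorphism.left z) hm⟩

theorem exists_chi_aux (V : Y.Etale) (l₀ : Spec (CommRingCat.of Ω) ⟶ V.left)
    (e : l₀ ≫ V.hom = ξ ≫ f) : ∃ χ : Spec (Osh ξ) ⟶ V.left,
    χ ≫ V.hom = toBase ξ ≫ f ∧ pt ξ ≫ χ = l₀ := by
  obtain ⟨l, hl1, hl2⟩ : ∃ l : Spec (CommRingCat.of Ω) ⟶ ((bc f).obj V).left,
      l ≫ BCCalc.pr f V = l₀ ∧ l ≫ ((bc f).obj V).hom = ξ :=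
    ⟨(BCCalc.isPullback_pr f V).lift l₀ ξ e, (BCCalc.isPullback_pr f V).lift_fst _ _ _,
      (BCCalc.isPullback_pr f V).lift_snd _ _ _⟩
  obtain ⟨i, m, hm'⟩ := exists_dom ξ ((bc f).obj V) l hl2
  refine ⟨leg ξ i ≫ m.left ≫ BCCalc.pr f V, ?_, ?_⟩
  · rw [Category.assoc, Category.assoc, BCCalc.pr_hom, ← Category.assoc m.left, BCCalc.left_hom,
      ← Category.assoc, leg_hom]
  · rw [← Category.assoc, pt_leg, ← Category.assoc, hm', hl1]

theorem exists_chi (j : Idx (ξ ≫ f)) : ∃ χ : Spec (Osh ξ) ⟶ ((D (ξ ≫ f)).obj j).left,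
    χ ≫ ((D (ξ ≫ f)).obj j).hom = toBase ξ ≫ f ∧ pt ξ ≫ χ = lft (ξ ≫ f) j :=
  exists_chi_aux f ξ _ _ (lft_hom _ _)

/-- The components of `psi`. -/
noncomputable def chi (j : Idx (ξ ≫ f)) : Spec (Osh ξ) ⟶ ((D (ξ ≫ f)).obj j).left :=
  (exists_chi f ξ j).choose

theorem chi_hom (j : Idx (ξ ≫ f)) :
    chi f ξ j ≫ ((D (ξ ≫ f)).obj j).hom = toBase ξ ≫ f := (exists_chi f ξ j).choose_spec.1

theorem pt_chi (j : Idx (ξ ≫ f)) : pt ξ ≫ chi f ξ j = lft (ξ ≫ f) j :=
  (exists_chi f ξ j).choose_spec.2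

theorem chi_map {i j : Idx (ξ ≫ f)} (g : i ⟶ j) :
    chi f ξ i ≫ ((D (ξ ≫ f)).map g).left = chi f ξ j := by
  apply eq_of_pt' ξ ((D (ξ ≫ f)).obj j).hom
  · rw [Category.assoc, BCCalc.left_hom, chi_hom, chi_hom]
  · rw [← Category.assoc, pt_chi, pt_chi, lft_map]

/-- The morphism of strict localizations. -/
noncomputable def psi : Spec (Osh ξ) ⟶ Spec (Osh (ξ ≫ f)) :=
  (isLimitCone (ξ ≫ f)).lift
    { pt := Spec (Osh ξ)
      π := { app := fun j => chi f ξ j
             naturality := fun _ _ g => (Category.id_comp _).trans (chi_map f ξ g).symm } }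

@[reassoc]
theorem psi_leg (j : Idx (ξ ≫ f)) : psi f ξ ≫ leg (ξ ≫ f) j = chi f ξ j :=
  (isLimitCone (ξ ≫ f)).fac _ j

@[reassoc]
theorem psi_toBase : psi f ξ ≫ toBase (ξ ≫ f) = toBase ξ ≫ f := by
  rw [← leg_hom (ξ ≫ f) (i₀ (ξ ≫ f)), psi_leg_assoc, chi_hom]

@[reassoc]
theorem pt_psi : pt ξ ≫ psi f ξ = pt (ξ ≫ f) := by
  apply hom_ext_leg
  intro i
  rw [Category.assoc, psi_leg, pt_chi, pt_leg]

/-- The map of étale local rings. -/
noncomputable def psiHom : Osh (ξ ≫ f) →+* Osh ξ := (Spec.preimage (psi f ξ)).hom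

theorem spm_psiHom : Spec.map (CommRingCat.ofHom (psiHom f ξ)) = psi f ξ :=
  Spec.map_preimage (psi f ξ)

theorem isLocalHom_psiHom : IsLocalHom (psiHom f ξ) := by
  have h1 : IsLocalRing (Osh ξ) := inferInstance
  have h2 : IsLocalRing (Osh (ξ ≫ f)) := inferInstance
  have h3 := @isLocalHom_iff_comap_closedPoint (Osh (ξ ≫ f)) _ h2 (Osh ξ) _ h1 (psiHom f ξ)
  refine h3.2 ?_
  have h4 : psi f ξ (pt ξ default) = pt (ξ ≫ f) default := by
    rw [← pt_psi]
    rfl
  rw [pt_default, pt_default, ← spm_psiHom] at h4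
  exact h4

/-- Compatibility with the local rings. -/
theorem psiHom_comp (x : X) [Algebra (X.presheaf.stalk x) (Osh ξ)]
    [Algebra (Y.presheaf.stalk (f.base x)) (Osh (ξ ≫ f))]
    (h1 : Hens2.specOf X x (Osh ξ) = toBase ξ)
    (h2 : Hens2.specOf Y (f.base x) (Osh (ξ ≫ f)) = toBase (ξ ≫ f)) :
    (psiHom f ξ).comp (algebraMap (Y.presheaf.stalk (f.base x)) (Osh (ξ ≫ f))) =
      (algebraMap (X.presheaf.stalk x) (Osh ξ)).comp (f.stalkMap x).hom := by
  apply Etrest.SHBase.ringHom_eq_of_spec (F := Y) (f.base x)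
  have e1 : Spec.map (CommRingCat.ofHom ((psiHom f ξ).comp
      (algebraMap (Y.presheaf.stalk (f.base x)) (Osh (ξ ≫ f))))) ≫ Y.fromSpecStalk (f.base x) =
      psi f ξ ≫ Hens2.specOf Y (f.base x) (Osh (ξ ≫ f)) := by
    rw [CommRingCat.ofHom_comp, Spec.map_comp, Category.assoc, ← spm_psiHom]
  have e2 : Spec.map (CommRingCat.ofHom ((algebraMap (X.presheaf.stalk x) (Osh ξ)).comp
      (f.stalkMap x).hom)) ≫ Y.fromSpecStalk (f.base x) = Hens2.specOf X x (Osh ξ) ≫ f := by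
    have h3 := Scheme.SpecMap_stalkMap_fromSpecStalk f (x := x)
    rw [CommRingCat.ofHom_comp, Spec.map_comp, Category.assoc]
    have h4 : Spec.map (CommRingCat.ofHom (f.stalkMap x).hom) ≫ Y.fromSpecStalk (f.base x) =
      X.fromSpecStalk x ≫ f := h3
    rw [h4, Hens2.specOf, Category.assoc]
  rw [e1, e2, h1, h2, psi_toBase]

/-- The map of strict localizations is flat if `f` is. -/
theorem flat_psi [Flat f] : Flat (psi f ξ) := by
  obtain ⟨alg1, loc1, sh1, h1⟩ := exists_isStrictHenselization ξ (ξ default) rfl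
  obtain ⟨alg2, loc2, sh2, h2⟩ :=
    exists_isStrictHenselization (ξ ≫ f) (f.base (ξ default)) rfl
  have h3 := psiHom_comp f ξ (ξ default) h1 h2
  let R := Y.presheaf.stalk (f.base (ξ default))
  let algST : Algebra (Osh (ξ ≫ f)) (Osh ξ) := (psiHom f ξ).toAlgebra
  let algRT : Algebra R (Osh ξ) := ((algebraMap (X.presheaf.stalk (ξ default)) (Osh ξ)).comp
    (f.stalkMap (ξ default)).hom).toAlgebra
  have tow : IsScalarTower R (Osh (ξ ≫ f)) (Osh ξ) := IsScalarTower.of_algebraMap_eq' h3.symm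
  have hfl1 : (algebraMap (X.presheaf.stalk (ξ default)) (Osh ξ)).Flat :=
    RingHom.flat_algebraMap_iff.2 (Hensel.Lazard.faithfullyFlat_of_isStrictHenselization
      (X.presheaf.stalk (ξ default)) (Osh ξ)).toFlat
  have hfl2 : (f.stalkMap (ξ default)).hom.Flat := Flat.stalkMap f _
  have hfl3 : Module.Flat R (Osh ξ) := hfl2.comp hfl1
  have hsh : Flat2B.FlatIndEtale.FinEtale R (Osh (ξ ≫ f)) := fun s =>
    Hensel.Lazard.exists_etale_of_isStrictHenselization _ _ s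
  have hfl4 : Module.Flat (Osh (ξ ≫ f)) (Osh ξ) := Flat2B.FlatIndEtale.flat_of_flat hsh (Osh ξ)
  rw [← spm_psiHom]
  exact (HasRingHomProperty.Spec_iff (P := @Flat)).2 hfl4

end Groth.Agent.EtpbcB.Psi
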