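import Groth.Agent.EtpbcB.BCCrit
import Groth.Agent.EtpbcB.FamUp
import Groth.Agent.EtpbcB.FamSec
import Groth.Agent.EtpbcB.LimSec
import Groth.Agent.EtpbcB.Psi

/-!
# Degree zero base change from connectedness of the fibres of strict localizations

`isIso_baseChange0_of_strict` : for `f : X ⟶ S` flat such that the morphisms
`Spec O_X^sh ⟶ Spec O_S^sh` of strict localizations have connected geometric fibres, and `g : T ⟶ S`
quasi-compact and quasi-separated, the degree zero base change map is an isomorphism.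
-/

set_option autoImplicit false
set_option backward.isDefEq.respectTransparency.types false
universe u
open CategoryTheory CategoryTheory.Limits AlgebraicGeometry Opposite

namespace Groth.Agent.EtpbcB.BCStrict

open Groth.Agent.EtpbcB.Big Groth.Agent.EtpbcB.BCCrit Groth.Agent.EtpbcB.StrictLoc
  Groth.Agent.EtpbcB.Psi EtCoh

variable {X S Y T : Scheme.{u}} {f : X ⟶ S} {g : T ⟶ S} {h : Y ⟶ X} {e : Y ⟶ T}

theorem kap_comp (w : e ≫ g = h ≫ f) {V : S.Etale} {U U' : X.Etale} (a : U' ⟶ U)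
    (b : U ⟶ (bc f).obj V) :
    kap g f h e w (a ≫ b) = ((bc h).map a).left ≫ kap g f h e w b := by
  apply hom_ext_bc g
  · rw [kap_fst, Category.assoc, kap_fst, ← Category.assoc ((bc h).map a).left, bc_map_fst,
      Category.assoc]
    rfl
  · rw [kap_hom, Category.assoc, kap_hom, ← Category.assoc, et_w]

theorem kap_comp' (w : e ≫ g = h ≫ f) {V V' : S.Etale} {U : X.Etale} (c : V ⟶ V')
    (b : U ⟶ (bc f).obj V) :
    kap g f h e w (b ≫ (bc f).map c) = kap g f h e w b ≫ ((bc g).map c).left := by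
  apply hom_ext_bc g
  · rw [kap_fst, Category.assoc, bc_map_fst, ← Category.assoc (kap g f h e w b), kap_fst]
    have h1 : (b ≫ (bc f).map c).left = b.left ≫ ((bc f).map c).left := rfl
    rw [h1, Category.assoc, Category.assoc, bc_map_fst, Category.assoc]
  · rw [kap_hom, Category.assoc, et_w, kap_hom]

theorem res_eq_res {X Z Z' Z₁ Z₂ : Scheme.{u}} {F : EtCoh.Ab X} {q₁ : Z₁ ⟶ X} {q₂ : Z₂ ⟶ X}
    {v : Fam F q₁} {w : Fam F q₂} {A' : Z ⟶ Z₁} {B' : Z ⟶ Z₂} {q : Z ⟶ X} {hA' : A' ≫ q₁ = q}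
    {hB' : B' ≫ q₂ = q} {M : Z' ⟶ Z} {q' q'' : Z' ⟶ X} {hM : M ≫ q = q'}
    (h : (v.res A' hA').res M hM = (w.res B' hB').res M hM) {A : Z' ⟶ Z₁} {B : Z' ⟶ Z₂}
    (hA : A ≫ q₁ = q'') (hB : B ≫ q₂ = q'') (eA : M ≫ A' = A) (eB : M ≫ B' = B) :
    v.res A hA = w.res B hB := by
  subst eA eB hM hA'
  ext Ω _ _ l ξ hl
  have h1 := Fam.congr_fun h l (ξ := ξ) (by rw [← hl, ← hA]; simp only [Category.assoc])
  refine Eq.trans ?_ (h1.trans ?_)
  · exact v.congr (Category.assoc _ _ _).symm _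
  · exact w.congr (Category.assoc _ _ _) _

theorem res_comp_congr {X Z Z' Z₁ Z₂ : Scheme.{u}} {F : EtCoh.Ab X} {q₁ : Z₁ ⟶ X} {q₂ : Z₂ ⟶ X}
    {v : Fam F q₁} {w : Fam F q₂} {A : Z ⟶ Z₁} {B : Z ⟶ Z₂} {q : Z ⟶ X} {hA : A ≫ q₁ = q}
    {hB : B ≫ q₂ = q} (h : v.res A hA = w.res B hB) (M : Z' ⟶ Z) {q' : Z' ⟶ X} 
    {A' : Z' ⟶ Z₁} {B' : Z' ⟶ Z₂} (hA' : A' ≫ q₁ = q') (hB' : B' ≫ q₂ = q')
    (eA : M ≫ A = A') (eB : M ≫ B = B') : v.res A' hA' = w.res B' hB' := by
  subst eA eB hA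
  ext Ω _ _ l ξ hl
  have h1 := Fam.congr_fun h (l ≫ M) (ξ := ξ) (by rw [← hl, ← hA']; simp only [Category.assoc])
  refine Eq.trans ?_ (h1.trans ?_)
  · exact v.congr (Category.assoc _ _ _).symm _
  · exact w.congr (Category.assoc _ _ _) _

/-- Local families which agree after pulling back along a surjective morphism are equal. -/
theorem eq_of_surjective {X Z Z' : Scheme.{u}} {F : EtCoh.Ab X} {q : Z ⟶ X} {v v' : Fam F q}
    (hv : IsLoc v) (hv' : IsLoc v') (p : Z' ⟶ Z) [Surjective p] {q' : Z' ⟶ X} (hp : p ≫ q = q')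
    (h : v.res p hp = v'.res p hp) : v = v' := by
  refine eq_of_agree fun z => ?_
  obtain ⟨z', rfl⟩ := p.surjective z
  have h1 := hv.agree_res hv' p hp
  have h2 : z' ∈ agree (v.res p hp) (v'.res p hp) := by
    rw [h]
    intro Ω _ _ l ξ hl _
    rfl
  rw [h1] at h2
  exact h2

/-- Fibre products of étale schemes, with points. -/
theorem exists_fibre {X : Scheme.{u}} {U V W : X.Etale} (b : U ⟶ W) (b₂ : V ⟶ W)
    {Ω : Type u} [Field Ω] (l : Spec (CommRingCat.of Ω) ⟶ U.left)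
    (l₂ : Spec (CommRingCat.of Ω) ⟶ V.left) (hll : l ≫ b.left = l₂ ≫ b₂.left) :
    ∃ (U' : X.Etale) (a : U' ⟶ U) (b' : U' ⟶ V) (y' : U'.left),
      a.left y' = l default ∧ a ≫ b = b' ≫ b₂ := by
  let U' : X.Etale := Scheme.Etale.mk (pullback.fst b.left b₂.left ≫ U.hom)
  let a : U' ⟶ U := etHom (pullback.fst _ _) rfl
  have e1 : pullback.snd b.left b₂.left ≫ V.hom = pullback.fst b.left b₂.left ≫ U.hom := by
    refine (congrArg (pullback.snd b.left b₂.left ≫ ·) (et_w b₂)).symm.trans ?_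
    refine (Category.assoc _ _ _).symm.trans ?_
    refine (congrArg (· ≫ W.hom) pullback.condition).symm.trans ?_
    refine (Category.assoc _ _ _).trans ?_
    exact congrArg (pullback.fst b.left b₂.left ≫ ·) (et_w b)
  let b' : U' ⟶ V := etHom (pullback.snd _ _) e1
  refine ⟨U', a, b', (pullback.lift l l₂ hll) default, ?_, ?_⟩
  · change (pullback.lift l l₂ hll ≫ pullback.fst b.left b₂.left) default = _
    rw [pullback.lift_fst]
  · apply et_hom_ext
    exact pullback.condition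

section Core

variable {Ω : Type u} [Field Ω] [IsSepClosed Ω] (ξ : Spec (CommRingCat.of Ω) ⟶ X)
variable (H : IsPullback e h g f)

/-- The comparison `Y ×_X Spec O_X^sh ⟶ T ×_S Spec O_S^sh`. -/
noncomputable def P : pullback h (toBase ξ) ⟶ pullback g (toBase (ξ ≫ f)) :=
  pullback.lift (pullback.fst _ _ ≫ e) (pullback.snd _ _ ≫ psi f ξ) (by
    rw [Category.assoc, H.w, Category.assoc, psi_toBase, ← Category.assoc, pullback.condition,
      Category.assoc])

@[reassoc]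
theorem P_fst : P ξ H ≫ pullback.fst g (toBase (ξ ≫ f)) = pullback.fst h (toBase ξ) ≫ e :=
  pullback.lift_fst _ _ _

@[reassoc]
theorem P_snd : P ξ H ≫ pullback.snd g (toBase (ξ ≫ f)) = pullback.snd h (toBase ξ) ≫ psi f ξ :=
  pullback.lift_snd _ _ _

theorem isPullback_P : IsPullback (pullback.snd h (toBase ξ)) (P ξ H) (psi f ξ)
    (pullback.snd g (toBase (ξ ≫ f))) := by
  have h1 : IsPullback (pullback.snd h (toBase ξ)) (pullback.fst h (toBase ξ)) (toBase ξ) h :=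
    (IsPullback.of_hasPullback h (toBase ξ)).flip
  have h2 := h1.paste_vert H.flip
  have h3 : IsPullback (pullback.snd g (toBase (ξ ≫ f))) (pullback.fst g (toBase (ξ ≫ f)))
    (toBase (ξ ≫ f)) g := (IsPullback.of_hasPullback g (toBase (ξ ≫ f))).flip
  refine IsPullback.of_bot ?_ (P_snd ξ H).symm h3
  rw [P_fst, psi_toBase]
  exact h2

/-- The leg `Y ×_X Spec O_X^sh ⟶ Y ×_X D i`. -/
noncomputable abbrev LX (h : Y ⟶ X) (i : Idx ξ) : pullback h (toBase ξ) ⟶
    ((bc h).obj ((D ξ).obj i)).left := legX ξ h (IsPullback.of_hasPullback h (toBase ξ)) i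

theorem LX_fst (i : Idx ξ) : LX ξ h i ≫ bcFst h ((D ξ).obj i) =
    pullback.snd h (toBase ξ) ≫ leg ξ i := legX_pr ξ h _ i

theorem LX_hom (i : Idx ξ) : LX ξ h i ≫ ((bc h).obj ((D ξ).obj i)).hom =
    pullback.fst h (toBase ξ) := legX_hom ξ h _ i

theorem LX_kap {i : Idx ξ} {V : S.Etale} (b : (D ξ).obj i ⟶ (bc f).obj V) {j : Idx (ξ ≫ f)}
    (c : (D (ξ ≫ f)).obj j ⟶ V)
    (hbc : lft ξ i ≫ b.left ≫ bcFst f V = lft (ξ ≫ f) j ≫ c.left) :
    LX ξ h i ≫ kap g f h e H.w b = P ξ H ≫ LX (ξ ≫ f) g j ≫ ((bc g).map c).left := by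
  apply hom_ext_bc g
  · have e1 : leg ξ i ≫ b.left ≫ bcFst f V = psi f ξ ≫ leg (ξ ≫ f) j ≫ c.left := by
      apply eq_of_pt' ξ V.hom
      · rw [Category.assoc, Category.assoc, bc_condition, ← Category.assoc b.left, et_w,
          ← Category.assoc (leg ξ i), leg_hom, Category.assoc, Category.assoc, et_w, leg_hom,
          psi_toBase]
      · rw [← Category.assoc, pt_leg, hbc, pt_psi_assoc, pt_leg_assoc]
    rw [Category.assoc, kap_fst, ← Category.assoc, LX_fst, Category.assoc, e1]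
    simp only [Category.assoc]
    rw [bc_map_fst, ← Category.assoc (LX (ξ ≫ f) g j), LX_fst, Category.assoc, P_snd_assoc]
  · rw [Category.assoc, kap_hom, ← Category.assoc, LX_hom, Category.assoc, Category.assoc, et_w,
      LX_hom, P_fst]

theorem LX_map {U : X.Etale} {i i' : Idx ξ} (m : (D ξ).obj i ⟶ U) (n : (D ξ).obj i' ⟶ U)
    (hmn : lft ξ i ≫ m.left = lft ξ i' ≫ n.left) :
    LX ξ h i ≫ ((bc h).map m).left = LX ξ h i' ≫ ((bc h).map n).left := by
  apply hom_ext_bc h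
  · have e1 : leg ξ i ≫ m.left = leg ξ i' ≫ n.left := by
      apply eq_of_pt' ξ U.hom
      · rw [Category.assoc, Category.assoc, et_w, et_w, leg_hom, leg_hom]
      · rw [← Category.assoc, ← Category.assoc, pt_leg, pt_leg, hmn]
    rw [Category.assoc, bc_map_fst, Category.assoc, bc_map_fst, ← Category.assoc, LX_fst,
      Category.assoc, e1, ← Category.assoc, ← Category.assoc, LX_fst]
  · rw [Category.assoc, Category.assoc, et_w, et_w, LX_hom, LX_hom]

theorem exists_common (U V : X.Etale) (l : Spec (CommRingCat.of Ω) ⟶ U.left)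
    (hl : l ≫ U.hom = ξ) (l' : Spec (CommRingCat.of Ω) ⟶ V.left) (hl' : l' ≫ V.hom = ξ) :
    ∃ (i : Idx ξ) (n : (D ξ).obj i ⟶ U) (n' : (D ξ).obj i ⟶ V),
      lft ξ i ≫ n.left = l ∧ lft ξ i ≫ n'.left = l' := by
  obtain ⟨W, p1, p2, lW, hlW, hlW1, hlW2⟩ : ∃ (W : X.Etale) (p1 : W ⟶ U)
      (p2 : W ⟶ V) (lW : Spec (CommRingCat.of Ω) ⟶ W.left),
      lW ≫ W.hom = ξ ∧ lW ≫ p1.left = l ∧ lW ≫ p2.left = l' := by
    refine ⟨Scheme.Etale.mk (pullback.fst U.hom V.hom ≫ U.hom),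
      etHom (pullback.fst _ _) rfl, etHom (pullback.snd _ _) pullback.condition.symm,
      pullback.lift l l' (hl.trans hl'.symm), ?_, pullback.lift_fst _ _ _, pullback.lift_snd _ _ _⟩
    refine Eq.trans (Category.assoc _ _ _).symm ?_
    exact (congrArg (· ≫ U.hom) (pullback.lift_fst _ _ _)).trans hl
  obtain ⟨i₂, n, hn⟩ := exists_dom ξ W lW hlW
  refine ⟨i₂, n ≫ p1, n ≫ p2, ?_, ?_⟩
  · rw [← hlW1, ← hn]
    exact (Category.assoc _ _ _).symm
  · rw [← hlW2, ← hn]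
    exact (Category.assoc _ _ _).symm

variable (F : EtCoh.Ab T) (ξ' : Spec (CommRingCat.of Ω) ⟶ S)

/-- The structure maps of the diagram `T ×_S D j`. -/
noncomputable def tau (g : T ⟶ S) : DX ξ' g ⟶ (Functor.const _).obj T where
  app j := ((bc g).obj ((D ξ').obj j)).hom
  naturality _ _ m := (et_w ((bc g).map ((D ξ').map m))).trans (Category.comp_id _).symm

theorem connected_P
    (hψ : ∀ (Ω' : Type u) [Field Ω'] [IsAlgClosed Ω']
      (η : Spec (CommRingCat.of Ω') ⟶ Spec (Osh (ξ ≫ f))), ConnectedSpace ↥(pullback (psi f ξ) η))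
    (Ω' : Type u) [Field Ω'] [IsAlgClosed Ω']
    (η : Spec (CommRingCat.of Ω') ⟶ pullback g (toBase (ξ ≫ f))) :
    ConnectedSpace ↥(pullback (P ξ H) η) := by
  have h1 := (IsPullback.of_hasPullback (P ξ H) η).paste_horiz (isPullback_P ξ H)
  have h2 := hψ Ω' (η ≫ pullback.snd g (toBase (ξ ≫ f)))
  exact (Scheme.homeoOfIso h1.isoPullback.symm).surjective.connectedSpace
    (Scheme.homeoOfIso h1.isoPullback.symm).continuous

/-- A local family on `Y ×_X U` comes, near a given point of `U`, from a section over `T ×_S V`. -/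
theorem hsurj_strict [Flat f] [QuasiCompact g] [QuasiSeparated g]
    (hψ : ∀ (Ω' : Type u) [Field Ω'] [IsAlgClosed Ω']
      (η : Spec (CommRingCat.of Ω') ⟶ Spec (Osh (ξ ≫ f))), ConnectedSpace ↥(pullback (psi f ξ) η))
    (U : X.Etale) (v : Fam F (((EtCoh.bc h).obj U).hom ≫ e)) (hv : IsLoc v)
    (l : Spec (CommRingCat.of Ω) ⟶ U.left) (hl : l ≫ U.hom = ξ) :
    ∃ (V : S.Etale) (U' : X.Etale) (a : U' ⟶ U) (b : U' ⟶ (EtCoh.bc f).obj V)
        (σ : EtCoh.sect F ((EtCoh.bc g).obj V)) (y' : U'.left), a.left y' = l default ∧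
        v.res ((EtCoh.bc h).map a).left (by rw [← Category.assoc, et_w]) =
          (fam σ).res (kap g f h e H.w b) (kap_hom g f h e H.w b) := by
  have hqc : QuasiCompact h := MorphismProperty.of_isPullback (P := @QuasiCompact) H ‹_›
  have hqs : QuasiSeparated h := MorphismProperty.of_isPullback (P := @QuasiSeparated) H ‹_›
  have hfl : Flat (psi f ξ) := flat_psi f ξ
  have hPfl : Flat (P ξ H) := MorphismProperty.of_isPullback (P := @Flat) (isPullback_P ξ H) hfl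
  have hPqc : QuasiCompact (P ξ H) :=
    MorphismProperty.of_isPullback (P := @QuasiCompact) (isPullback_P ξ H) inferInstance
  obtain ⟨i₁, m, hm⟩ := exists_dom ξ U l hl
  -- the restriction to `Y ×_X Spec O_X^sh`
  have eA : (LX ξ h i₁ ≫ ((bc h).map m).left) ≫ ((bc h).obj U).hom ≫ e =
      pullback.fst h (toBase ξ) ≫ e := by
    rw [← Category.assoc, Category.assoc (LX ξ h i₁), et_w, LX_hom]
  obtain ⟨vS, hvS, hvS'⟩ := exists_of_connected (P ξ H) (connected_P ξ H hψ) (P_fst ξ H)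
    (v.res _ eA) (hv.res _ eA)
  obtain ⟨j, v', hv', hvv'⟩ := LimSec.exists_ext
    (coneX (ξ ≫ f) g (IsPullback.of_hasPullback g (toBase (ξ ≫ f))))
    (isLimitConeX (ξ ≫ f) g (IsPullback.of_hasPullback g (toBase (ξ ≫ f))))
    (tau (ξ ≫ f) g) (fun j => LX_hom (ξ ≫ f) j) hvS
  obtain ⟨σ, hσ⟩ := FamSec.exists_fam (U := (bc g).obj ((D (ξ ≫ f)).obj j)) v' hv'
  -- a common étale neighbourhood of `ξ`
  obtain ⟨l₂, hl₂, hl₂'⟩ : ∃ l₂ : Spec (CommRingCat.of Ω) ⟶ ((bc f).obj ((D (ξ ≫ f)).obj j)).left,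
      l₂ ≫ bcFst f ((D (ξ ≫ f)).obj j) = lft (ξ ≫ f) j ∧
      l₂ ≫ ((bc f).obj ((D (ξ ≫ f)).obj j)).hom = ξ :=
    ⟨bcPt f ξ (lft (ξ ≫ f) j) (lft_hom _ _), bcPt_fst f _ _ _, bcPt_hom f _ _ _⟩
  obtain ⟨i₂, n, n', hn, hn'⟩ := exists_common ξ U ((bc f).obj ((D (ξ ≫ f)).obj j)) l hl l₂ hl₂'
  have hn2 : lft ξ i₂ ≫ n'.left ≫ bcFst f ((D (ξ ≫ f)).obj j) =
      lft (ξ ≫ f) j ≫ (𝟙 ((D (ξ ≫ f)).obj j) : _ ⟶ _).left := by
    refine Eq.trans ?_ (Category.comp_id _).symm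
    rw [← hl₂, ← hn', Category.assoc]
  have hagree : (v.res ((bc h).map n).left (q' := ((bc h).obj ((D ξ).obj i₂)).hom ≫ e)
      (by rw [← Category.assoc, et_w])).res (LX ξ h i₂) rfl =
      ((fam σ).res (kap g f h e H.w n') (kap_hom g f h e H.w n')).res (LX ξ h i₂) rfl := by
    have e1 : LX ξ h i₂ ≫ kap g f h e H.w n' = P ξ H ≫ LX (ξ ≫ f) g j := by
      rw [LX_kap ξ H n' (𝟙 _) hn2]
      refine congrArg (P ξ H ≫ ·) ?_
      rw [CategoryTheory.Functor.map_id]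
      exact Category.comp_id _
    have e2 : LX ξ h i₂ ≫ ((bc h).map n).left = LX ξ h i₁ ≫ ((bc h).map m).left :=
      LX_map ξ n m (hn.trans hm.symm)
    have e3 : v.res (LX ξ h i₁ ≫ ((bc h).map m).left) eA =
      (fam σ).res (P ξ H ≫ LX (ξ ≫ f) g j) (by
        rw [Category.assoc, LX_hom, P_fst]) := by
      rw [← hvS', ← hvv', hσ]
      ext Ω _ _ l ξ hl
      exact v'.congr (Category.assoc _ _ _) _
    ext Ω' _ _ l' ξ' hl''
    have h1 := Fam.congr_fun e3 l' (ξ := ξ') (by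
      rw [← hl'', ← Category.assoc (LX ξ h i₂), LX_hom])
    refine (v.congr ?_ _).trans (h1.trans ((fam σ).congr ?_ _))
    · rw [Category.assoc, e2]
    · rw [Category.assoc, e1]
  obtain ⟨i₃, g₃, hg₃⟩ := LimSec.exists_agree
    (coneX ξ h (IsPullback.of_hasPullback h (toBase ξ)))
    (isLimitConeX ξ h (IsPullback.of_hasPullback h (toBase ξ)))
    (hv.res _ _) ((isLoc_fam σ).res _ _) hagree
  refine ⟨(D (ξ ≫ f)).obj j, (D ξ).obj i₃, (D ξ).map g₃ ≫ n, (D ξ).map g₃ ≫ n', σ,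
    lft ξ i₃ default, ?_, ?_⟩
  · have h1 : lft ξ i₃ ≫ ((D ξ).map g₃ ≫ n).left = l := by
      rw [← hn, ← lft_map ξ g₃, Category.assoc]
      rfl
    rw [← h1]
    rfl
  · exact res_eq_res hg₃ _ _ (by rw [Functor.map_comp]; rfl) (kap_comp H.w _ _).symm

/-- Local injectivity of the base change map. -/
theorem hinj_strict [QuasiCompact g]
    (hsurj : Surjective (psi f ξ))
    (V : S.Etale) (σ : EtCoh.sect F ((EtCoh.bc g).obj V)) (U : X.Etale)
    (b : U ⟶ (EtCoh.bc f).obj V)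
    (hσ : (fam σ).res (kap g f h e H.w b) (kap_hom g f h e H.w b) =
        (fam (0 : EtCoh.sect F ((EtCoh.bc g).obj V))).res (kap g f h e H.w b)
          (kap_hom g f h e H.w b))
    (l : Spec (CommRingCat.of Ω) ⟶ U.left) (hl : l ≫ U.hom = ξ) :
    ∃ (V' : S.Etale) (c : V' ⟶ V) (U' : X.Etale) (a : U' ⟶ U)
        (b' : U' ⟶ (EtCoh.bc f).obj V') (y' : U'.left), a.left y' = l default ∧
        a ≫ b = b' ≫ (EtCoh.bc f).map c ∧ F.obj.map ((EtCoh.bc g).map c).op σ = 0 := by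
  have hPs : Surjective (P ξ H) :=
    MorphismProperty.of_isPullback (P := @Surjective) (isPullback_P ξ H) hsurj
  -- the étale neighbourhoods
  obtain ⟨j, c, hc⟩ := exists_dom (ξ ≫ f) V (l ≫ b.left ≫ bcFst f V) (by
    rw [Category.assoc, Category.assoc, bc_condition, ← Category.assoc b.left, et_w,
      ← Category.assoc l, hl])
  obtain ⟨i, n, hn⟩ := exists_dom ξ U l hl
  have hbc : lft ξ i ≫ (n ≫ b).left ≫ bcFst f V = lft (ξ ≫ f) j ≫ c.left := by
    rw [hc, ← hn]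
    simp only [Category.assoc]
    rfl
  have hk := LX_kap ξ H (n ≫ b) c hbc
  rw [kap_comp] at hk
  -- the two families on `T ×_S D j`
  have h0 : (fam σ).res (LX (ξ ≫ f) g j ≫ ((bc g).map c).left) (by
      rw [Category.assoc, et_w, LX_hom]) =
      (fam (0 : EtCoh.sect F ((EtCoh.bc g).obj V))).res (LX (ξ ≫ f) g j ≫ ((bc g).map c).left)
      (by rw [Category.assoc, et_w, LX_hom]) := by
    refine eq_of_surjective ((isLoc_fam σ).res _ _) ((isLoc_fam _).res _ _) (P ξ H) rfl ?_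
    rw [Fam.res_res, Fam.res_res]
    refine res_comp_congr hσ (LX ξ h i ≫ ((bc h).map n).left) _ _ ?_ ?_
    · rw [Category.assoc, hk]
    · rw [Category.assoc, hk]
  have h1 : ((fam σ).res ((bc g).map c).left (et_w _)).res (LX (ξ ≫ f) g j) rfl =
      ((fam (0 : EtCoh.sect F ((EtCoh.bc g).obj V))).res ((bc g).map c).left (et_w _)).res
        (LX (ξ ≫ f) g j) rfl := by
    rw [Fam.res_res, Fam.res_res]
    exact res_comp_congr h0 (𝟙 _) _ _ (Category.id_comp _) (Category.id_comp _)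
  obtain ⟨j', g', hg'⟩ := LimSec.exists_agree
    (coneX (ξ ≫ f) g (IsPullback.of_hasPullback g (toBase (ξ ≫ f))))
    (isLimitConeX (ξ ≫ f) g (IsPullback.of_hasPullback g (toBase (ξ ≫ f))))
    ((isLoc_fam σ).res _ _) ((isLoc_fam _).res _ _) h1
  have hc' : lft (ξ ≫ f) j' ≫ ((D (ξ ≫ f)).map g' ≫ c).left = l ≫ b.left ≫ bcFst f V := by
    rw [← hc, ← lft_map (ξ ≫ f) g', Category.assoc]
    rfl
  obtain ⟨c', hcc'⟩ : ∃ c', c' = (D (ξ ≫ f)).map g' ≫ c := ⟨_, rfl⟩
  rw [← hcc'] at hc'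
  -- the fibre product
  let l₂ : Spec (CommRingCat.of Ω) ⟶ ((bc f).obj ((D (ξ ≫ f)).obj j')).left :=
    bcPt f ξ (lft (ξ ≫ f) j') (lft_hom _ _)
  have hl₂ : l₂ ≫ bcFst f ((D (ξ ≫ f)).obj j') = lft (ξ ≫ f) j' := bcPt_fst f _ _ _
  have hl₂' : l₂ ≫ ((bc f).obj ((D (ξ ≫ f)).obj j')).hom = ξ := bcPt_hom f _ _ _
  have hll : l ≫ b.left = l₂ ≫ ((bc f).map c').left := by
    apply hom_ext_bc f
    · rw [Category.assoc, Category.assoc, bc_map_fst, ← Category.assoc l₂, hl₂, hc']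
    · rw [Category.assoc, Category.assoc, et_w, et_w, hl, hl₂']
  obtain ⟨U', a, b', y', hy', hab⟩ := exists_fibre b ((bc f).map c') l l₂ hll
  refine ⟨(D (ξ ≫ f)).obj j', c', U', a, b', y', hy', hab, ?_⟩
  · apply FamSec.fam_ext
    have h3 : (0 : EtCoh.sect F ((EtCoh.bc g).obj ((D (ξ ≫ f)).obj j'))) =
          F.obj.map ((EtCoh.bc g).map c').op 0 := (map_zero _).symm
    rw [h3, fam_map, fam_map]
    refine res_eq_res hg' _ _ ?_ ?_
    · rw [hcc', Functor.map_comp]; rfl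
    · rw [hcc', Functor.map_comp]; rfl

end Core

theorem surjective_of_connected {Z W : Scheme.{u}} (p : Z ⟶ W)
    (hψ : ∀ (Ω' : Type u) [Field Ω'] [IsAlgClosed Ω']
      (η : Spec (CommRingCat.of Ω') ⟶ W), ConnectedSpace ↥(pullback p η)) : Surjective p := by
  refine ⟨fun s => ?_⟩
  obtain ⟨Ω, _, _, η, hη⟩ := Etbase.EtSections.exists_geometricPoint s
  have h1 := hψ Ω η
  obtain ⟨z⟩ : Nonempty ↥(pullback p η) := inferInstance
  refine ⟨pullback.fst p η z, ?_⟩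
  rw [← Scheme.Hom.comp_apply, pullback.condition, Scheme.Hom.comp_apply, ← hη]
  exact congrArg η (Subsingleton.elim _ _)

/-- Degree zero base change: `f` flat such that the maps of strict localizations have connected
geometric fibres, `g` quasi-compact and quasi-separated. -/
theorem isIso_baseChange0_of_strict (H : IsPullback e h g f) [Flat f] [QuasiCompact g]
    [QuasiSeparated g]
    (hψ : ∀ (Ω : Type u) [Field Ω] [IsSepClosed Ω] (ξ : Spec (CommRingCat.of Ω) ⟶ X)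
      (Ω' : Type u) [Field Ω'] [IsAlgClosed Ω']
      (η : Spec (CommRingCat.of Ω') ⟶ Spec (Osh (ξ ≫ f))), ConnectedSpace ↥(pullback (psi f ξ) η))
    (F : EtCoh.Ab T) : IsIso (EtCoh.baseChange0 g f h e H.w F) := by
  refine isIso_baseChange0_of_fam g f h e H.w F ?_ ?_
  · intro V σ U b hσ y
    obtain ⟨Ω, _, _, l, hl⟩ := exists_geomPoint U.left y
    rw [← hl]
    exact hinj_strict (l ≫ U.hom) H F (surjective_of_connected _ (hψ Ω (l ≫ U.hom))) V σ U b hσ l rfl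
  · intro U v hv y
    obtain ⟨Ω, _, _, l, hl⟩ := exists_geomPoint U.left y
    rw [← hl]
    exact hsurj_strict (l ≫ U.hom) H F (hψ Ω (l ≫ U.hom)) U v hv l rfl

end Groth.Agent.EtpbcB.BCStrict
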