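import Groth.Agent.Sga4B.ExtCmpSquare
import Groth.Agent.EtpbcB.EdgeLemma

/-!
# Tools for the comparison maps `cmp` (pullback maps on cohomology), abstractly

* `bijective_of_class` : bijectivity of `cmp` in all degrees on a class of objects from degree `0`
  and embeddings into doubly acyclic objects;
* `bijective_congr` : invariance under natural isomorphism of the functor;
* `cmp_compFunctor`, `bijective_of_comp`, `bijective_comp` : composition of functors;
* `edge_unit` : edge map and unit;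
* `bijective_zero` : degree zero for a left adjoint;
* `isZero_of_edge` : the abstract form of the point case of base change (Leray).
-/

set_option autoImplicit false

universe w₁ w₂ w₃ w₄ v₁ v₂ v₃ v₄ u₁ u₂ u₃ u₄

open CategoryTheory CategoryTheory.Limits CategoryTheory.Abelian

namespace Groth.Agent.EtpbcB.CmpTools

open Sga4B.ExtCmp

section one

variable {C : Type u₁} [Category.{v₁} C] [Abelian C] [HasExt.{w₁} C]
variable {D : Type u₂} [Category.{v₂} D] [Abelian D] [HasExt.{w₂} D]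
variable (Φ : C ⥤ D) [Φ.Additive] [PreservesFiniteLimits Φ] [PreservesFiniteColimits Φ]
variable {A : C} {B : D} (b : B ⟶ Φ.obj A)

/-- Bijectivity of the comparison maps in all degrees on a class of objects, from degree zero and
embeddings in doubly acyclic objects. -/
theorem bijective_of_class (P : C → Prop) (h0 : ∀ F, P F → Function.Bijective (cmp Φ b F 0))
    (hres : ∀ F, P F → ∃ (S : ShortComplex C) (_ : S.ShortExact) (_ : S.X₁ = F), P S.X₃ ∧
      P S.X₂ ∧ (∀ q : ℕ, Subsingleton (Ext.{w₁} A S.X₂ (q + 1))) ∧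
      ∀ q : ℕ, Subsingleton (Ext.{w₂} B (Φ.obj S.X₂) (q + 1))) (q : ℕ) :
    ∀ F, P F → Function.Bijective (cmp Φ b F q) := by
  induction q with
  | zero => exact h0
  | succ q ih =>
    have hinj : ∀ F, P F → Function.Injective (cmp Φ b F (q + 1)) := by
      intro F hF
      obtain ⟨S, hS, rfl, h3, h2, ha, -⟩ := hres F hF
      have := ha q
      exact injective_succ Φ b hS q (ih _ h2).2 (ih _ h3).1 (fun x y _ => Subsingleton.elim x y)
    intro F hF
    refine ⟨hinj F hF, ?_⟩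
    obtain ⟨S, hS, rfl, h3, h2, -, hb⟩ := hres F hF
    exact surjective_succ Φ b hS q (ih _ h3).2 (fun y => ⟨0, (hb q).elim _ _⟩) (hinj _ h3)

/-- Degree zero, for a left adjoint: bijectivity of composition with the unit suffices. -/
theorem bijective_zero {R : D ⥤ C} (adj : Φ ⊣ R) [IsIso b] (G : C)
    (h : Function.Bijective (fun φ : A ⟶ G => φ ≫ adj.unit.app G)) :
    Function.Bijective (cmp Φ b G 0) := by
  have h1 := Ext.mk₀_bijective.{w₁} A G
  have h2 := Ext.mk₀_bijective.{w₂} B (Φ.obj G)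
  have h3 : (fun x => cmp Φ b G 0 x) ∘ Ext.mk₀.{w₁} =
      Ext.mk₀.{w₂} ∘ (fun φ : A ⟶ G => b ≫ Φ.map φ) := by
    funext φ
    change cmp Φ b G 0 (Ext.mk₀ φ) = Ext.mk₀ (b ≫ Φ.map φ)
    rw [cmp_apply, Ext.mapExactFunctor_mk₀, Ext.mk₀_comp_mk₀]
  rw [← Function.Bijective.of_comp_iff _ h1]
  change Function.Bijective ((fun x => cmp Φ b G 0 x) ∘ Ext.mk₀.{w₁})
  rw [h3]
  refine h2.comp ?_
  have h4 : Function.Bijective (fun ψ : Φ.obj A ⟶ Φ.obj G => b ≫ ψ) := by
    refine Function.bijective_iff_has_inverse.2 ⟨fun ψ => inv b ≫ ψ, fun ψ => ?_, fun ψ => ?_⟩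
    · simp
    · simp
  have h5 : Function.Bijective (fun φ : A ⟶ G => Φ.map φ) := by
    rw [← Function.Bijective.of_comp_iff' (adj.homEquiv A (Φ.obj G)).bijective]
    convert! h using 1
    funext φ
    change adj.homEquiv A (Φ.obj G) (Φ.map φ) = φ ≫ adj.unit.app G
    rw [Adjunction.homEquiv_unit, adj.unit_naturality]
  exact h4.comp h5

end one

section two

variable {C : Type u₁} [Category.{v₁} C] [Abelian C] [HasExt.{w₁} C] [EnoughInjectives C]
variable {D : Type u₂} [Category.{v₂} D] [Abelian D] [HasExt.{w₂} D]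

/-- Invariance of bijectivity of the comparison maps under isomorphisms of functors and change of
base objects. -/
theorem bijective_congr (Φ Φ' : C ⥤ D) [Φ.Additive] [PreservesFiniteLimits Φ]
    [PreservesFiniteColimits Φ] [Φ'.Additive] [PreservesFiniteLimits Φ']
    [PreservesFiniteColimits Φ'] (θ : Φ ≅ Φ') {A : C} {B B' : D} (b : B ⟶ Φ.obj A) [IsIso b]
    (b' : B' ⟶ Φ'.obj A) [IsIso b'] (G : C) (n : ℕ)
    (h : Function.Bijective (cmp Φ b G n)) : Function.Bijective (cmp Φ' b' G n) := by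
  -- first change the base object
  have hb : Function.Bijective (cmp Φ (b' ≫ θ.inv.app A) G n) := by
    have : IsIso (b' ≫ θ.inv.app A) := inferInstance
    exact ⟨injective_change Φ b (b' ≫ θ.inv.app A) (𝟙 A) G n h.1,
      surjective_change Φ b (b' ≫ θ.inv.app A) (𝟙 A) G n h.2⟩
  have key : ∀ e : Ext.{w₁} A G n, cmp Φ' b' G n e =
      (cmp Φ (b' ≫ θ.inv.app A) G n e).comp (Ext.mk₀ (θ.hom.app G)) (add_zero n) := by
    intro e
    have h1 := Etcore.ExtAdj.mapExactFunctor_nat (F := Φ) (G := Φ') θ.hom e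
    rw [cmp_apply, cmp_apply, Ext.comp_assoc_of_third_deg_zero]
    rw [h1, Ext.mk₀_comp_mk₀_assoc]
    congr 1
    simp
  have h2 := bijective_comp_mk₀ (A := B') (θ.hom.app G) n
  have h3 : (cmp Φ' b' G n : Ext.{w₁} A G n → _) =
      (fun e : Ext.{w₂} B' (Φ.obj G) n => e.comp (Ext.mk₀ (θ.hom.app G)) (add_zero n)) ∘
        (cmp Φ (b' ≫ θ.inv.app A) G n : Ext.{w₁} A G n → _) := funext key
  rw [h3]
  exact h2.comp hb

omit [EnoughInjectives C] in
/-- Change of the coefficient object along an isomorphism. -/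
theorem bijective_of_iso (Φ : C ⥤ D) [Φ.Additive] [PreservesFiniteLimits Φ]
    [PreservesFiniteColimits Φ] {A : C} {B : D} (b : B ⟶ Φ.obj A) {G G' : C} (α : G ≅ G') (n : ℕ)
    (h : Function.Bijective (cmp Φ b G n)) : Function.Bijective (cmp Φ b G' n) :=
  ⟨injective_of_iso Φ b α n h.1, surjective_of_iso Φ b α n h.2⟩

end two

section three

variable {C : Type u₁} [Category.{v₁} C] [Abelian C] [HasExt.{w₁} C] [EnoughInjectives C]
variable {D : Type u₂} [Category.{v₂} D] [Abelian D] [HasExt.{w₂} D]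
variable {E : Type u₃} [Category.{v₃} E] [Abelian E] [HasExt.{w₃} E]
variable (Φ : C ⥤ D) [Φ.Additive] [PreservesFiniteLimits Φ] [PreservesFiniteColimits Φ]
variable (Ψ : D ⥤ E) [Ψ.Additive] [PreservesFiniteLimits Ψ] [PreservesFiniteColimits Ψ]
variable [PreservesFiniteLimits (Φ ⋙ Ψ)] [PreservesFiniteColimits (Φ ⋙ Ψ)]
variable {A : C} {B : D} {B' : E} (b : B ⟶ Φ.obj A) (b' : B' ⟶ Ψ.obj B)

/-- The comparison map of a composition. -/
theorem cmp_compFunctor (G : C) (n : ℕ) (e : Ext.{w₁} A G n) :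
    cmp (Φ ⋙ Ψ) (b' ≫ Ψ.map b : B' ⟶ (Φ ⋙ Ψ).obj A) G n e =
      cmp Ψ b' (Φ.obj G) n (cmp Φ b G n e) := by
  rw [cmp_apply, cmp_apply, cmp_apply, Etcore.ExtAdj.mapExactFunctor_compFunctor,
    Ext.mapExactFunctor_comp, Ext.mapExactFunctor_mk₀, Ext.mk₀_comp_mk₀_assoc]

theorem bijective_comp (G : C) (n : ℕ) (h₁ : Function.Bijective (cmp Φ b G n))
    (h₂ : Function.Bijective (cmp Ψ b' (Φ.obj G) n)) :
    Function.Bijective (cmp (Φ ⋙ Ψ) (b' ≫ Ψ.map b : B' ⟶ (Φ ⋙ Ψ).obj A) G n) := by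
  have : (cmp (Φ ⋙ Ψ) (b' ≫ Ψ.map b : B' ⟶ (Φ ⋙ Ψ).obj A) G n : Ext.{w₁} A G n → _) =
      (cmp Ψ b' (Φ.obj G) n : _ → _) ∘ (cmp Φ b G n : _ → _) :=
    funext (cmp_compFunctor Φ Ψ b b' G n)
  rw [this]
  exact h₂.comp h₁

/-- If the composite and the second map are bijective, so is the first. -/
theorem bijective_left_of_comp (G : C) (n : ℕ)
    (h : Function.Bijective (cmp (Φ ⋙ Ψ) (b' ≫ Ψ.map b : B' ⟶ (Φ ⋙ Ψ).obj A) G n))
    (h₂ : Function.Bijective (cmp Ψ b' (Φ.obj G) n)) :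
    Function.Bijective (cmp Φ b G n) := by
  have : (cmp (Φ ⋙ Ψ) (b' ≫ Ψ.map b : B' ⟶ (Φ ⋙ Ψ).obj A) G n : Ext.{w₁} A G n → _) =
      (cmp Ψ b' (Φ.obj G) n : _ → _) ∘ (cmp Φ b G n : _ → _) :=
    funext (cmp_compFunctor Φ Ψ b b' G n)
  rw [this] at h
  exact (Function.Bijective.of_comp_iff' h₂ _).1 h

/-- If the composite and the first map are bijective, so is the second. -/
theorem bijective_right_of_comp (G : C) (n : ℕ)
    (h : Function.Bijective (cmp (Φ ⋙ Ψ) (b' ≫ Ψ.map b : B' ⟶ (Φ ⋙ Ψ).obj A) G n))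
    (h₁ : Function.Bijective (cmp Φ b G n)) :
    Function.Bijective (cmp Ψ b' (Φ.obj G) n) := by
  have : (cmp (Φ ⋙ Ψ) (b' ≫ Ψ.map b : B' ⟶ (Φ ⋙ Ψ).obj A) G n : Ext.{w₁} A G n → _) =
      (cmp Ψ b' (Φ.obj G) n : _ → _) ∘ (cmp Φ b G n : _ → _) :=
    funext (cmp_compFunctor Φ Ψ b b' G n)
  rw [this] at h
  exact (Function.Bijective.of_comp_iff _ h₁).1 h

end three

section edge

variable {C : Type u₁} [Category.{v₁} C] [Abelian C] [HasExt.{w₁} C]
variable {D : Type u₂} [Category.{v₂} D] [Abelian D] [HasExt.{w₂} D]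
variable {L : C ⥤ D} {R : D ⥤ C} [L.Additive] [PreservesFiniteLimits L] [PreservesFiniteColimits L]
variable (adj : L ⊣ R)

/-- The edge map composed with the unit is `L`. -/
theorem edge_unit (A G : C) (n : ℕ) (e : Ext.{w₁} A G n) :
    EdgeLemma.edge adj A (L.obj G) n (e.comp (Ext.mk₀ (adj.unit.app G)) (add_zero n)) =
      cmp L (𝟙 (L.obj A)) G n e := by
  rw [EdgeLemma.edge_apply, Ext.mapExactFunctor_comp, Ext.mapExactFunctor_mk₀,
    Ext.comp_assoc_of_third_deg_zero, Ext.mk₀_comp_mk₀, adj.left_triangle_components,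
    Ext.comp_mk₀_id, cmp_apply, Ext.mk₀_id_comp]

end edge

section point

variable {CY : Type u₁} [Category.{v₁} CY] [Abelian CY] [HasExt.{w₁} CY] [EnoughInjectives CY]
variable {CZ : Type u₂} [Category.{v₂} CZ] [Abelian CZ] [HasExt.{w₂} CZ] [EnoughInjectives CZ]
variable {CZ' : Type u₃} [Category.{v₃} CZ'] [Abelian CZ'] [HasExt.{w₃} CZ'] [EnoughInjectives CZ']
variable {C₀ : Type u₄} [Category.{v₄} C₀] [Abelian C₀] [HasExt.{w₄} C₀]
variable {P : CY ⥤ CZ} [P.Additive] [PreservesFiniteLimits P] [PreservesFiniteColimits P]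
variable {L : CZ ⥤ CZ'} [L.Additive] [PreservesFiniteLimits L] [PreservesFiniteColimits L]
variable {R : CZ' ⥤ CZ} [R.Additive]
variable {I : CZ ⥤ C₀} [I.Additive] [PreservesFiniteLimits I] [PreservesFiniteColimits I]
variable [PreservesFiniteLimits (P ⋙ L)] [PreservesFiniteColimits (P ⋙ L)]
variable [PreservesFiniteLimits (P ⋙ I)] [PreservesFiniteColimits (P ⋙ I)]
variable (adj : L ⊣ R)

omit [EnoughInjectives CZ] [EnoughInjectives CZ'] [R.Additive] in
/-- The edge map is bijective in all degrees. -/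
theorem bijective_edge {AY : CY} {AZ : CZ} {A₀ : C₀} (bP : AZ ⟶ P.obj AY) (bI : A₀ ⟶ I.obj AZ)
    (F : CY)
    (h1 : ∀ q, Function.Bijective (cmp I bI (P.obj F) q))
    (h2 : ∀ q, Function.Bijective (cmp I bI (R.obj (L.obj (P.obj F))) q))
    (h3 : ∀ q, Function.Bijective (cmp (P ⋙ I) (bI ≫ I.map bP : A₀ ⟶ (P ⋙ I).obj AY) F q))
    (h4 : ∀ q, Function.Bijective (cmp (P ⋙ L) (L.map bP : L.obj AZ ⟶ (P ⋙ L).obj AY) F q))
    (hu : IsIso (I.map (adj.unit.app (P.obj F)))) (q : ℕ) :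
    Function.Bijective (EdgeLemma.edge adj AZ (L.obj (P.obj F)) q) := by
  -- the unit is bijective on `Ext^q(A_Z, -)`
  have h5 : Function.Bijective (fun e : Ext.{w₂} AZ (P.obj F) q =>
      e.comp (Ext.mk₀ (adj.unit.app (P.obj F))) (add_zero q)) := by
    rw [← Function.Bijective.of_comp_iff' (h2 q)]
    have : (cmp I bI (R.obj (L.obj (P.obj F))) q : _ → _) ∘
        (fun e : Ext.{w₂} AZ (P.obj F) q =>
          e.comp (Ext.mk₀ (adj.unit.app (P.obj F))) (add_zero q)) =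
        (fun e : Ext.{w₄} A₀ (I.obj (P.obj F)) q =>
          e.comp (Ext.mk₀ (I.map (adj.unit.app (P.obj F)))) (add_zero q)) ∘
        (cmp I bI (P.obj F) q : _ → _) :=
      funext fun e => cmp_mk₀ I bI (adj.unit.app (P.obj F)) e
    rw [this]
    exact (bijective_comp_mk₀ _ q).comp (h1 q)
  have h6 : Function.Bijective (cmp P bP F q) := bijective_left_of_comp P I bP bI F q (h3 q) (h1 q)
  have h7 : Function.Bijective (cmp L (𝟙 (L.obj AZ)) (P.obj F) q) := by
    refine bijective_right_of_comp P L bP (𝟙 (L.obj AZ)) F q ?_ h6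
    rw [Category.id_comp]
    exact h4 q
  have h8 : (EdgeLemma.edge adj AZ (L.obj (P.obj F)) q : _ → _) ∘
      (fun e : Ext.{w₂} AZ (P.obj F) q =>
        e.comp (Ext.mk₀ (adj.unit.app (P.obj F))) (add_zero q)) =
      (cmp L (𝟙 (L.obj AZ)) (P.obj F) q : _ → _) :=
    funext fun e => edge_unit adj AZ (P.obj F) q e
  exact (Function.Bijective.of_comp_iff _ h5).1 (h8 ▸ h7)

/-- **The abstract point case**: vanishing of `I (R^n R (L (P F)))`, `n > 0`. -/
theorem isZero_of_edge {AY : CY} {AZ : CZ} {A₀ : C₀} (bP : AZ ⟶ P.obj AY) (bI : A₀ ⟶ I.obj AZ)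
    (F : CY)
    (h1 : ∀ q, Function.Bijective (cmp I bI (P.obj F) q))
    (h2 : ∀ q, Function.Bijective (cmp I bI (R.obj (L.obj (P.obj F))) q))
    (h2' : ∀ n q, Function.Bijective (cmp I bI ((R.rightDerived n).obj (L.obj (P.obj F))) q))
    (h3 : ∀ q, Function.Bijective (cmp (P ⋙ I) (bI ≫ I.map bP : A₀ ⟶ (P ⋙ I).obj AY) F q))
    (h4 : ∀ q, Function.Bijective (cmp (P ⋙ L) (L.map bP : L.obj AZ ⟶ (P ⋙ L).obj AY) F q))
    (hu : IsIso (I.map (adj.unit.app (P.obj F))))
    (hs : ∀ n, 0 < n → (∀ x : A₀ ⟶ I.obj ((R.rightDerived n).obj (L.obj (P.obj F))), x = 0) →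
      IsZero (I.obj ((R.rightDerived n).obj (L.obj (P.obj F))))) (n : ℕ) (hn : 0 < n) :
    IsZero (I.obj ((R.rightDerived n).obj (L.obj (P.obj F)))) := by
  have := adj.rightAdjoint_preservesLimits
  have hR : PreservesFiniteLimits R := PreservesLimits.preservesFiniteLimits _
  have hedge := bijective_edge adj bP bI F h1 h2 h3 h4 hu
  induction n using Nat.strong_induction_on with
  | _ n ih =>
    obtain ⟨m, rfl⟩ : ∃ m, n = m + 1 := ⟨n - 1, by omega⟩
    have key := EdgeLemma.hom_rightDerived_eq_zero adj AZ m (L.obj (P.obj F))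
      (fun j hj b => by
        have h0 := ih (j + 1) (by omega) (Nat.succ_pos j)
        have h3 : Subsingleton (Ext.{w₄} A₀ (I.obj ((R.rightDerived (j + 1)).obj
            (L.obj (P.obj F)))) b) :=
          ⟨fun x y => by
            rw [← Ext.comp_mk₀_id x, ← Ext.comp_mk₀_id y, h0.eq_of_src (𝟙 _) 0, Ext.mk₀_zero,
              Ext.comp_zero, Ext.comp_zero]⟩
        exact (h2' (j + 1) b).1.subsingleton)
      (hedge (m + 1)).2 (hedge (m + 2)).1
    refine hs (m + 1) hn fun x => ?_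
    have h0 := (h2' (m + 1) 0)
    obtain ⟨e, he⟩ := h0.2 (Ext.mk₀ x)
    obtain ⟨y, rfl⟩ := (Ext.mk₀_bijective _ _).2 e
    rw [key y, Ext.mk₀_zero, map_zero] at he
    apply (Ext.mk₀_bijective _ _).1
    rw [← he, Ext.mk₀_zero]

end point

end Groth.Agent.EtpbcB.CmpTools
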