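import Groth.Agent.EtpbcB.EdgeLemma
import Groth.Prelude.Def_EtCore

/-!
# The edge lemma on small étale sites

`edgeH h N m : H^m(Y, h_* N) →+ H^m(X, N)` (pull back, then the counit), and the consequence of the
Leray spectral sequence: vanishing of `Γ(Y, R^n h_* N)`.
-/

set_option autoImplicit false
universe u

open CategoryTheory CategoryTheory.Limits AlgebraicGeometry Opposite CategoryTheory.Abelian

namespace Groth.Agent.EtpbcB.EdgeEt

variable {X Y : Scheme.{u}} (h : X ⟶ Y) [PreservesFiniteLimits (EtCoh.pull h)]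

/-- The edge map `H^m(Y, h_* N) → H^m(X, N)`. -/
noncomputable def edgeH (N : EtCoh.Ab X) (m : ℕ) :
    EtCoh.H Y ((EtCoh.push h).obj N) m →+ EtCoh.H X N m :=
  (Sheaf.H.map ((EtCoh.pullPushAdj h).counit.app N) m).comp
    (EtCore.Hpull h ((EtCoh.push h).obj N) m)

theorem edgeH_apply (N : EtCoh.Ab X) (m : ℕ) (e : EtCoh.H Y ((EtCoh.push h).obj N) m) :
    edgeH h N m e = Sheaf.H.map ((EtCoh.pullPushAdj h).counit.app N) m
      (EtCore.Hpull h ((EtCoh.push h).obj N) m e) := rfl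

theorem edgeH_eq (N : EtCoh.Ab X) (m : ℕ) (e : EtCoh.H Y ((EtCoh.push h).obj N) m) :
    edgeH h N m e = (Ext.mk₀ (EtCore.pullConst h ℤ).inv).comp
      (EdgeLemma.edge (EtCoh.pullPushAdj h) (EtCoh.const Y ℤ) N m e) (zero_add m) := by
  rw [EdgeLemma.edge_apply]
  exact Ext.comp_assoc_of_third_deg_zero _ _ _ _

omit [PreservesFiniteLimits (EtCoh.pull h)] in
theorem bij_aux (N : EtCoh.Ab X) (m : ℕ) : Function.Bijective
    (fun e : Ext ((EtCoh.pull h).obj (EtCoh.const Y ℤ)) N m =>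
      (Ext.mk₀ (EtCore.pullConst h ℤ).inv).comp e (zero_add m)) := by
  have h1 : ∀ e : Ext ((EtCoh.pull h).obj (EtCoh.const Y ℤ)) N m,
      (Ext.mk₀ (EtCore.pullConst h ℤ).hom).comp
        ((Ext.mk₀ (EtCore.pullConst h ℤ).inv).comp e (zero_add m)) (zero_add m) = e := fun e => by
    rw [← Ext.comp_assoc_of_second_deg_zero, Ext.mk₀_comp_mk₀, Iso.hom_inv_id, Ext.mk₀_id_comp]
  have h2 : ∀ e : Ext (EtCoh.const X ℤ) N m,
      (Ext.mk₀ (EtCore.pullConst h ℤ).inv).comp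
        ((Ext.mk₀ (EtCore.pullConst h ℤ).hom).comp e (zero_add m)) (zero_add m) = e := fun e => by
    rw [← Ext.comp_assoc_of_second_deg_zero, Ext.mk₀_comp_mk₀, Iso.inv_hom_id, Ext.mk₀_id_comp]
  constructor
  · intro a b hab
    rw [← h1 a, ← h1 b]
    exact congrArg (fun e => (Ext.mk₀ (EtCore.pullConst h ℤ).hom).comp e (zero_add m)) hab
  · intro e
    exact ⟨_, h2 e⟩

theorem edge_injective (N : EtCoh.Ab X) (m : ℕ) (hi : Function.Injective (edgeH h N m)) :
    Function.Injective (EdgeLemma.edge (EtCoh.pullPushAdj h) (EtCoh.const Y ℤ) N m) := by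
  intro a b hab
  apply hi
  rw [edgeH_eq, edgeH_eq, hab]

theorem edge_surjective (N : EtCoh.Ab X) (m : ℕ) (hi : Function.Surjective (edgeH h N m)) :
    Function.Surjective (EdgeLemma.edge (EtCoh.pullPushAdj h) (EtCoh.const Y ℤ) N m) := by
  intro a
  obtain ⟨e, he⟩ := hi ((Ext.mk₀ (EtCore.pullConst h ℤ).inv).comp a (zero_add m))
  refine ⟨e, (bij_aux h N m).1 ?_⟩
  rw [edgeH_eq] at he
  exact he

/-- **Leray edge lemma**: if `R^i h_* N` has no cohomology at all for `0 < i < n`, the edge map is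
surjective in degree `n` and injective in degree `n + 1`, then `Γ(Y, R^n h_* N) = 0`. -/
theorem subsingleton_H0_Rpush (N : EtCoh.Ab X) (n : ℕ) (hn : 0 < n)
    (hN : ∀ i, 0 < i → i < n → ∀ a, Subsingleton (EtCoh.H Y ((EtCoh.Rpush h i).obj N) a))
    (hs : Function.Surjective (edgeH h N n)) (hi : Function.Injective (edgeH h N (n + 1))) :
    Subsingleton (EtCoh.H Y ((EtCoh.Rpush h n).obj N) 0) := by
  obtain ⟨m, rfl⟩ : ∃ m, n = m + 1 := ⟨n - 1, by omega⟩
  have key := EdgeLemma.hom_rightDerived_eq_zero (EtCoh.pullPushAdj h) (EtCoh.const Y ℤ) m N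
    (fun j hj b => hN (j + 1) (Nat.succ_pos j) (by omega) b)
    (edge_surjective h N (m + 1) hs) (edge_injective h N (m + 2) hi)
  refine ⟨fun x y => ?_⟩
  obtain ⟨x, rfl⟩ := (Ext.mk₀_bijective _ _).2 x
  obtain ⟨y, rfl⟩ := (Ext.mk₀_bijective _ _).2 y
  rw [key x, key y]

end Groth.Agent.EtpbcB.EdgeEt
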