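import Groth.Agent.EtpbcB.Acyc
import Groth.Agent.EtpbcB.HShift

/-!
If `R^j f_* F = 0` for `j > 0` and `Y' ⟶ Y` has the property that `H^1(Y', -) = 0`, then every
positive degree class of `H^q(X, F)` dies in `H^q(X', F|X')` for any commutative square
`X' ⟶ X`, `X' ⟶ Y'` over `Y`.
-/

set_option autoImplicit false
open CategoryTheory CategoryTheory.Limits AlgebraicGeometry Opposite
universe u

namespace Groth.Agent.EtpbcB.EdgeVan

open CategoryTheory.Abelian
open Groth.Agent.EtpbcB.Acyc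

variable {X Y X' Y' : Scheme.{u}} (f : X ⟶ Y) (g : Y' ⟶ Y) (f' : X' ⟶ Y') (g' : X' ⟶ X)
  (w : g' ≫ f = f' ≫ g)

/-- `f'⁻¹ g⁻¹ ≅ g'⁻¹ f⁻¹` -/
noncomputable def kappa : EtCoh.pull g ⋙ EtCoh.pull f' ≅ EtCoh.pull f ⋙ EtCoh.pull g' :=
  (EtCore.pullComp f' g).symm ≪≫ EtCore.pullCongr w.symm ≪≫ EtCore.pullComp g' f

include w

/-- Lifting a global section of `Q` pulled back to `X'` to `g'⁻¹ I`. -/
theorem exists_lift {I Q : EtCoh.Ab X} (p : I ⟶ Q) (Z : EtCoh.Ab Y)
    (s : (EtCoh.pull f).obj Z ⟶ Q)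
    (t : (EtCoh.pull g).obj Z ⟶ (EtCoh.pull g).obj ((EtCoh.push f).obj I))
    (ht : t ≫ (EtCoh.pull g).map ((EtCoh.push f).map p) =
      (EtCoh.pull g).map ((EtCoh.pullPushAdj f).homEquiv _ _ s)) :
    ∃ t' : (EtCoh.pull g').obj ((EtCoh.pull f).obj Z) ⟶ (EtCoh.pull g').obj I,
      t' ≫ (EtCoh.pull g').map p = (EtCoh.pull g').map s := by
  let k := kappa f g f' g' w
  refine ⟨k.inv.app Z ≫ (EtCoh.pull f').map t ≫ k.hom.app ((EtCoh.push f).obj I) ≫
    (EtCoh.pull g').map ((EtCoh.pullPushAdj f).counit.app I), ?_⟩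
  have h1 : (EtCoh.pull g').map ((EtCoh.pullPushAdj f).counit.app I) ≫ (EtCoh.pull g').map p =
      (EtCoh.pull g').map ((EtCoh.pull f).map ((EtCoh.push f).map p)) ≫
        (EtCoh.pull g').map ((EtCoh.pullPushAdj f).counit.app Q) := by
    rw [← Functor.map_comp, ← Functor.map_comp]
    congr 1
    exact ((EtCoh.pullPushAdj f).counit.naturality p).symm
  have h2 : k.hom.app ((EtCoh.push f).obj I) ≫
      (EtCoh.pull g').map ((EtCoh.pull f).map ((EtCoh.push f).map p)) =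
      (EtCoh.pull f').map ((EtCoh.pull g).map ((EtCoh.push f).map p)) ≫
        k.hom.app ((EtCoh.push f).obj Q) := (k.hom.naturality _).symm
  have h3 : (EtCoh.pull f').map t ≫
      (EtCoh.pull f').map ((EtCoh.pull g).map ((EtCoh.push f).map p)) =
      (EtCoh.pull f').map ((EtCoh.pull g).map ((EtCoh.pullPushAdj f).homEquiv _ _ s)) := by
    rw [← Functor.map_comp, ht]
  have h4 : k.inv.app Z ≫
      (EtCoh.pull f').map ((EtCoh.pull g).map ((EtCoh.pullPushAdj f).homEquiv _ _ s)) =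
      (EtCoh.pull g').map ((EtCoh.pull f).map ((EtCoh.pullPushAdj f).homEquiv _ _ s)) ≫
        k.inv.app ((EtCoh.push f).obj Q) := (k.inv.naturality _).symm
  have h5 : (EtCoh.pull f).map ((EtCoh.pullPushAdj f).homEquiv _ _ s) ≫
      (EtCoh.pullPushAdj f).counit.app Q = s := by
    have := (EtCoh.pullPushAdj f).homEquiv_counit (X := Z) (Y := Q)
      (g := (EtCoh.pullPushAdj f).homEquiv _ _ s)
    rw [← this, Equiv.symm_apply_apply]
  rw [Category.assoc, Category.assoc, Category.assoc, h1, reassoc_of% h2, reassoc_of% h3,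
    reassoc_of% h4]
  rw [Iso.inv_hom_id_app_assoc, ← Functor.map_comp, h5]

omit w in
theorem lift_comp_extClass {T : ShortComplex (EtCoh.Ab X')} (hT : T.ShortExact) {Z : EtCoh.Ab X'}
    (t : Z ⟶ T.X₂) (r : Z ⟶ T.X₃) (hr : t ≫ T.g = r) :
    (Ext.mk₀ r).comp hT.extClass (zero_add 1) = 0 := by
  rw [← hr, ← Ext.mk₀_comp_mk₀, Ext.comp_assoc_of_second_deg_zero, hT.comp_extClass, Ext.comp_zero]

/-- The vanishing statement for the map on `Ext` groups. -/
theorem mapExact_eq_zero [PreservesFiniteLimits (EtCoh.pull g')] (Z : EtCoh.Ab Y)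
    (hY' : ∀ G : EtCoh.Ab Y', Subsingleton (Ext.{u + 1} ((EtCoh.pull g).obj Z) G 1)) (q : ℕ)
    (F : EtCoh.Ab X) (hF : Acyclic (EtCoh.push f) F)
    (ξ : Ext.{u + 1} ((EtCoh.pull f).obj Z) F (q + 1)) :
    ξ.mapExactFunctor (EtCoh.pull g') = 0 := by
  have : PreservesFiniteLimits (EtCoh.pull g) := Groth.Agent.S0101.result g
  induction q generalizing F with
  | zero =>
    let S : ShortComplex (EtCoh.Ab X) := ShortComplex.mk (Injective.ι F) (cokernel.π (Injective.ι F))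
      (cokernel.condition _)
    have hS : S.ShortExact :=
      { exact := ShortComplex.exact_cokernel _
        mono_f := inferInstanceAs (Mono (Injective.ι F))
        epi_g := inferInstanceAs (Epi (cokernel.π (Injective.ι F))) }
    obtain ⟨s, hs⟩ := Ext.covariant_sequence_exact₁ _ hS ξ
      (Ext.eq_zero_of_injective (I := Injective.under F) _) (zero_add 1)
    obtain ⟨s, rfl⟩ := (Ext.mk₀_bijective _ _).2 s
    rw [← hs, Ext.mapExactFunctor_comp, Ext.mapExactFunctor_mk₀, Ext.mapExactFunctor_extClass]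
    -- lift on `Y'`
    have hSY : (S.map (EtCoh.push f)).ShortExact := Acyclic.map_shortExact hS hF
    have hSY' : ((S.map (EtCoh.push f)).map (EtCoh.pull g)).ShortExact := hSY.map_of_exact _
    let σ : (EtCoh.pull g).obj Z ⟶ (EtCoh.pull g).obj ((EtCoh.push f).obj S.X₃) :=
      (EtCoh.pull g).map ((EtCoh.pullPushAdj f).homEquiv _ _ s)
    obtain ⟨t, ht⟩ := Ext.covariant_sequence_exact₃ _ hSY' (Ext.mk₀ σ) (zero_add 1)
      (@Subsingleton.elim _ (hY' _) _ _)
    obtain ⟨t, rfl⟩ := (Ext.mk₀_bijective _ _).2 t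
    rw [Ext.mk₀_comp_mk₀] at ht
    obtain ⟨t', ht'⟩ := exists_lift f g f' g' w S.g Z s t ((Ext.mk₀_bijective _ _).1 ht)
    exact lift_comp_extClass (hS.map_of_exact (EtCoh.pull g')) t' _ ht'
  | succ q IH =>
    let S : ShortComplex (EtCoh.Ab X) := ShortComplex.mk (Injective.ι F) (cokernel.π (Injective.ι F))
      (cokernel.condition _)
    have hS : S.ShortExact :=
      { exact := ShortComplex.exact_cokernel _
        mono_f := inferInstanceAs (Mono (Injective.ι F))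
        epi_g := inferInstanceAs (Epi (cokernel.π (Injective.ι F))) }
    obtain ⟨s, hs⟩ := Ext.covariant_sequence_exact₁ _ hS ξ
      (Ext.eq_zero_of_injective (I := Injective.under F) _) rfl
    have hQ : Acyclic (EtCoh.push f) S.X₃ :=
      Acyclic.right hS hF (acyclic_of_injective _ (Injective.under F))
    rw [← hs, Ext.mapExactFunctor_comp, IH _ hQ s, Ext.zero_comp]

/-- If `R^j f_* F = 0` for `j > 0` and `H^1(Y', -) = 0`, then positive degree classes on `X` die on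
`X'`. -/
theorem Hpull_eq_zero [PreservesFiniteLimits (EtCoh.pull g')]
    (hY' : ∀ G : EtCoh.Ab Y', Subsingleton (EtCoh.H Y' G 1)) (q : ℕ)
    (F : EtCoh.Ab X) (hF : Acyclic (EtCoh.push f) F) (ξ : EtCoh.H X F (q + 1)) :
    EtCore.Hpull g' F (q + 1) ξ = 0 := by
  -- transport to `Z_X = f⁻¹ Z_Y`
  let Z : EtCoh.Ab Y := EtCoh.const Y ℤ
  have hZ : ∀ G : EtCoh.Ab Y', Subsingleton (Ext.{u + 1} ((EtCoh.pull g).obj Z) G 1) := by
    intro G
    have h := hY' G
    refine subsingleton_of_forall_eq 0 fun x ↦ ?_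
    have e : x = (Ext.mk₀ (EtCore.pullConst g ℤ).hom).comp
        ((Ext.mk₀ (EtCore.pullConst g ℤ).inv).comp x (zero_add 1)) (zero_add 1) := by
      rw [← Ext.comp_assoc_of_second_deg_zero, Ext.mk₀_comp_mk₀, Iso.hom_inv_id, Ext.mk₀_id_comp]
    rw [e, @Subsingleton.elim _ h ((Ext.mk₀ (EtCore.pullConst g ℤ).inv).comp x (zero_add 1)) 0,
      Ext.comp_zero]
  have key := mapExact_eq_zero f g f' g' w Z hZ q F hF
    ((Ext.mk₀ (EtCore.pullConst f ℤ).hom).comp ξ (zero_add (q + 1)))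
  have h2 : ξ.mapExactFunctor (EtCoh.pull g') = 0 := by
    have e : ξ = (Ext.mk₀ (EtCore.pullConst f ℤ).inv).comp
        ((Ext.mk₀ (EtCore.pullConst f ℤ).hom).comp ξ (zero_add (q + 1))) (zero_add (q + 1)) := by
      rw [← Ext.comp_assoc_of_second_deg_zero, Ext.mk₀_comp_mk₀, Iso.inv_hom_id, Ext.mk₀_id_comp]
    rw [e, Ext.mapExactFunctor_comp, key, Ext.comp_zero]
  change (Ext.mk₀ (EtCore.pullConst g' ℤ).inv).comp (ξ.mapExactFunctor (EtCoh.pull g')) (zero_add (q + 1)) = 0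
  rw [h2, Ext.comp_zero]

end Groth.Agent.EtpbcB.EdgeVan
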