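import Groth.Agent.EtpbcB.HLim
import Groth.Agent.EtpbcB.HenselPlace
import Groth.Agent.Etcore.FGLim

/-!
# Étale cohomology and extensions of algebraically closed fields

`X/k` quasi-compact and quasi-separated, `k ⊆ K` algebraically closed fields, `F` an abelian sheaf
on `X`.
* `injective_Hpull`: `H^q(X, F) → H^q(X_K, F_K)` is injective (specialisation at `k`-points);
* `surjective_Hpull`: it is surjective if `H^q(X, F) → H^q(X_V, F_V)` is surjective for every
  henselian valuation ring `V` with residue field `k` (places of `K/k`);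
* `subsingleton_H`: vanishing form.
-/

set_option autoImplicit false

open CategoryTheory CategoryTheory.Limits AlgebraicGeometry Opposite
open CategoryTheory.Abelian

universe u

namespace Groth.Agent.EtpbcB.FieldExt

open HRel HLim Groth.Agent.Etcore Groth.Agent.Etcore.FGLim IsLocalRing

section Setup

variable {k K : Type u} [Field k] [CommRing K] [Algebra k K]
  {X : Scheme.{u}} (f : X ⟶ Spec (CommRingCat.of k)) [QuasiCompact f] [QuasiSeparated f]
  (F : EtCoh.Ab X) (q : ℕ)

/-- The inverse system of the spectra of the finitely generated subalgebras of `K`. -/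
noncomputable abbrev T (k K : Type u) [Field k] [CommRing K] [Algebra k K] :
    (FGSub k K)ᵒᵖ ⥤ Scheme.{u} :=
  PullbackLim.specSys (fgSys k K)

/-- Structure maps. -/
noncomputable def τ (k K : Type u) [Field k] [CommRing K] [Algebra k K] (a : (FGSub k K)ᵒᵖ) :
    (T k K).obj a ⟶ Spec (CommRingCat.of k) :=
  Spec.map (CommRingCat.ofHom (algebraMap k a.unop.1))

theorem hτ ⦃a b : (FGSub k K)ᵒᵖ⦄ (h : a ⟶ b) : (T k K).map h ≫ τ k K b = τ k K a := by
  change Spec.map _ ≫ Spec.map _ = Spec.map _
  rw [← Spec.map_comp]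
  rfl

theorem ht (a : (FGSub k K)ᵒᵖ) :
    (PullbackLim.specCone (fgSys k K) (fgCocone k K)).π.app a ≫ τ k K a =
      Spec.map (CommRingCat.ofHom (algebraMap k K)) := by
  change Spec.map _ ≫ Spec.map _ = Spec.map _
  rw [← Spec.map_comp]
  rfl

/-- Every class on `X_K` comes from a class on `X_B` for a finitely generated subalgebra `B`. -/
theorem exists_class_fg
    (ξ : EtCoh.H (pullback f (Spec.map (CommRingCat.ofHom (algebraMap k K))))
      ((EtCoh.pull (pullback.fst f (Spec.map (CommRingCat.ofHom (algebraMap k K))))).obj F) q) :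
    ∃ (B : Subalgebra k K) (_ : B.FG)
      (η : EtCoh.H (pullback f (Spec.map (CommRingCat.ofHom (algebraMap k B))))
        ((EtCoh.pull (pullback.fst f (Spec.map (CommRingCat.ofHom (algebraMap k B))))).obj F) q)
      (pr : pullback f (Spec.map (CommRingCat.ofHom (algebraMap k K))) ⟶
        pullback f (Spec.map (CommRingCat.ofHom (algebraMap k B))))
      (w : pr ≫ pullback.fst _ _ = pullback.fst _ _),
      pr ≫ pullback.snd _ _ = pullback.snd _ _ ≫ Spec.map (CommRingCat.ofHom (algebraMap B K)) ∧
      EtCore.HpullVia pr (pullback.fst f (Spec.map (CommRingCat.ofHom (algebraMap k B))))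
        (pullback.fst f (Spec.map (CommRingCat.ofHom (algebraMap k K)))) w F q η = ξ := by
  obtain ⟨B, -, η, h⟩ := exists_class (T k K) (τ k K) hτ f
    (fun _ _ h => PullbackLim.isAffineHom_specSys (fgSys k K) h)
    (fun a => by have := PullbackLim.isAffine_specSys (fgSys k K) a; infer_instance)
    (fun a => by have := PullbackLim.isAffine_specSys (fgSys k K) a; infer_instance)
    (PullbackLim.specCone (fgSys k K) (fgCocone k K))
    (Spec.map (CommRingCat.ofHom (algebraMap k K))) ht
    (PullbackLim.isLimitSpecCone _ _ (isColimitFG k K)) F q ⊥ ξ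
  exact ⟨B.1, B.2, η, PullbackLim.proj (T k K) (τ k K) f _ _ ht (op B),
    PullbackLim.proj_fst (T k K) (τ k K) f _ _ ht (op B),
    PullbackLim.proj_snd (T k K) (τ k K) f _ _ ht (op B), h⟩

/-- A class on `X` vanishing on `X_K` vanishes on `X_B` for some finitely generated `B`. -/
theorem exists_zero_fg (ω : EtCoh.H X F q)
    (hω : EtCore.Hpull (pullback.fst f (Spec.map (CommRingCat.ofHom (algebraMap k K)))) F q ω = 0) :
    ∃ (B : Subalgebra k K) (_ : B.FG),
      EtCore.Hpull (pullback.fst f (Spec.map (CommRingCat.ofHom (algebraMap k B)))) F q ω = 0 := by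
  have h0 := Hpull_comp (PullbackLim.proj (T k K) (τ k K) f _ _ ht (op ⊥))
    (pullback.fst f (τ k K (op ⊥))) _ (PullbackLim.proj_fst (T k K) (τ k K) f _ _ ht (op ⊥)) F q ω
  obtain ⟨B, hB, h⟩ := exists_zero (T k K) (τ k K) hτ f
    (fun _ _ h => PullbackLim.isAffineHom_specSys (fgSys k K) h)
    (fun a => by have := PullbackLim.isAffine_specSys (fgSys k K) a; infer_instance)
    (fun a => by have := PullbackLim.isAffine_specSys (fgSys k K) a; infer_instance)
    (PullbackLim.specCone (fgSys k K) (fgCocone k K))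
    (Spec.map (CommRingCat.ofHom (algebraMap k K))) ht
    (PullbackLim.isLimitSpecCone _ _ (isColimitFG k K)) F q ⊥
    (EtCore.Hpull (pullback.fst f (τ k K (op ⊥))) F q ω) (h0.trans hω)
  refine ⟨B.1, B.2, ?_⟩
  rw [Hpull_comp _ _ _ (PullbackLim.mapp_fst _ _ _ _ _)] at h
  exact h

end Setup

theorem mem_range_of_factor {X P Q W : Scheme.{u}} (F : EtCoh.Ab X) (q : ℕ)
    (pP : P ⟶ X) (pQ : Q ⟶ X) (pW : W ⟶ X)
    (a : W ⟶ Q) (b : Q ⟶ P) (pr : W ⟶ P) (wab : a ≫ b = pr) (wb : b ≫ pP = pQ)
    (wa : a ≫ pQ = pW) (w : pr ≫ pP = pW) (h : Function.Surjective (EtCore.Hpull pQ F q))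
    (η : EtCoh.H P ((EtCoh.pull pP).obj F) q) :
    ∃ ω, EtCore.Hpull pW F q ω = EtCore.HpullVia pr pP pW w F q η := by
  obtain ⟨ω, hω⟩ := h (EtCore.HpullVia b pP pQ wb F q η)
  exact ⟨ω, by rw [← Hpull_comp a pQ pW wa, hω, HpullVia_comp a b pr pW pQ pP wab wa wb w]⟩

section Main

variable {k K : Type u} [Field k] [IsAlgClosed k] {X : Scheme.{u}}
  (f : X ⟶ Spec (CommRingCat.of k)) [QuasiCompact f] [QuasiSeparated f]
  (F : EtCoh.Ab X) (q : ℕ)

/-- `H^q(X, F) → H^q(X_K, F_K)` is injective, for `k` algebraically closed and `K ≠ 0` any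
`k`-algebra. -/
theorem injective_Hpull [CommRing K] [Nontrivial K] [Algebra k K] :
    Function.Injective
      (EtCore.Hpull (pullback.fst f (Spec.map (CommRingCat.ofHom (algebraMap k K)))) F q) := by
  rw [injective_iff_map_eq_zero]
  intro ω hω
  obtain ⟨B, hB, h⟩ := exists_zero_fg f F q ω hω
  have : Algebra.FiniteType k B := (Subalgebra.fg_iff_finiteType B).1 hB
  obtain ⟨φ⟩ := exists_algHom_of_isAlgClosed k B
  let s : X ⟶ pullback f (Spec.map (CommRingCat.ofHom (algebraMap k B))) :=
    pullback.lift (𝟙 X) (f ≫ Spec.map (CommRingCat.ofHom φ.toRingHom)) (by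
      rw [Category.assoc, ← Spec.map_comp, ← CommRingCat.ofHom_comp, Category.id_comp]
      have : (φ.toRingHom.comp (algebraMap k B)) = RingHom.id k := by
        ext x
        exact φ.commutes x
      rw [this]
      exact ((congrArg (fun z => f ≫ z) (Spec.map_id (CommRingCat.of k))).trans
        (Category.comp_id f)).symm)
  have hs : s ≫ pullback.fst f (Spec.map (CommRingCat.ofHom (algebraMap k B))) = 𝟙 X :=
    pullback.lift_fst _ _ _
  have h1 := Hpull_comp s (pullback.fst f (Spec.map (CommRingCat.ofHom (algebraMap k B)))) (𝟙 X) hs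
    F q ω
  rw [h, map_zero] at h1
  exact (injective_iff_map_eq_zero _).1 (Etrest.IsoInv.bijective_Hpull (𝟙 X) F q).1 ω h1.symm

variable [Field K] [IsAlgClosed K] [Algebra k K]

/-- `H^q(X, F) → H^q(X_K, F_K)` is surjective if `H^q(X, F) → H^q(X_V, F_V)` is for all henselian
valuation rings `V` with residue field `k`. -/
theorem surjective_Hpull
    (hV : ∀ (V : Type u) [CommRing V] [IsDomain V] [ValuationRing V] [HenselianLocalRing V]
      (φ : k →+* V), Function.Bijective ((residue V).comp φ) →
      Function.Surjective (EtCore.Hpull (pullback.fst f (Spec.map (CommRingCat.ofHom φ))) F q)) :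
    Function.Surjective
      (EtCore.Hpull (pullback.fst f (Spec.map (CommRingCat.ofHom (algebraMap k K)))) F q) := by
  intro ξ
  obtain ⟨B, hB, η, pr, w, hpr, rfl⟩ := exists_class_fg f F q ξ
  have : Algebra.FiniteType k B := (Subalgebra.fg_iff_finiteType B).1 hB
  obtain ⟨φ⟩ := exists_algHom_of_isAlgClosed k B
  obtain ⟨V, hk, hBV, -, hres⟩ := HenselPlace.exists_valuationSubring B φ
  have : HenselianLocalRing V := HenselPlace.henselianLocalRing V
  let i : k →+* V := (algebraMap k K).codRestrict V.toSubring hk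
  let j : B →+* V := (algebraMap B K).codRestrict V.toSubring (fun b => hBV b)
  let b : pullback f (Spec.map (CommRingCat.ofHom i)) ⟶
      pullback f (Spec.map (CommRingCat.ofHom (algebraMap k B))) :=
    pullback.lift (pullback.fst f (Spec.map (CommRingCat.ofHom i)))
      (pullback.snd f (Spec.map (CommRingCat.ofHom i)) ≫ Spec.map (CommRingCat.ofHom j)) (by
        rw [Category.assoc, ← Spec.map_comp, ← CommRingCat.ofHom_comp, pullback.condition]
        rfl)
  let a : pullback f (Spec.map (CommRingCat.ofHom (algebraMap k K))) ⟶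
      pullback f (Spec.map (CommRingCat.ofHom i)) :=
    pullback.lift (pullback.fst _ _)
      (pullback.snd _ _ ≫ Spec.map (CommRingCat.ofHom V.subtype)) (by
        rw [Category.assoc, ← Spec.map_comp, ← CommRingCat.ofHom_comp, pullback.condition]
        rfl)
  have hab : a ≫ b = pr := by
    apply pullback.hom_ext
    · rw [Category.assoc, pullback.lift_fst, pullback.lift_fst, w]
    · rw [Category.assoc, pullback.lift_snd, pullback.lift_snd_assoc, hpr, Category.assoc,
        ← Spec.map_comp]
      rfl
  exact mem_range_of_factor F q _ _ _ a b pr hab (pullback.lift_fst _ _ _)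
    (pullback.lift_fst _ _ _) w
    (hV V i (HenselPlace.bijective_algebraMap_residueField V hk hres)) η

theorem bijective_Hpull
    (hV : ∀ (V : Type u) [CommRing V] [IsDomain V] [ValuationRing V] [HenselianLocalRing V]
      (φ : k →+* V), Function.Bijective ((residue V).comp φ) →
      Function.Surjective (EtCore.Hpull (pullback.fst f (Spec.map (CommRingCat.ofHom φ))) F q)) :
    Function.Bijective
      (EtCore.Hpull (pullback.fst f (Spec.map (CommRingCat.ofHom (algebraMap k K)))) F q) :=
  ⟨injective_Hpull f F q, surjective_Hpull f F q hV⟩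

/-- Vanishing form. -/
theorem subsingleton_H
    (hV : ∀ (V : Type u) [CommRing V] [IsDomain V] [ValuationRing V] [HenselianLocalRing V]
      (φ : k →+* V), Function.Bijective ((residue V).comp φ) →
      Subsingleton (EtCoh.H (pullback f (Spec.map (CommRingCat.ofHom φ)))
        ((EtCoh.pull (pullback.fst f (Spec.map (CommRingCat.ofHom φ)))).obj F) q))
    (h : Subsingleton (EtCoh.H X F q)) :
    Subsingleton (EtCoh.H (pullback f (Spec.map (CommRingCat.ofHom (algebraMap k K))))
      ((EtCoh.pull (pullback.fst f (Spec.map (CommRingCat.ofHom (algebraMap k K))))).obj F) q) :=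
  (surjective_Hpull f F q fun V _ _ _ _ φ hφ _ =>
    ⟨0, (hV V φ hφ).elim _ _⟩).subsingleton

end Main

end Groth.Agent.EtpbcB.FieldExt
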