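import Mathlib.AlgebraicGeometry.Geometrically.Reduced

/-! The hypothesis "geometrically reduced fibres" of `S0163` and Mathlib's class. -/

set_option autoImplicit false
universe u
open CategoryTheory CategoryTheory.Limits AlgebraicGeometry

namespace Groth.Agent.EtpbcB.GeomRedConv

theorem geometricallyReduced {X S : Scheme.{u}} (f : X ⟶ S)
    (hred : ∀ (s : S) (K : Type u) [Field K] (k : Spec (CommRingCat.of K) ⟶ S),
      Set.range k = {s} → IsReduced (pullback f k)) : GeometricallyReduced f := by
  refine ⟨fun K _ k Z fst snd h => ?_⟩
  have h1 : Set.range k = {k default} := by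
    ext y
    constructor
    · rintro ⟨x, rfl⟩
      rw [Subsingleton.elim x default]
      rfl
    · rintro rfl
      exact ⟨_, rfl⟩
  have h2 := hred _ K k h1
  exact isReduced_of_isOpenImmersion (h.isoPullback.hom)

end Groth.Agent.EtpbcB.GeomRedConv
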