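import Groth.Agent.EtpbcB.HRel
import Groth.Agent.Etcore.PullbackLim
import Groth.Agent.S0646

/-!
# Étale cohomology of fibre products over a cofiltered limit

`T : ιᵒᵖ ⥤ Scheme` an inverse system over `S` with affine transition maps and qcqs terms,
`c` a limit cone, `f : X ⟶ S` qcqs, `F` on `X`: every class in `H^p(X ×_S lim T, F|)` comes from a
finite stage, and a class at a finite stage which vanishes in the limit vanishes at a finite stage.
(Consequence of S0646.)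
-/

set_option autoImplicit false

open CategoryTheory CategoryTheory.Limits AlgebraicGeometry Opposite
open CategoryTheory.Abelian

universe u

namespace Groth.Agent.EtpbcB.HLim

open Groth.Agent.Etcore.PullCoh Groth.Agent.Sga4B.ExtCmp HRel Groth.Agent.Etcore

/-- Change of the reference scheme in the relative pullback. -/
theorem HpullVia_change {X Y Z T : Scheme.{u}} (f : X ⟶ Y) (t : Y ⟶ Z) (s : Z ⟶ T)
    (ft : X ⟶ Z) (ts : Y ⟶ T) (fts : X ⟶ T) (w₁ : f ≫ t = ft) (w₂ : t ≫ s = ts)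
    (w₃ : f ≫ ts = fts) (w₄ : ft ≫ s = fts) (G : EtCoh.Ab T) (p : ℕ)
    (ξ : EtCoh.H Y ((EtCoh.pull t).obj ((EtCoh.pull s).obj G)) p) :
    EtCore.HpullVia f ts fts w₃ G p (ξ.comp (Ext.mk₀ (th t s ts w₂ G)) (add_zero p)) =
      (EtCore.HpullVia f t ft w₁ ((EtCoh.pull s).obj G) p ξ).comp
        (Ext.mk₀ (th ft s fts w₄ G)) (add_zero p) := by
  rw [HpullVia_eq, HpullVia_eq, cmp_mk₀, Ext.comp_assoc_of_third_deg_zero, Ext.mk₀_comp_mk₀,
    th_assoc f t s ft ts fts w₁ w₂ w₃ w₄, Ext.comp_assoc_of_third_deg_zero, Ext.mk₀_comp_mk₀]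

theorem comp_mk₀_inj {X : Scheme.{u}} {F G : EtCoh.Ab X} (φ : F ⟶ G) [IsIso φ] {p : ℕ}
    {ξ η : EtCoh.H X F p}
    (h : ξ.comp (Ext.mk₀ φ) (add_zero p) = η.comp (Ext.mk₀ φ) (add_zero p)) : ξ = η := by
  have := congrArg (fun z : EtCoh.H X G p => z.comp (Ext.mk₀ (inv φ)) (add_zero p)) h
  simpa only [Ext.comp_assoc_of_third_deg_zero, Ext.mk₀_comp_mk₀, IsIso.hom_inv_id,
    Ext.comp_mk₀_id] using this

theorem comp_mk₀_inv_comp {X : Scheme.{u}} {F G : EtCoh.Ab X} (φ : F ⟶ G) [IsIso φ] {p : ℕ}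
    (ξ : EtCoh.H X G p) :
    (ξ.comp (Ext.mk₀ (inv φ)) (add_zero p)).comp (Ext.mk₀ φ) (add_zero p) = ξ := by
  rw [Ext.comp_assoc_of_third_deg_zero, Ext.mk₀_comp_mk₀, IsIso.inv_hom_id, Ext.comp_mk₀_id]

variable {ι : Type u} [Preorder ι] [IsDirected ι (· ≤ ·)] (T : ιᵒᵖ ⥤ Scheme.{u}) {S X : Scheme.{u}}
  (τ : ∀ a : ιᵒᵖ, T.obj a ⟶ S) (hτ : ∀ ⦃a b : ιᵒᵖ⦄ (h : a ⟶ b), T.map h ≫ τ b = τ a) (f : X ⟶ S)
  [QuasiCompact f] [QuasiSeparated f]
  (haff : ∀ ⦃a b : ιᵒᵖ⦄ (h : a ⟶ b), IsAffineHom (T.map h))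
  (hqc : ∀ a, CompactSpace ↥(T.obj a)) (hqs : ∀ a, QuasiSeparatedSpace ↥(T.obj a))
  (c : Cone T) (t : c.pt ⟶ S) (ht : ∀ a, c.π.app a ≫ τ a = t) (hc : IsLimit c)
  (F : EtCoh.Ab X) (p : ℕ)

include haff hqc hqs hτ hc

/-- Every class on the limit comes from a finite stage. -/
theorem exists_class (i₀ : ι) (ξ : EtCoh.H (pullback f t) ((EtCoh.pull (pullback.fst f t)).obj F) p) :
    ∃ (j : ι) (_ : i₀ ≤ j)
      (η : EtCoh.H (pullback f (τ (op j))) ((EtCoh.pull (pullback.fst f (τ (op j)))).obj F) p),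
      EtCore.HpullVia (PullbackLim.proj T τ f c t ht (op j)) (pullback.fst f (τ (op j)))
        (pullback.fst f t) (PullbackLim.proj_fst T τ f c t ht (op j)) F p η = ξ := by
  have := hqc
  have := hqs
  have : Nonempty ι := ⟨i₀⟩
  obtain ⟨j, hj, ξj, h⟩ := (S0646.result (PullbackLim.sys T τ hτ f)
    (fun _ _ h => PullbackLim.isAffineHom_mapp T τ hτ f haff h)
    (fun a => PullbackLim.compactSpace_obj T τ hτ f a)
    (fun a => PullbackLim.quasiSeparatedSpace_obj T τ hτ f a)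
    (PullbackLim.cone T τ hτ f c t ht) (PullbackLim.isLimitCone T τ hτ f c t ht hc) i₀
    ((EtCoh.pull (pullback.fst f (τ (op i₀)))).obj F) p).1
    (ξ.comp (Ext.mk₀ (inv (th (PullbackLim.proj T τ f c t ht (op i₀))
      (pullback.fst f (τ (op i₀))) (pullback.fst f t)
      (PullbackLim.proj_fst T τ f c t ht (op i₀)) F))) (add_zero p))
  refine ⟨j, hj, ξj.comp (Ext.mk₀ (th (PullbackLim.mapp T τ hτ f (homOfLE hj).op)
    (pullback.fst f (τ (op i₀))) (pullback.fst f (τ (op j))) (PullbackLim.mapp_fst _ _ _ _ _) F))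
    (add_zero p), ?_⟩
  refine (HpullVia_change (PullbackLim.proj T τ f c t ht (op j))
    (PullbackLim.mapp T τ hτ f (homOfLE hj).op) (pullback.fst f (τ (op i₀)))
    (PullbackLim.proj T τ f c t ht (op i₀)) (pullback.fst f (τ (op j))) (pullback.fst f t)
    (PullbackLim.proj_mapp _ _ _ _ _ _ _ _) (PullbackLim.mapp_fst _ _ _ _ _)
    (PullbackLim.proj_fst _ _ _ _ _ _ _) (PullbackLim.proj_fst _ _ _ _ _ _ _) F p ξj).trans ?_
  refine (congrArg (fun z : EtCoh.H (pullback f t) _ p => z.comp (Ext.mk₀ (th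
    (PullbackLim.proj T τ f c t ht (op i₀)) (pullback.fst f (τ (op i₀))) (pullback.fst f t)
      (PullbackLim.proj_fst T τ f c t ht (op i₀)) F)) (add_zero p)) h).trans ?_
  exact comp_mk₀_inv_comp _ ξ

/-- A class at a finite stage vanishing in the limit vanishes at a finite stage. -/
theorem exists_zero (j : ι)
    (η : EtCoh.H (pullback f (τ (op j))) ((EtCoh.pull (pullback.fst f (τ (op j)))).obj F) p)
    (hη : EtCore.HpullVia (PullbackLim.proj T τ f c t ht (op j)) (pullback.fst f (τ (op j)))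
        (pullback.fst f t) (PullbackLim.proj_fst T τ f c t ht (op j)) F p η = 0) :
    ∃ (k : ι) (hk : j ≤ k),
      EtCore.HpullVia (PullbackLim.mapp T τ hτ f (homOfLE hk).op) (pullback.fst f (τ (op j)))
        (pullback.fst f (τ (op k))) (PullbackLim.mapp_fst _ _ _ _ _) F p η = 0 := by
  have := hqc
  have := hqs
  have : Nonempty ι := ⟨j⟩
  let m : pullback f (τ (op j)) ⟶ pullback f (τ (op j)) :=
    PullbackLim.mapp T τ hτ f (homOfLE (le_refl j)).op
  have hm : m ≫ pullback.fst f (τ (op j)) = pullback.fst f (τ (op j)) :=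
    PullbackLim.mapp_fst _ _ _ _ _
  let η' : EtCoh.H (pullback f (τ (op j)))
      ((EtCoh.pull m).obj ((EtCoh.pull (pullback.fst f (τ (op j)))).obj F)) p :=
    η.comp (Ext.mk₀ (inv (th m (pullback.fst f (τ (op j))) (pullback.fst f (τ (op j))) hm F)))
      (add_zero p)
  have e : η'.comp (Ext.mk₀ (th m (pullback.fst f (τ (op j))) (pullback.fst f (τ (op j))) hm F))
      (add_zero p) = η := comp_mk₀_inv_comp _ η
  have h1 : EtCore.HpullVia (PullbackLim.proj T τ f c t ht (op j)) m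
      (PullbackLim.proj T τ f c t ht (op j)) (PullbackLim.proj_mapp _ _ _ _ _ _ _ _)
      ((EtCoh.pull (pullback.fst f (τ (op j)))).obj F) p η' = 0 := by
    apply comp_mk₀_inj (th (PullbackLim.proj T τ f c t ht (op j)) (pullback.fst f (τ (op j)))
      (pullback.fst f t) (PullbackLim.proj_fst T τ f c t ht (op j)) F)
    rw [← HpullVia_change (PullbackLim.proj T τ f c t ht (op j)) m (pullback.fst f (τ (op j)))
      (PullbackLim.proj T τ f c t ht (op j)) (pullback.fst f (τ (op j))) (pullback.fst f t)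
      (PullbackLim.proj_mapp _ _ _ _ _ _ _ _) hm (PullbackLim.proj_fst T τ f c t ht (op j)), e, hη,
      Ext.zero_comp]
  obtain ⟨k, hk, h⟩ := (S0646.result (PullbackLim.sys T τ hτ f)
    (fun _ _ h => PullbackLim.isAffineHom_mapp T τ hτ f haff h)
    (fun a => PullbackLim.compactSpace_obj T τ hτ f a)
    (fun a => PullbackLim.quasiSeparatedSpace_obj T τ hτ f a)
    (PullbackLim.cone T τ hτ f c t ht) (PullbackLim.isLimitCone T τ hτ f c t ht hc) j
    ((EtCoh.pull (pullback.fst f (τ (op j)))).obj F) p).2 j le_rfl η' h1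
  refine ⟨k, hk, ?_⟩
  have h2 : cmp (EtCoh.pull (PullbackLim.mapp T τ hτ f (homOfLE hk).op))
      (EtCore.pullConst (PullbackLim.mapp T τ hτ f (homOfLE hk).op) ℤ).inv _ p η' = 0 := h
  rw [← e, HpullVia_eq, cmp_mk₀, h2, Ext.zero_comp, Ext.zero_comp]

end Groth.Agent.EtpbcB.HLim
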