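import Groth.Prelude.Def_EtCore
import Groth.Agent.Etcore.PullCoh
import Groth.Agent.Etcore.ExtAdj
import Groth.Agent.Sga4B.ExtCmp
import Groth.Agent.Etrest.IsoInv
import Groth.Agent.S0101

/-!
# Relative pullback on étale cohomology

For a fixed scheme `T` and an abelian sheaf `G` on `T`, `X ↦ H^p(X, G|_X)` is a functor on
`T`-schemes, via `EtCore.HpullVia`:
* `HpullVia_comp`, `HpullVia_id`, `HpullVia_Hpull`, `Hpull_comp`;
* `bijective_HpullVia_of_isIso`;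
* `HpullVia_nat`: naturality in the sheaf.
-/

set_option autoImplicit false

open CategoryTheory CategoryTheory.Limits AlgebraicGeometry Opposite
open CategoryTheory.Abelian

namespace Groth.Agent.EtpbcB.HRel

open Groth.Agent.Etcore.PullCoh Groth.Agent.Etcore.ExtAdj Groth.Agent.Sga4B.ExtCmp

section Abstract

universe w w' w'' v v' v'' u u' u''

variable {C : Type u} [Category.{v} C] [Abelian C] [HasExt.{w} C] [EnoughInjectives C]
variable {D : Type u'} [Category.{v'} D] [Abelian D] [HasExt.{w'} D]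
variable {E : Type u''} [Category.{v''} E] [Abelian E] [HasExt.{w''} E]

/-- Composition of comparison maps. -/
theorem cmp_cmp (Φ : C ⥤ D) [Φ.Additive] [PreservesFiniteLimits Φ] [PreservesFiniteColimits Φ]
    (Ψ : D ⥤ E) [Ψ.Additive] [PreservesFiniteLimits Ψ] [PreservesFiniteColimits Ψ]
    (Χ : C ⥤ E) [Χ.Additive] [PreservesFiniteLimits Χ] [PreservesFiniteColimits Χ]
    (θ : Φ ⋙ Ψ ⟶ Χ) {A : C} {B : D} {B' : E} (b : B ⟶ Φ.obj A) (b' : B' ⟶ Ψ.obj B)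
    (b'' : B' ⟶ Χ.obj A) (hb : b' ≫ Ψ.map b ≫ θ.app A = b'') (G : C) (n : ℕ) (e : Ext.{w} A G n) :
    (cmp Ψ b' (Φ.obj G) n (cmp Φ b G n e)).comp (Ext.mk₀ (θ.app G)) (add_zero n) =
      cmp Χ b'' G n e := by
  have i1 : PreservesFiniteLimits (Φ ⋙ Ψ) := comp_preservesFiniteLimits _ _
  have i2 : PreservesFiniteColimits (Φ ⋙ Ψ) := comp_preservesFiniteColimits _ _
  have h1 := mapExactFunctor_nat (F := Φ ⋙ Ψ) (G := Χ) θ e
  rw [mapExactFunctor_compFunctor] at h1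
  rw [cmp_apply, cmp_apply, cmp_apply, Ext.mapExactFunctor_comp, Ext.mapExactFunctor_mk₀,
    ← Ext.comp_assoc (Ext.mk₀ b') _ _ (zero_add 0) (zero_add n) (by omega),
    Ext.comp_assoc_of_third_deg_zero]
  refine (congrArg (fun z => Ext.comp _ z (zero_add n)) h1).trans ?_
  rw [← Ext.comp_assoc _ _ _ (add_zero 0) (zero_add n) (by omega), Ext.mk₀_comp_mk₀,
    Ext.mk₀_comp_mk₀]
  subst hb
  simp

/-- Composition of comparison maps, relative version. -/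
theorem cmp_cmp_rel (Φ : C ⥤ D) [Φ.Additive] [PreservesFiniteLimits Φ] [PreservesFiniteColimits Φ]
    (Ψ : D ⥤ E) [Ψ.Additive] [PreservesFiniteLimits Ψ] [PreservesFiniteColimits Ψ]
    (Χ : C ⥤ E) [Χ.Additive] [PreservesFiniteLimits Χ] [PreservesFiniteColimits Χ]
    (θ : Φ ⋙ Ψ ⟶ Χ) {A : C} {B : D} {B' : E} (b : B ⟶ Φ.obj A) (b' : B' ⟶ Ψ.obj B)
    (b'' : B' ⟶ Χ.obj A) (hb : b' ≫ Ψ.map b ≫ θ.app A = b'') {G : C} {G' : D} {G'' : E}
    (α : Φ.obj G ⟶ G') (β : Ψ.obj G' ⟶ G'') (γ : Χ.obj G ⟶ G'')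
    (h : Ψ.map α ≫ β = θ.app G ≫ γ) (n : ℕ) (e : Ext.{w} A G n) :
    (cmp Ψ b' G' n ((cmp Φ b G n e).comp (Ext.mk₀ α) (add_zero n))).comp (Ext.mk₀ β)
      (add_zero n) = (cmp Χ b'' G n e).comp (Ext.mk₀ γ) (add_zero n) := by
  rw [cmp_mk₀, Ext.comp_assoc_of_third_deg_zero, Ext.mk₀_comp_mk₀, h, ← Ext.mk₀_comp_mk₀,
    ← Ext.comp_assoc_of_third_deg_zero, cmp_cmp Φ Ψ Χ θ b b' b'' hb]

end Abstract

universe u

instance pull_exact {X Y : Scheme.{u}} (f : X ⟶ Y) : PreservesFiniteLimits (EtCoh.pull f) :=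
  S0101.result f

theorem Hpull_eq {X Y : Scheme.{u}} (f : X ⟶ Y) (G : EtCoh.Ab Y) (p : ℕ) (ξ : EtCoh.H Y G p) :
    EtCore.Hpull f G p ξ = cmp (EtCoh.pull f) (EtCore.pullConst f ℤ).inv G p ξ := rfl

theorem HpullVia_eq {X Y Z : Scheme.{u}} (f : X ⟶ Y) (t : Y ⟶ Z) (f₀ : X ⟶ Z)
    (w : f ≫ t = f₀) (G : EtCoh.Ab Z) (p : ℕ) (ξ : EtCoh.H Y ((EtCoh.pull t).obj G) p) :
    EtCore.HpullVia f t f₀ w G p ξ =
      (cmp (EtCoh.pull f) (EtCore.pullConst f ℤ).inv _ p ξ).comp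
        (Ext.mk₀ (th f t f₀ w G)) (add_zero p) := rfl

theorem pc_comp {X Y Z : Scheme.{u}} (f : X ⟶ Y) (g : Y ⟶ Z) (h : X ⟶ Z) (w : f ≫ g = h) :
    (EtCore.pullConst f ℤ).inv ≫ (EtCoh.pull f).map (EtCore.pullConst g ℤ).inv ≫
      (theta f g h w).hom.app (EtCoh.const Z ℤ) = (EtCore.pullConst h ℤ).inv := by
  have h1 := pullConst_comp f g h w ℤ
  have h2 : th f g h w (EtCoh.const Z ℤ) = (theta f g h w).hom.app (EtCoh.const Z ℤ) := rfl
  rw [← h2, Iso.inv_comp_eq, ← Functor.mapIso_inv, Iso.inv_comp_eq, Functor.mapIso_hom,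
    ← Category.assoc, Iso.eq_comp_inv]
  exact h1.symm

/-- The pullback on cohomology for a composition. -/
theorem Hpull_comp {X Y Z : Scheme.{u}} (f : X ⟶ Y) (g : Y ⟶ Z) (h : X ⟶ Z) (w : f ≫ g = h)
    (G : EtCoh.Ab Z) (p : ℕ) (ξ : EtCoh.H Z G p) :
    EtCore.HpullVia f g h w G p (EtCore.Hpull g G p ξ) = EtCore.Hpull h G p ξ := by
  rw [HpullVia_eq, Hpull_eq, Hpull_eq]
  exact cmp_cmp (EtCoh.pull g) (EtCoh.pull f) (EtCoh.pull h) (theta f g h w).hom _ _ _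
    (pc_comp f g h w) G p ξ

/-- Functoriality of the relative pullback. -/
theorem HpullVia_comp {X Y Z T : Scheme.{u}} (f : X ⟶ Y) (g : Y ⟶ Z) (h : X ⟶ Z)
    (tX : X ⟶ T) (tY : Y ⟶ T) (tZ : Z ⟶ T) (w : f ≫ g = h) (wf : f ≫ tY = tX)
    (wg : g ≫ tZ = tY) (wh : h ≫ tZ = tX)
    (G : EtCoh.Ab T) (p : ℕ) (ξ : EtCoh.H Z ((EtCoh.pull tZ).obj G) p) :
    EtCore.HpullVia f tY tX wf G p (EtCore.HpullVia g tZ tY wg G p ξ) =
      EtCore.HpullVia h tZ tX wh G p ξ := by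
  rw [HpullVia_eq, HpullVia_eq, HpullVia_eq]
  exact cmp_cmp_rel (EtCoh.pull g) (EtCoh.pull f) (EtCoh.pull h) (theta f g h w).hom _ _ _
    (pc_comp f g h w) _ _ _ (th_assoc f g tZ h tY tX w wg wf wh G) p ξ

/-- Naturality of the relative pullback in the sheaf. -/
theorem HpullVia_nat {X Y T : Scheme.{u}} (f : X ⟶ Y)
    (tX : X ⟶ T) (tY : Y ⟶ T) (w : f ≫ tY = tX) {G G' : EtCoh.Ab T} (a : G ⟶ G') (p : ℕ)
    (ξ : EtCoh.H Y ((EtCoh.pull tY).obj G) p) :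
    EtCore.HpullVia f tY tX w G' p (ξ.comp (Ext.mk₀ ((EtCoh.pull tY).map a)) (add_zero p)) =
      (EtCore.HpullVia f tY tX w G p ξ).comp (Ext.mk₀ ((EtCoh.pull tX).map a)) (add_zero p) := by
  rw [HpullVia_eq, HpullVia_eq, cmp_mk₀, Ext.comp_assoc_of_third_deg_zero, Ext.mk₀_comp_mk₀,
    th_nat, Ext.comp_assoc_of_third_deg_zero, Ext.mk₀_comp_mk₀]

theorem bijective_HpullVia {X Y T : Scheme.{u}} (f : X ⟶ Y) [IsIso f]
    (t : Y ⟶ T) (f₀ : X ⟶ T) (w : f ≫ t = f₀) (G : EtCoh.Ab T) (p : ℕ) :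
    Function.Bijective (EtCore.HpullVia f t f₀ w G p) := by
  have h1 := Etrest.IsoInv.bijective_Hpull f ((EtCoh.pull t).obj G) p
  have h2 : Function.Bijective ((EtCoh.HF X p).map
      (((EtCore.pullComp f t).symm ≪≫ EtCore.pullCongr w).app G).hom).hom :=
    ConcreteCategory.bijective_of_isIso ((EtCoh.HF X p).map
      (((EtCore.pullComp f t).symm ≪≫ EtCore.pullCongr w).app G).hom)
  exact h2.comp h1

theorem HpullVia_id {X T : Scheme.{u}} (t : X ⟶ T) (w : 𝟙 X ≫ t = t) (G : EtCoh.Ab T) (p : ℕ)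
    (ξ : EtCoh.H X ((EtCoh.pull t).obj G) p) :
    EtCore.HpullVia (𝟙 X) t t w G p ξ = ξ :=
  (bijective_HpullVia (𝟙 X) t t w G p).1
    (HpullVia_comp (𝟙 X) (𝟙 X) (𝟙 X) t t t (Category.comp_id _) w w w G p ξ)

end Groth.Agent.EtpbcB.HRel
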