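import Groth.Agent.EtpbcB.CmpTools
import Groth.Agent.EtpbcB.BCIso
import Groth.Agent.EtpbcB.NKillH
import Groth.Prelude.Def_EtCore

/-!
# `Hpull` bijective in all degrees on sheaves killed by `l`

Criterion: degree zero (the unit is bijective on global sections) and `H^q(W, i⁻¹ J[l]) = 0` for
`J` injective, `q > 0`.
-/

set_option autoImplicit false
universe u
open CategoryTheory CategoryTheory.Limits AlgebraicGeometry Opposite

namespace Groth.Agent.EtpbcB.HpullKill

open Sga4B.ExtCmp EtpbcB.NKill EtpbcB.NKillEt EtpbcB.BCIso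

variable {X Y : Scheme.{u}}

/-- Morphisms from the constant sheaf `ℤ` are global sections. -/
theorem bijective_hom_of_bijAt {F G : EtCoh.Ab X} (φ : F ⟶ G) (h : BijAt φ (EtCoh.top X)) :
    Function.Bijective (fun ψ : EtCoh.const X ℤ ⟶ F => ψ ≫ φ) := by
  rw [bijAt_iff_isIso] at h
  have h1 : IsIso ((EtCore.gsec X).map φ) := h
  have h2 : Function.Bijective (fun ψ : AddCommGrpCat.of (ULift.{u + 1} ℤ) ⟶ (EtCore.gsec X).obj F =>
      ψ ≫ (EtCore.gsec X).map φ) := by
    refine Function.bijective_iff_has_inverse.2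
      ⟨fun ψ => ψ ≫ inv ((EtCore.gsec X).map φ), fun ψ => ?_, fun ψ => ?_⟩
    · simp
    · simp
  have e1 := ((EtCore.constAdj X).homEquiv (AddCommGrpCat.of (ULift.{u + 1} ℤ)) F).bijective
  have e2 := ((EtCore.constAdj X).homEquiv (AddCommGrpCat.of (ULift.{u + 1} ℤ)) G).bijective
  rw [← Function.Bijective.of_comp_iff' e2]
  convert! h2.comp e1 using 1

/-- Embedding of an `l`-killed sheaf in `J[l]`. -/
theorem exists_embedding {l : ℕ} {F : EtCoh.Ab X} (hF : EtCoh.KilledBy l F) :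
    ∃ (J : EtCoh.Ab X) (_ : Injective J) (S : ShortComplex (EtCoh.Ab X)) (_ : S.ShortExact)
      (_ : S.X₁ = F), EtCoh.KilledBy l S.X₃ ∧ S.X₂ = tor l J := by
  obtain ⟨J, hJ, i, hi⟩ := exists_mono_tor ((killedBy_iff l F).1 hF)
  refine ⟨J, hJ, ShortComplex.mk i (cokernel.π i) (cokernel.condition i),
    { exact := ShortComplex.exact_cokernel i }, rfl, ?_, rfl⟩
  exact (killedBy_iff l _).2 (killed_of_epi (cokernel.π i) (killed_tor l J))

/-- **Criterion** for `Hpull` to be bijective in all degrees on sheaves killed by `l`. -/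
theorem bijective_cmp (i : X ⟶ Y) {l : ℕ} (hl : 0 < l)
    (hub : ∀ G : EtCoh.Ab Y, EtCoh.KilledBy l G →
      BijAt ((EtCoh.pullPushAdj i).unit.app G) (EtCoh.top Y))
    (hv : ∀ (J : EtCoh.Ab Y) [Injective J] (q : ℕ),
      Subsingleton (EtCoh.H X ((EtCoh.pull i).obj (tor l J)) (q + 1)))
    (F : EtCoh.Ab Y) (hF : EtCoh.KilledBy l F) (q : ℕ) :
    Function.Bijective (cmp (EtCoh.pull i) (EtCore.pullConst i ℤ).inv F q) := by
  refine CmpTools.bijective_of_class (EtCoh.pull i) (EtCore.pullConst i ℤ).inv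
    (fun G => EtCoh.KilledBy l G) (fun G hG => ?_) (fun G hG => ?_) q F hF
  · exact CmpTools.bijective_zero (EtCoh.pull i) _ (EtCoh.pullPushAdj i) G
      (bijective_hom_of_bijAt _ (hub G hG))
  · obtain ⟨J, hJ, S, hS, rfl, h3, h2⟩ := exists_embedding hG
    refine ⟨S, hS, rfl, h3, ?_, fun q => ?_, fun q => ?_⟩
    · rw [h2]
      exact (killedBy_iff l _).2 (killed_tor l J)
    · rw [h2]
      exact NKillH.H_tor J hl (q + 1) (Nat.succ_pos q)
    · rw [h2]
      exact hv J q

end Groth.Agent.EtpbcB.HpullKill
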