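import Groth.Prelude.Def_PBC
import Mathlib.CategoryTheory.Limits.Preserves.Over
import Mathlib.Algebra.Category.Ring.FilteredColimits
import Mathlib.RingTheory.RingHom.Etale

/-!
# `EtPBC.IdentifiesLocalRings`: elementary API
-/

set_option autoImplicit false
set_option linter.dupNamespace false
universe u v w

open CategoryTheory CategoryTheory.Limits

namespace Groth.Agent.EtpbcB.IdLoc

/-- Ring homomorphism version of `EtPBC.IdentifiesLocalRings`. -/
def IdLoc {A B : Type*} [CommRing A] [CommRing B] (f : A →+* B) : Prop :=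
  ∀ (p : Ideal A) [p.IsPrime] (q : Ideal B) [q.IsPrime] (h : p = q.comap f),
    Function.Bijective (Localization.localRingHom p q f h)

theorem identifiesLocalRings_iff (A B : Type u) [CommRing A] [CommRing B] [Algebra A B] :
    EtPBC.IdentifiesLocalRings A B ↔ IdLoc (algebraMap A B) := by
  constructor
  · intro H p _ q _ h
    subst h
    exact H ⟨q, inferInstance⟩
  · intro H q
    exact H _ _ rfl

section

variable {A B C : Type*} [CommRing A] [CommRing B] [CommRing C]

theorem IdLoc.comp {f : A →+* B} {g : B →+* C} (hf : IdLoc f) (hg : IdLoc g) :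
    IdLoc (g.comp f) := by
  intro p _ r _ h
  have h1 : p = (r.comap g).comap f := by rw [h, Ideal.comap_comap]
  rw [Localization.localRingHom_comp p (r.comap g) r f h1 g rfl]
  exact (hg (r.comap g) r rfl).comp (hf p (r.comap g) h1)

theorem IdLoc.of_comp {f : A →+* B} {g : B →+* C} (hf : IdLoc f) (h : IdLoc (g.comp f)) :
    IdLoc g := by
  intro q _ r _ hr
  have h1 : q.comap f = r.comap (g.comp f) := by rw [hr, Ideal.comap_comap]
  have h2 := h (q.comap f) r h1
  rw [Localization.localRingHom_comp (q.comap f) q r f rfl g hr] at h2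
  exact (Function.Bijective.of_comp_iff _ (hf (q.comap f) q rfl)).1 h2


theorem bijective_of {f : A →+* B} (p : Ideal A) [p.IsPrime] (q : Ideal B) [q.IsPrime]
    (h : p = q.comap f)
    (h1 : ∀ (a : A) (t : B), t ∉ q → t * f a = 0 → ∃ s ∉ p, s * a = 0)
    (h2 : ∀ b : B, ∃ a : A, ∃ s ∉ p, ∃ t ∉ q, t * (f s * b) = t * f a) :
    Function.Bijective (Localization.localRingHom p q f h) := by
  constructor
  · rw [injective_iff_map_eq_zero]
    intro x hx
    obtain ⟨a, s, rfl⟩ := IsLocalization.exists_mk'_eq p.primeCompl x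
    rw [Localization.localRingHom_mk', IsLocalization.mk'_eq_zero_iff] at hx
    obtain ⟨⟨t, ht⟩, hta⟩ := hx
    obtain ⟨s', hs', h'⟩ := h1 a t ht hta
    rw [IsLocalization.mk'_eq_zero_iff]
    exact ⟨⟨s', hs'⟩, h'⟩
  · intro y
    obtain ⟨b, ⟨t0, ht0⟩, rfl⟩ := IsLocalization.exists_mk'_eq q.primeCompl y
    obtain ⟨a1, s1, hs1, t1, ht1, e1⟩ := h2 b
    obtain ⟨a2, s2, hs2, t2, ht2, e2⟩ := h2 t0
    have hq : q.IsPrime := inferInstance
    have hfs2 : f s2 ∉ q := by rw [h] at hs2; exact hs2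
    have ha2 : a2 ∉ p := by
      intro ha
      rw [h] at ha
      have : t2 * (f s2 * t0) ∈ q := e2 ▸ q.mul_mem_left _ ha
      rcases hq.mem_or_mem this with h3 | h3
      · exact ht2 h3
      · rcases hq.mem_or_mem h3 with h4 | h4
        · exact hfs2 h4
        · exact ht0 h4
    have hp : p.IsPrime := inferInstance
    have hs1a2 : s1 * a2 ∉ p := fun h' => (hp.mem_or_mem h').elim hs1 ha2
    refine ⟨IsLocalization.mk' _ (a1 * s2) (⟨s1 * a2, hs1a2⟩ : p.primeCompl), ?_⟩
    rw [Localization.localRingHom_mk', IsLocalization.mk'_eq_iff_eq, IsLocalization.eq_iff_exists q.primeCompl]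
    refine ⟨⟨t1 * t2, fun h' => (hq.mem_or_mem h').elim ht1 ht2⟩, ?_⟩
    simp only [map_mul]
    linear_combination (-f a1 * t1) * e2 * 0 + (t2 * (f s2 * t0)) * (-e1) + (t1 * f s1 * b) * e2

theorem exists_of_bijective {f : A →+* B} (p : Ideal A) [p.IsPrime] (q : Ideal B) [q.IsPrime]
    (h : p = q.comap f) (H : Function.Bijective (Localization.localRingHom p q f h)) :
    (∀ (a : A) (t : B), t ∉ q → t * f a = 0 → ∃ s ∉ p, s * a = 0) ∧
    (∀ b : B, ∃ a : A, ∃ s ∉ p, ∃ t ∉ q, t * (f s * b) = t * f a) := by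
  constructor
  · intro a t ht hta
    have : Localization.localRingHom p q f h (algebraMap A _ a) = 0 := by
      rw [Localization.localRingHom_to_map, IsLocalization.map_eq_zero_iff q.primeCompl]
      exact ⟨⟨t, ht⟩, hta⟩
    rw [map_eq_zero_iff _ H.1, IsLocalization.map_eq_zero_iff p.primeCompl] at this
    obtain ⟨⟨s, hs⟩, h'⟩ := this
    exact ⟨s, hs, h'⟩
  · intro b
    obtain ⟨x, hx⟩ := H.2 (algebraMap B _ b)
    obtain ⟨a, ⟨s, hs⟩, rfl⟩ := IsLocalization.exists_mk'_eq p.primeCompl x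
    rw [Localization.localRingHom_mk', IsLocalization.mk'_eq_iff_eq_mul, ← map_mul,
      IsLocalization.eq_iff_exists q.primeCompl] at hx
    obtain ⟨⟨t, ht⟩, h'⟩ := hx
    refine ⟨a, s, hs, t, ht, ?_⟩
    simp only at h'
    linear_combination -h'

theorem idLoc_of {f : A →+* B} (h : ∀ (q : Ideal B) [q.IsPrime], 
      (∀ (a : A) (t : B), t ∉ q → t * f a = 0 → ∃ s, f s ∉ q ∧ s * a = 0) ∧
      (∀ b : B, ∃ a s : A, f s ∉ q ∧ ∃ t ∉ q, t * (f s * b) = t * f a)) : IdLoc f := by
  intro p _ q _ hpq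
  subst hpq
  refine bijective_of _ q rfl ?_ ?_
  · intro a t ht hta
    obtain ⟨s, hs, h'⟩ := (h q).1 a t ht hta
    exact ⟨s, hs, h'⟩
  · intro b
    obtain ⟨a, s, hs, t, ht, h'⟩ := (h q).2 b
    exact ⟨a, s, hs, t, ht, h'⟩

theorem IdLoc.exists_of {f : A →+* B} (h : IdLoc f) (q : Ideal B) [q.IsPrime] :
      (∀ (a : A) (t : B), t ∉ q → t * f a = 0 → ∃ s, f s ∉ q ∧ s * a = 0) ∧
      (∀ b : B, ∃ a s : A, f s ∉ q ∧ ∃ t ∉ q, t * (f s * b) = t * f a) := by
  obtain ⟨h1, h2⟩ := exists_of_bijective (q.comap f) q rfl (h _ q rfl)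
  refine ⟨?_, ?_⟩
  · intro a t ht hta
    obtain ⟨s, hs, h'⟩ := h1 a t ht hta
    exact ⟨s, hs, h'⟩
  · intro b
    obtain ⟨a, s, hs, t, ht, h'⟩ := h2 b
    exact ⟨a, s, hs, t, ht, h'⟩

theorem IdLoc.of_bijective {f : A →+* B} (h : Function.Bijective f) : IdLoc f := by
  refine idLoc_of fun q hq => ⟨?_, ?_⟩
  · intro a t ht hta
    obtain ⟨t', rfl⟩ := h.2 t
    refine ⟨t', ht, h.1 ?_⟩
    rw [map_mul, hta, map_zero]
  · intro b
    obtain ⟨b', rfl⟩ := h.2 b
    have h1 : (1 : B) ∉ q := fun h => hq.ne_top ((Ideal.eq_top_iff_one _).2 h)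
    exact ⟨b', 1, by rwa [map_one], 1, h1, by simp⟩

theorem IdLoc.of_isLocalization (S : Submonoid A) [Algebra A B] [IsLocalization S B] :
    IdLoc (algebraMap A B) := by
  refine idLoc_of fun q hq => ⟨?_, ?_⟩
  · intro a t ht hta
    obtain ⟨c, s, rfl⟩ := IsLocalization.exists_mk'_eq S t
    rw [← IsLocalization.mk'_one (M := S) B a, ← IsLocalization.mk'_mul, mul_one, IsLocalization.mk'_eq_zero_iff] at hta
    obtain ⟨s', h'⟩ := hta
    refine ⟨s' * c, ?_, by rw [mul_assoc]; exact h'⟩
    intro hmem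
    rw [map_mul] at hmem
    rcases hq.mem_or_mem hmem with h3 | h3
    · exact hq.ne_top (Ideal.eq_top_of_isUnit_mem _ h3 (IsLocalization.map_units B s'))
    · apply ht
      rw [IsLocalization.mk'_eq_mul_mk'_one]
      exact q.mul_mem_right _ h3
  · intro b
    obtain ⟨c, s, rfl⟩ := IsLocalization.exists_mk'_eq S b
    refine ⟨c, s, fun h3 => hq.ne_top (Ideal.eq_top_of_isUnit_mem _ h3 (IsLocalization.map_units B s)), 
      1, fun h3 => hq.ne_top (Ideal.eq_top_of_isUnit_mem _ h3 isUnit_one), ?_⟩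
    rw [one_mul, one_mul, mul_comm, IsLocalization.mk'_spec]


theorem IdLoc.of_local {A B : Type*} [CommRing A] [CommRing B] {f : A →+* B}
    (h : ∀ (q : Ideal B) [q.IsPrime], ∃ (C : Type _) (_ : CommRing C) (g : B →+* C) (r : Ideal C)
      (_ : r.IsPrime), q = r.comap g ∧ IdLoc g ∧ IdLoc (g.comp f)) : IdLoc f := by
  intro p _ q _ hpq
  obtain ⟨C, _, g, r, _, hqr, hg, hgf⟩ := h q
  have h1 : p = r.comap (g.comp f) := by rw [hpq, hqr, Ideal.comap_comap]
  have h2 := hgf p r h1
  rw [Localization.localRingHom_comp p q r f hpq g hqr] at h2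
  exact (Function.Bijective.of_comp_iff' (hg q r hqr) _).1 h2

theorem idLoc_of_isLocalIso (A B : Type u) [CommRing A] [CommRing B] [Algebra A B]
    [Algebra.IsLocalIso A B] : IdLoc (algebraMap A B) := by
  refine IdLoc.of_local fun q hq => ?_
  obtain ⟨g, hg, h⟩ := Algebra.IsLocalIso.exists_notMem_isStandardOpenImmersion (R := A) q
  obtain ⟨r, hr⟩ := h.exists_away
  have hd : Disjoint (Submonoid.powers g : Set B) (q : Set B) := by
    rw [Ideal.disjoint_powers_iff_notMem]
    · exact hg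
    · exact hq.isRadical
  refine ⟨Localization.Away g, inferInstance, algebraMap B _, q.map (algebraMap B _),
    IsLocalization.isPrime_of_isPrime_disjoint (Submonoid.powers g) _ q hq hd,
    (IsLocalization.under_map_of_isPrime_disjoint (Submonoid.powers g) _ hq hd).symm,
    IdLoc.of_isLocalization (Submonoid.powers g), ?_⟩
  rw [← IsScalarTower.algebraMap_eq A B (Localization.Away g)]
  exact IdLoc.of_isLocalization (Submonoid.powers r)

end

/-- A filtered colimit (under `A`) of algebras identifying local rings identifies local rings. -/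
theorem idLoc_of_isColimit {A : CommRingCat.{u}} {J : Type u} [SmallCategory J] [IsFiltered J]
    (D : J ⥤ Under A) (c : Cocone D) (hc : IsColimit c)
    (h : ∀ j, IdLoc (D.obj j).hom.hom) : IdLoc c.pt.hom.hom := by
  have hc' := isColimitOfPreserves (forget CommRingCat) (isColimitOfPreserves (Under.forget A) hc)
  have hw : ∀ j, (c.ι.app j).right.hom.comp (D.obj j).hom.hom = c.pt.hom.hom := by
    intro j
    rw [← CommRingCat.hom_comp, Under.w]
    rfl
  have hw' : ∀ (j k : J) (a : j ⟶ k) (x : (D.obj j).right),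
      (c.ι.app k).right.hom ((D.map a).right.hom x) = (c.ι.app j).right.hom x := by
    intro j k a x
    rw [← c.w a]
    rfl
  have hwA : ∀ (j k : J) (a : j ⟶ k) (x : A),
      (D.map a).right.hom ((D.obj j).hom.hom x) = (D.obj k).hom.hom x := by
    intro j k a x
    rw [← Under.w (D.map a)]
    rfl
  have hsurj : ∀ y : c.pt.right, ∃ (j : J) (x : (D.obj j).right), (c.ι.app j).right.hom x = y := by
    intro y
    obtain ⟨j, x, hx⟩ := Types.jointly_surjective_of_isColimit hc' y
    exact ⟨j, x, hx⟩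
  have hinj : ∀ (j : J) (x y : (D.obj j).right), (c.ι.app j).right.hom x = (c.ι.app j).right.hom y →
      ∃ (k : J) (a : j ⟶ k), (D.map a).right.hom x = (D.map a).right.hom y := by
    intro j x y hxy
    obtain ⟨k, f, g, e⟩ := (Types.FilteredColimit.isColimit_eq_iff _ hc' (xi := x) (xj := y)).1 hxy
    let k' := IsFiltered.coeq f g
    refine ⟨k', f ≫ IsFiltered.coeqHom f g, ?_⟩
    have e' : (D.map f).right.hom x = (D.map g).right.hom y := e
    rw [D.map_comp]
    change (D.map _).right.hom ((D.map f).right.hom x) = (D.map (IsFiltered.coeqHom f g)).right.hom ((D.map f).right.hom y)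
    rw [e']
    change ((D.map g) ≫ (D.map (IsFiltered.coeqHom f g))).right.hom y = ((D.map f) ≫ (D.map (IsFiltered.coeqHom f g))).right.hom y
    rw [← D.map_comp, ← D.map_comp, IsFiltered.coeq_condition f g]
  refine idLoc_of fun q hq => ⟨?_, ?_⟩
  · intro a t ht hta
    obtain ⟨j, t', rfl⟩ := hsurj t
    have h1 : (c.ι.app j).right.hom (t' * (D.obj j).hom.hom a) = (c.ι.app j).right.hom 0 := by
      rw [map_mul, map_zero, ← hta, ← hw j]
      rfl
    obtain ⟨k, b, hb⟩ := hinj j _ _ h1
    rw [map_mul, map_zero, hwA] at hb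
    obtain ⟨s, hs, hsa⟩ := ((h k).exists_of (q.comap (c.ι.app k).right.hom)).1 a _
      (by rw [Ideal.mem_comap, hw']; exact ht) hb
    refine ⟨s, ?_, hsa⟩
    rw [Ideal.mem_comap] at hs
    rw [← hw k]
    exact hs
  · intro b
    obtain ⟨j, b', rfl⟩ := hsurj b
    obtain ⟨a, s, hs, t, ht, e⟩ := ((h j).exists_of (q.comap (c.ι.app j).right.hom)).2 b'
    refine ⟨a, s, ?_, (c.ι.app j).right.hom t, ht, ?_⟩
    · rw [← hw j]; exact hs
    · rw [← hw j]
      simp only [RingHom.comp_apply, ← map_mul, e]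

/-- ind-Zariski algebras identify local rings. -/
theorem identifiesLocalRings_of_isIndZariski (A B : Type u) [CommRing A] [CommRing B] [Algebra A B]
    (h : EtPBC.IsIndZariski A B) : EtPBC.IdentifiesLocalRings A B := by
  obtain ⟨J, _, _, D, c, hc, hD, ⟨e⟩⟩ := h
  rw [identifiesLocalRings_iff]
  have h1 : IdLoc c.pt.hom.hom := by
    refine idLoc_of_isColimit D c hc fun j => ?_
    let := (D.obj j).hom.hom.toAlgebra
    have := hD j
    exact idLoc_of_isLocalIso A (D.obj j).right
  have h2 : algebraMap A B = (e.hom.right.hom).comp c.pt.hom.hom := by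
    have := Under.w e.hom
    rw [← CommRingCat.hom_comp, this]
    rfl
  rw [h2]
  refine h1.comp ?_
  have h3 : (e.inv.right.hom).comp e.hom.right.hom = RingHom.id _ := by
    rw [← CommRingCat.hom_comp, ← Under.comp_right, e.hom_inv_id]
    rfl
  have h4 : (e.hom.right.hom).comp e.inv.right.hom = RingHom.id _ := by
    rw [← CommRingCat.hom_comp, ← Under.comp_right, e.inv_hom_id]
    rfl
  have h5 : Function.Bijective e.hom.right.hom :=
    Function.bijective_iff_has_inverse.2 ⟨e.inv.right.hom, fun x => congr($h3 x), fun x => congr($h4 x)⟩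
  exact IdLoc.of_bijective h5

theorem etale_of_isLocalIso (A B : Type u) [CommRing A] [CommRing B] [Algebra A B]
    [Algebra.IsLocalIso A B] : Algebra.Etale A B := by
  rw [← RingHom.etale_algebraMap]
  refine RingHom.Etale.ofLocalizationSpanTarget _ _
    (Algebra.IsLocalIso.span_isStandardOpenImmersion_eq_top A B) ?_
  rintro ⟨g, hg⟩
  obtain ⟨r, hr⟩ := hg.exists_away
  rw [← IsScalarTower.algebraMap_eq A B (Localization.Away g), RingHom.etale_algebraMap]
  exact Algebra.Etale.of_isLocalizationAway r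

/-- ind-Zariski algebras are ind-etale. -/
theorem isIndEtale_of_isIndZariski (A B : Type u) [CommRing A] [CommRing B] [Algebra A B]
    (h : EtPBC.IsIndZariski A B) : EtPBC.IsIndEtale A B := by
  obtain ⟨J, h1, h2, D, c, hc, hD, e⟩ := h
  refine ⟨J, h1, h2, D, c, hc, fun j => ?_, e⟩
  let := (D.obj j).hom.hom.toAlgebra
  have := hD j
  exact etale_of_isLocalIso A (D.obj j).right

end Groth.Agent.EtpbcB.IdLoc
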