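import Groth.Agent.EtpbcB.FinExt

/-!
# Extension of finite finitely presented schemes under an integral one

`extAt_of_affine`: if the extension property holds for affine schemes, then it holds for all
quasi-compact and quasi-separated schemes.
-/

set_option autoImplicit false
universe u
open CategoryTheory CategoryTheory.Limits AlgebraicGeometry Opposite TopologicalSpace

namespace Groth.Agent.EtpbcB.IntLimC

open FinExt

/-- Extension property: for `z : Z ⟶ X` integral and a factorization of `z` over a quasi-compact open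
`U` through a finite finitely presented `U`-scheme `W`, there is such a factorization over `X`
extending the given one. -/
def ExtAt (X : Scheme.{u}) : Prop :=
  ∀ (U : X.Opens) (_ : IsCompact (U : Set X)) {Z W : Scheme.{u}} (z : Z ⟶ X) [IsIntegralHom z]
    (w : W ⟶ U) [IsFinite w] [LocallyOfFinitePresentation w] (g : (z ⁻¹ᵁ U).toScheme ⟶ W),
    g ≫ w = z ∣_ U →
      ∃ (Y : Scheme.{u}) (y : Y ⟶ X) (_ : IsFinite y) (_ : LocallyOfFinitePresentation y)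
        (h : Z ⟶ Y) (k : W ⟶ Y), h ≫ y = z ∧ IsPullback k w y U.ι ∧ g ≫ k = (z ⁻¹ᵁ U).ι ≫ h

theorem glue_hom {Z P : Scheme.{u}} (A B : Z.Opens) (hAB : A ⊔ B = ⊤) (a : A.toScheme ⟶ P)
    (b : B.toScheme ⟶ P)
    (h : pullback.fst A.ι B.ι ≫ a = pullback.snd A.ι B.ι ≫ b) :
    ∃ c : Z ⟶ P, A.ι ≫ c = a ∧ B.ι ≫ c = b := by
  let V : Bool → Z.Opens := fun t => Bool.rec A B t
  have hV : IsOpenCover V := by
    change iSup V = ⊤
    rw [iSup_bool_eq]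
    exact (sup_comm _ _).trans hAB
  let 𝒰 := Z.openCoverOfIsOpenCover V hV
  let f : ∀ t : Bool, (V t).toScheme ⟶ P := fun t => Bool.rec a b t
  have hf : ∀ x y : Bool, pullback.fst (V x).ι (V y).ι ≫ f x = pullback.snd (V x).ι (V y).ι ≫ f y := by
    rintro (_ | _) (_ | _)
    · have : pullback.fst A.ι A.ι = pullback.snd A.ι A.ι := by
        rw [← cancel_mono A.ι]; exact pullback.condition
      change pullback.fst A.ι A.ι ≫ a = pullback.snd A.ι A.ι ≫ a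
      rw [this]
    · exact h
    · change pullback.fst B.ι A.ι ≫ b = pullback.snd B.ι A.ι ≫ a
      rw [← cancel_epi (pullbackSymmetry A.ι B.ι).hom]
      simp [h]
    · have : pullback.fst B.ι B.ι = pullback.snd B.ι B.ι := by
        rw [← cancel_mono B.ι]; exact pullback.condition
      change pullback.fst B.ι B.ι ≫ b = pullback.snd B.ι B.ι ≫ b
      rw [this]
  refine ⟨𝒰.glueMorphisms f hf, ?_, ?_⟩
  · exact 𝒰.ι_glueMorphisms f hf false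
  · exact 𝒰.ι_glueMorphisms f hf true

theorem hom_ext_sup {Z P : Scheme.{u}} (A B : Z.Opens) (hAB : A ⊔ B = ⊤) (c d : Z ⟶ P)
    (h1 : A.ι ≫ c = A.ι ≫ d) (h2 : B.ι ≫ c = B.ι ≫ d) : c = d := by
  let V : Bool → Z.Opens := fun t => Bool.rec A B t
  have hV : IsOpenCover V := by
    change iSup V = ⊤
    rw [iSup_bool_eq]
    exact (sup_comm _ _).trans hAB
  let 𝒰 := Z.openCoverOfIsOpenCover V hV
  refine 𝒰.hom_ext _ _ ?_
  rintro (_ | _)
  · exact h1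
  · exact h2

/-- Glueing of two finite finitely presented schemes under an integral one along an open. -/
theorem exists_glue {S : Scheme.{u}} {O U : S.Opens} (hOU : O ⊔ U = ⊤) {W T W' Z : Scheme.{u}}
    (z : Z ⟶ S)
    (p : W ⟶ O) (q : T ⟶ U) (i : W' ⟶ W) (k : W' ⟶ T) [IsOpenImmersion i] [IsOpenImmersion k]
    (w : i ≫ p ≫ O.ι = k ≫ q ≫ U.ι) (hk : (q ≫ U.ι) ⁻¹ᵁ O ≤ k.opensRange)
    (hi : (p ≫ O.ι) ⁻¹ᵁ U ≤ i.opensRange) [IsFinite p] [IsFinite q]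
    [LocallyOfFinitePresentation p] [LocallyOfFinitePresentation q]
    (g : (z ⁻¹ᵁ O).toScheme ⟶ W) (hg : g ≫ p = z ∣_ O)
    (e : (z ⁻¹ᵁ U).toScheme ⟶ T) (he : e ≫ q = z ∣_ U)
    (hge : ∃ s : pullback (z ⁻¹ᵁ O).ι (z ⁻¹ᵁ U).ι ⟶ W', pullback.fst _ _ ≫ g = s ≫ i ∧
      pullback.snd _ _ ≫ e = s ≫ k) :
    ∃ (Y : Scheme.{u}) (π : Y ⟶ S) (_ : IsFinite π) (_ : LocallyOfFinitePresentation π)
      (h : Z ⟶ Y) (k : W ⟶ Y), h ≫ π = z ∧
      IsPullback k p π O.ι ∧ g ≫ k = (z ⁻¹ᵁ O).ι ≫ h := by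
  let π : pushout i k ⟶ S := pushout.desc (p ≫ O.ι) (q ≫ U.ι) w
  have h1 : π ⁻¹ᵁ O = (pushout.inl i k).opensRange := by
    refine preimage_desc_left i k O _ _ w ?_ hk
    rintro _ ⟨a, rfl⟩
    exact (p a).2
  have h2 : π ⁻¹ᵁ U = (pushout.inr i k).opensRange := by
    refine preimage_desc_right i k U _ _ w ?_ hi
    rintro _ ⟨a, rfl⟩
    exact (q a).2
  have hl : IsPullback p (pushout.inl i k) O.ι π :=
    IsOpenImmersion.isPullback _ _ _ _ (pushout.inl_desc _ _ _) (by simpa using h1)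
  have hr : IsPullback q (pushout.inr i k) U.ι π :=
    IsOpenImmersion.isPullback _ _ _ _ (pushout.inr_desc _ _ _) (by simpa using h2)
  have key : ∀ (P : MorphismProperty Scheme.{u}) [IsZariskiLocalAtTarget P], P p → P q → P π := by
    intro P _ hp hq
    refine IsZariskiLocalAtTarget.of_iSup_eq_top (P := P) (fun b : Bool => if b then O else U)
      (by rw [iSup_bool_eq]; exact hOU) ?_
    rintro (_ | _)
    · have h4 := (isPullback_morphismRestrict π U)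
      have h6 : π ∣_ U = (h4.isoIsPullback _ _ hr).hom ≫ q := by
        simp
      change P (π ∣_ U)
      rw [h6, P.cancel_left_of_respectsIso]
      exact hq
    · have h4 := (isPullback_morphismRestrict π O)
      have h6 : π ∣_ O = (h4.isoIsPullback _ _ hl).hom ≫ p := by
        simp
      change P (π ∣_ O)
      rw [h6, P.cancel_left_of_respectsIso]
      exact hp
  have hZ : z ⁻¹ᵁ O ⊔ z ⁻¹ᵁ U = ⊤ := by
    rw [← Scheme.Hom.preimage_sup, hOU]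
    rfl
  obtain ⟨s, hs1, hs2⟩ := hge
  obtain ⟨h, hh1, hh2⟩ := glue_hom (z ⁻¹ᵁ O) (z ⁻¹ᵁ U) hZ (g ≫ pushout.inl i k)
    (e ≫ pushout.inr i k) (by
      rw [reassoc_of% hs1, reassoc_of% hs2, pushout.condition])
  refine ⟨pushout i k, π, key @IsFinite inferInstance inferInstance,
    key @LocallyOfFinitePresentation inferInstance inferInstance, h, pushout.inl i k, ?_, hl.flip,
    hh1.symm⟩
  refine hom_ext_sup _ _ hZ _ _ ?_ ?_
  · rw [reassoc_of% hh1, pushout.inl_desc, reassoc_of% hg, morphismRestrict_ι]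
  · rw [reassoc_of% hh2, pushout.inr_desc, reassoc_of% he, morphismRestrict_ι]

theorem exists_extension_step {S : Scheme.{u}} [QuasiSeparatedSpace S] {O U : S.Opens}
    (hOU : O ⊔ U = ⊤) (hO : IsCompact (O : Set S)) (hU : IsAffineOpen U) (hext : ExtAt U.toScheme)
    {Z W : Scheme.{u}} (z : Z ⟶ S) [IsIntegralHom z]
    (p : W ⟶ O) [IsFinite p] [LocallyOfFinitePresentation p]
    (g : (z ⁻¹ᵁ O).toScheme ⟶ W) (hg : g ≫ p = z ∣_ O) :
    ∃ (Y : Scheme.{u}) (π : Y ⟶ S) (_ : IsFinite π) (_ : LocallyOfFinitePresentation π)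
      (h : Z ⟶ Y) (k : W ⟶ Y), h ≫ π = z ∧
      IsPullback k p π O.ι ∧ g ≫ k = (z ⁻¹ᵁ O).ι ≫ h := by
  have : IsAffine U := hU
  let D : U.toScheme.Opens := U.ι ⁻¹ᵁ O
  let E : O.toScheme.Opens := O.ι ⁻¹ᵁ U
  have hc : CompactSpace O := isCompact_iff_compactSpace.mp hO
  have hD : IsCompact (D : Set U) := by
    have h1 : IsCompact ((O : Set S) ∩ U) :=
      hO.inter_of_isOpen hU.isCompact O.2 U.2
    rw [U.ι.isOpenEmbedding.isCompact_iff]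
    convert h1 using 1
    have h2 := U.ι.image_preimage_eq_opensRange_inf O
    rw [Scheme.Opens.opensRange_ι] at h2
    have h3 := congr(($h2 : Set S))
    rw [Set.inter_comm]
    exact h3
  have hE1 : IsPullback (O.ι ∣_ U) E.ι U.ι O.ι := isPullback_morphismRestrict O.ι U
  have hE2 : IsPullback D.ι (U.ι ∣_ O) U.ι O.ι := (isPullback_morphismRestrict U.ι O).flip
  let a : E.toScheme ⟶ D.toScheme := (hE1.isoIsPullback _ _ hE2).hom
  have ha1 : a ≫ D.ι = O.ι ∣_ U := IsPullback.isoIsPullback_hom_fst _ _ _ _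
  let W' : W.Opens := p ⁻¹ᵁ E
  have : IsFinite ((p ∣_ E) ≫ a) := inferInstance
  have : LocallyOfFinitePresentation ((p ∣_ E) ≫ a) := inferInstance
  let Z' : (z ⁻¹ᵁ U).toScheme.Opens := (z ∣_ U) ⁻¹ᵁ D
  -- the map `Z' ⟶ z⁻¹ O`
  have hm0 : Set.range (Z'.ι ≫ (z ⁻¹ᵁ U).ι) ⊆ Set.range (z ⁻¹ᵁ O).ι := by
    rintro _ ⟨x, rfl⟩
    have h1 : U.ι ((z ∣_ U) (Z'.ι x)) ∈ O := x.2
    rw [← Scheme.Hom.comp_apply, ← Scheme.Hom.comp_apply, morphismRestrict_ι,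
      ← Category.assoc, Scheme.Hom.comp_apply] at h1
    exact ⟨⟨_, h1⟩, rfl⟩
  let m : Z'.toScheme ⟶ (z ⁻¹ᵁ O).toScheme := IsOpenImmersion.lift (z ⁻¹ᵁ O).ι
    (Z'.ι ≫ (z ⁻¹ᵁ U).ι) hm0
  have hm : m ≫ (z ⁻¹ᵁ O).ι = Z'.ι ≫ (z ⁻¹ᵁ U).ι := IsOpenImmersion.lift_fac _ _ _
  have hmz : m ≫ (z ∣_ O) ≫ O.ι = Z'.ι ≫ (z ∣_ U) ≫ U.ι := by
    rw [morphismRestrict_ι, morphismRestrict_ι, reassoc_of% hm]
  have hg0 : Set.range (m ≫ g) ⊆ Set.range W'.ι := by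
    rintro _ ⟨x, rfl⟩
    have h1 : O.ι (p ((m ≫ g) x)) ∈ U := by
      rw [← Scheme.Hom.comp_apply, ← Scheme.Hom.comp_apply, Category.assoc, reassoc_of% hg, hmz,
        ← Category.assoc, Scheme.Hom.comp_apply]
      exact ((Z'.ι ≫ z ∣_ U) x).2
    exact ⟨⟨_, h1⟩, rfl⟩
  let g' : Z'.toScheme ⟶ W'.toScheme := IsOpenImmersion.lift W'.ι (m ≫ g) hg0
  have hg' : g' ≫ W'.ι = m ≫ g := IsOpenImmersion.lift_fac _ _ _
  have hg'2 : g' ≫ (p ∣_ E) ≫ a = (z ∣_ U) ∣_ D := by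
    rw [← cancel_mono D.ι, ← cancel_mono U.ι]
    simp only [Category.assoc]
    rw [reassoc_of% ha1, morphismRestrict_ι O.ι U, reassoc_of% (morphismRestrict_ι p E),
      reassoc_of% hg', reassoc_of% hg, hmz, reassoc_of% (morphismRestrict_ι (z ∣_ U) D)]
  obtain ⟨T, q, hq1, hq2, hT, k, hTq, hk, hTk⟩ := hext D hD (z ∣_ U) ((p ∣_ E) ≫ a) g' hg'2
  have hkO : IsOpenImmersion k := MorphismProperty.of_isPullback hk.flip inferInstance
  have hw : W'.ι ≫ p ≫ O.ι = k ≫ q ≫ U.ι := by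
    have h1 : k ≫ q = ((p ∣_ E) ≫ a) ≫ D.ι := hk.w
    have h2 : W'.ι ≫ p = (p ∣_ E) ≫ E.ι := (morphismRestrict_ι _ _).symm
    rw [reassoc_of% h1, reassoc_of% h2, reassoc_of% ha1, morphismRestrict_ι]
  refine exists_glue hOU z p q W'.ι k hw ?_ ?_ g hg hT hTq ?_
  · intro t ht
    obtain ⟨x, hx, -⟩ := Scheme.exists_preimage_of_isPullback hk t ⟨q t, ht⟩ rfl
    exact ⟨x, hx⟩
  · rw [Scheme.Opens.opensRange_ι]
    exact le_rfl
  · have hs0 : Set.range (pullback.snd (z ⁻¹ᵁ O).ι (z ⁻¹ᵁ U).ι) ⊆ Set.range Z'.ι := by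
      rintro _ ⟨x, rfl⟩
      have h1 : U.ι ((z ∣_ U) (pullback.snd (z ⁻¹ᵁ O).ι (z ⁻¹ᵁ U).ι x)) ∈ O := by
        rw [← Scheme.Hom.comp_apply, ← Scheme.Hom.comp_apply, morphismRestrict_ι,
          ← pullback.condition_assoc, Scheme.Hom.comp_apply, Scheme.Hom.comp_apply]
        exact (pullback.fst (z ⁻¹ᵁ O).ι (z ⁻¹ᵁ U).ι x).2
      exact ⟨⟨_, h1⟩, rfl⟩
    let s : pullback (z ⁻¹ᵁ O).ι (z ⁻¹ᵁ U).ι ⟶ Z'.toScheme :=
      IsOpenImmersion.lift Z'.ι (pullback.snd (z ⁻¹ᵁ O).ι (z ⁻¹ᵁ U).ι) hs0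
    have hs : s ≫ Z'.ι = pullback.snd (z ⁻¹ᵁ O).ι (z ⁻¹ᵁ U).ι := IsOpenImmersion.lift_fac _ _ _
    have hs1 : s ≫ m = pullback.fst (z ⁻¹ᵁ O).ι (z ⁻¹ᵁ U).ι := by
      rw [← cancel_mono (z ⁻¹ᵁ O).ι, Category.assoc, hm, reassoc_of% hs, pullback.condition]
    refine ⟨s ≫ g', ?_, ?_⟩
    · rw [Category.assoc, hg', reassoc_of% hs1]
    · rw [Category.assoc, hTk, reassoc_of% hs]

theorem exists_extension_sup (hext : ∀ (A : Scheme.{u}) [IsAffine A], ExtAt A) {X : Scheme.{u}}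
    [QuasiSeparatedSpace X] (V : X.Opens)
    (hV : IsCompact (V : Set X)) {Z W : Scheme.{u}} (z : Z ⟶ X) [IsIntegralHom z]
    (p : W ⟶ V) [IsFinite p] [LocallyOfFinitePresentation p]
    (g : (z ⁻¹ᵁ V).toScheme ⟶ W) (hg : g ≫ p = z ∣_ V)
    (S : X.Opens) (hS : IsCompact (S : Set X)) :
    ∃ (Y : Scheme.{u}) (π : Y ⟶ (V ⊔ S : X.Opens)) (_ : IsFinite π)
      (_ : LocallyOfFinitePresentation π) (h : (z ⁻¹ᵁ (V ⊔ S)).toScheme ⟶ Y) (k : W ⟶ Y),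
      h ≫ π = z ∣_ (V ⊔ S) ∧
      IsPullback k p π (X.homOfLE le_sup_left) ∧
      g ≫ k = Z.homOfLE (Scheme.Hom.preimage_mono z le_sup_left) ≫ h := by
  refine compact_open_induction_on (P := fun S => ∃ (Y : Scheme.{u}) (π : Y ⟶ (V ⊔ S : X.Opens))
    (_ : IsFinite π) (_ : LocallyOfFinitePresentation π) (h : (z ⁻¹ᵁ (V ⊔ S)).toScheme ⟶ Y)
      (k : W ⟶ Y), h ≫ π = z ∣_ (V ⊔ S) ∧ IsPullback k p π (X.homOfLE le_sup_left) ∧
      g ≫ k = Z.homOfLE (Scheme.Hom.preimage_mono z le_sup_left) ≫ h) S hS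
    ?_ ?_
  · have h1 : V ⊔ ⊥ ≤ V := by simp
    have h2 : IsIso (X.homOfLE (le_sup_left : V ≤ V ⊔ ⊥)) :=
      ⟨X.homOfLE h1, by simp, by simp⟩
    refine ⟨W, p ≫ X.homOfLE le_sup_left, inferInstance, inferInstance,
      Z.homOfLE (Scheme.Hom.preimage_mono z h1) ≫ g, 𝟙 W, ?_, 
      IsPullback.of_horiz_isIso ⟨by simp⟩, by simp⟩
    rw [← cancel_mono (V ⊔ ⊥ : X.Opens).ι, morphismRestrict_ι]
    simp only [Category.assoc]
    rw [reassoc_of% hg, Scheme.homOfLE_ι, morphismRestrict_ι, Scheme.homOfLE_ι_assoc]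
  · rintro S hS U ⟨Y, π, h1, h2, h, k, hh, hk, hgk⟩
    let T : X.Opens := V ⊔ (S ⊔ U)
    have hle : V ⊔ S ≤ T := sup_le_sup_left le_sup_left V
    have hle' : (U : X.Opens) ≤ T := le_sup_right.trans le_sup_right
    let O' : T.toScheme.Opens := T.ι ⁻¹ᵁ (V ⊔ S)
    let U' : T.toScheme.Opens := T.ι ⁻¹ᵁ U
    let b := Scheme.Opens.isoOfLE hle
    have hO' : IsCompact (O' : Set T) := by
      rw [T.ι.isOpenEmbedding.isCompact_iff]
      have h5 := T.ι.image_preimage_eq_opensRange_inf (V ⊔ S)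
      rw [Scheme.Opens.opensRange_ι, inf_eq_right.2 hle] at h5
      have h6 : T.ι '' (O' : Set T) = ((V ⊔ S : X.Opens) : Set X) := congr(($h5 : Set X))
      rw [h6]
      exact hV.union hS
    have hU' : IsAffineOpen U' := U.2.preimage_of_isOpenImmersion T.ι (by simpa using hle')
    have hOU : O' ⊔ U' = ⊤ := by
      rw [← top_le_iff]
      intro x _
      have h5 : (T.ι x) ∈ V ⊔ (S ⊔ U) := x.2
      rw [← sup_assoc] at h5
      exact h5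
    have : QuasiSeparatedSpace T := quasiSeparatedSpace_of_quasiSeparated T.ι
    -- the map from the preimage
    have hc0 : Set.range (((z ∣_ T) ⁻¹ᵁ O').ι ≫ (z ⁻¹ᵁ T).ι) ⊆ Set.range (z ⁻¹ᵁ (V ⊔ S)).ι := by
      rintro _ ⟨x, rfl⟩
      have h1 : T.ι ((z ∣_ T) (((z ∣_ T) ⁻¹ᵁ O').ι x)) ∈ V ⊔ S := x.2
      rw [← Scheme.Hom.comp_apply, ← Scheme.Hom.comp_apply, morphismRestrict_ι,
        ← Category.assoc, Scheme.Hom.comp_apply] at h1
      exact ⟨⟨_, h1⟩, rfl⟩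
    let c : ((z ∣_ T) ⁻¹ᵁ O').toScheme ⟶ (z ⁻¹ᵁ (V ⊔ S)).toScheme :=
      IsOpenImmersion.lift (z ⁻¹ᵁ (V ⊔ S)).ι (((z ∣_ T) ⁻¹ᵁ O').ι ≫ (z ⁻¹ᵁ T).ι) hc0
    have hc : c ≫ (z ⁻¹ᵁ (V ⊔ S)).ι = ((z ∣_ T) ⁻¹ᵁ O').ι ≫ (z ⁻¹ᵁ T).ι :=
      IsOpenImmersion.lift_fac _ _ _
    have hd0 : Set.range (Z.homOfLE (Scheme.Hom.preimage_mono z hle)) ⊆
        Set.range ((z ∣_ T) ⁻¹ᵁ O').ι := by
      rintro _ ⟨x, rfl⟩
      have h1 : T.ι ((z ∣_ T) (Z.homOfLE (Scheme.Hom.preimage_mono z hle) x)) ∈ V ⊔ S := by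
        rw [← Scheme.Hom.comp_apply, ← Scheme.Hom.comp_apply, morphismRestrict_ι,
          Scheme.homOfLE_ι_assoc, Scheme.Hom.comp_apply]
        exact x.2
      exact ⟨⟨_, h1⟩, rfl⟩
    let d : (z ⁻¹ᵁ (V ⊔ S)).toScheme ⟶ ((z ∣_ T) ⁻¹ᵁ O').toScheme :=
      IsOpenImmersion.lift ((z ∣_ T) ⁻¹ᵁ O').ι (Z.homOfLE (Scheme.Hom.preimage_mono z hle)) hd0
    have hd : d ≫ ((z ∣_ T) ⁻¹ᵁ O').ι = Z.homOfLE (Scheme.Hom.preimage_mono z hle) :=
      IsOpenImmersion.lift_fac _ _ _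
    have hdc : d ≫ c = 𝟙 _ := by
      rw [← cancel_mono (z ⁻¹ᵁ (V ⊔ S)).ι, Category.assoc, hc, reassoc_of% hd]
      simp
    have hcond : (c ≫ h) ≫ π ≫ b.inv = (z ∣_ T) ∣_ O' := by
      rw [← cancel_mono O'.ι, ← cancel_mono T.ι]
      simp only [Category.assoc]
      have h3 : b.inv ≫ O'.ι ≫ T.ι = (V ⊔ S).ι := Scheme.Opens.isoOfLE_inv_ι hle
      rw [h3, reassoc_of% hh, morphismRestrict_ι, reassoc_of% hc,
        reassoc_of% (morphismRestrict_ι (z ∣_ T) O'), morphismRestrict_ι]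
    have : IsAffine U' := hU'
    obtain ⟨Y₂, ρ, h3, h4, h', l, hh', hl, hgl⟩ := exists_extension_step hOU hO' hU' (hext _)
      (z ∣_ T) (π ≫ b.inv) (c ≫ h) hcond
    refine ⟨Y₂, ρ, h3, h4, h', k ≫ l, hh', ?_, ?_⟩
    · have hl2 : IsPullback l π ρ (X.homOfLE hle) :=
        hl.of_iso (Iso.refl _) (Iso.refl _) b (Iso.refl _) (by simp) (by simp) (by simp) (by
          rw [← cancel_mono T.ι]
          simp [b, O'])
      have h5 := hk.paste_horiz hl2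
      rwa [Scheme.homOfLE_homOfLE] at h5
    · have h5 : h ≫ l = Z.homOfLE (Scheme.Hom.preimage_mono z hle) ≫ h' := by
        have h6 := congr(d ≫ $hgl)
        rwa [Category.assoc, reassoc_of% hdc, reassoc_of% hd] at h6
      rw [reassoc_of% hgk, h5, Scheme.homOfLE_homOfLE_assoc]

/-- The extension property for affine schemes implies it for quasi-compact and quasi-separated
schemes. -/
theorem extAt_of_affine (hext : ∀ (A : Scheme.{u}) [IsAffine A], ExtAt A) (X : Scheme.{u})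
    [CompactSpace X] [QuasiSeparatedSpace X] : ExtAt X := by
  intro V hV Z W z _ p _ _ g hg
  obtain ⟨Y, π, h1, h2, h, k, hh, hk, hgk⟩ := exists_extension_sup hext V hV z p g hg ⊤ isCompact_univ
  have : IsIso (V ⊔ ⊤ : X.Opens).ι := by
    rw [isIso_iff_isOpenImmersion_and_surjective]
    refine ⟨inferInstance, ⟨fun x => ⟨⟨x, Or.inr trivial⟩, rfl⟩⟩⟩
  have : IsIso (z ⁻¹ᵁ (V ⊔ ⊤)).ι := by
    rw [isIso_iff_isOpenImmersion_and_surjective]
    refine ⟨inferInstance, ⟨fun x => ⟨⟨x, Or.inr trivial⟩, rfl⟩⟩⟩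
  refine ⟨Y, π ≫ (V ⊔ ⊤ : X.Opens).ι, inferInstance, inferInstance,
    inv (z ⁻¹ᵁ (V ⊔ ⊤)).ι ≫ h, k, ?_, ?_, ?_⟩
  · rw [Category.assoc, reassoc_of% hh, morphismRestrict_ι, IsIso.inv_hom_id_assoc]
  · refine hk.of_iso (Iso.refl _) (Iso.refl _) (Iso.refl _) (asIso (V ⊔ ⊤ : X.Opens).ι) (by simp)
      (by simp) (by simp) (by simp)
  · rw [hgk, ← Category.assoc (z ⁻¹ᵁ V).ι]
    congr 1
    rw [IsIso.eq_comp_inv, Scheme.homOfLE_ι]

end Groth.Agent.EtpbcB.IntLimC
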