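import Mathlib

/-!
# Local `l`-th power criterion (dimension two step of the local acyclicity of `A^1`)

`D` a Noetherian integrally closed local domain, `K = Frac D`, `f ∈ K` non zero, which is at every
prime `q` different from the maximal ideal an `l`-th power times a unit of `D_q`.
The set `M` of all `h ∈ K` such that `h ^ l * f` is locally integral (outside of the closed point)
is a finitely generated submodule of `K` (`fracMod`); if it is principal and `D` has depth at least
two then `f` is an `l`-th power times a unit of `D`.  If `D / pi` is a valuation ring, not a field,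
for some prime element `pi` then `M` is principal.
-/

universe u v

set_option linter.unusedSectionVars false

namespace Groth.Agent.EtpbcB.LocAcycDim2

open IsLocalRing

variable {D : Type u} {K : Type v} [CommRing D] [IsDomain D] [Field K] [Algebra D K]

/-- `x ∈ K` lies in the localization `D_q`. -/
def InLoc (q : Ideal D) (x : K) : Prop :=
  ∃ s d : D, s ∉ q ∧ algebraMap D K s * x = algebraMap D K d

theorem InLoc.algebraMap (q : Ideal D) [hq : q.IsPrime] (d : D) : InLoc q (algebraMap D K d) :=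
  ⟨1, d, (Ideal.ne_top_iff_one q).1 hq.ne_top, by simp⟩

theorem InLoc.mul {q : Ideal D} [hq : q.IsPrime] {x y : K} (hx : InLoc q x) (hy : InLoc q y) :
    InLoc q (x * y) := by
  obtain ⟨s, d, hs, h⟩ := hx
  obtain ⟨s', d', hs', h'⟩ := hy
  refine ⟨s * s', d * d', hq.mul_notMem hs hs', ?_⟩
  rw [map_mul, map_mul, ← h, ← h']; ring

theorem InLoc.add {q : Ideal D} [hq : q.IsPrime] {x y : K} (hx : InLoc q x) (hy : InLoc q y) :
    InLoc q (x + y) := by
  obtain ⟨s, d, hs, h⟩ := hx
  obtain ⟨s', d', hs', h'⟩ := hy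
  refine ⟨s * s', d * s' + s * d', hq.mul_notMem hs hs', ?_⟩
  rw [map_add, map_mul, map_mul, map_mul, ← h, ← h']; ring

theorem InLoc.pow {q : Ideal D} [hq : q.IsPrime] {x : K} (hx : InLoc q x) (n : ℕ) :
    InLoc q (x ^ n) := by
  obtain ⟨s, d, hs, h⟩ := hx
  refine ⟨s ^ n, d ^ n, fun hmem => hs (hq.mem_of_pow_mem n hmem), ?_⟩
  rw [map_pow, map_pow, ← h]; ring

section Closed

variable [IsFractionRing D K]

theorem inLoc_inv {q : Ideal D} {u : D} (hu : u ∉ q) :
    InLoc q ((algebraMap D K u)⁻¹) := by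
  refine ⟨u, 1, hu, ?_⟩
  have : algebraMap D K u ≠ 0 := by
    intro h0
    rw [IsFractionRing.to_map_eq_zero_iff] at h0
    exact hu (h0 ▸ q.zero_mem)
  rw [map_one, mul_inv_cancel₀ this]

/-- `D` integrally closed: `(s x) ^ n ∈ D` implies `s x ∈ D`. -/
theorem inLoc_of_pow [IsIntegrallyClosed D] {q : Ideal D} {n : ℕ} (hn : 0 < n) {x : K}
    (hx : InLoc q (x ^ n)) : InLoc q x := by
  obtain ⟨s, d, hs, h⟩ := hx
  have hint : IsIntegral D ((algebraMap D K s * x) ^ n) := by
    obtain ⟨m, rfl⟩ : ∃ m, n = m + 1 := ⟨n - 1, by omega⟩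
    have : (algebraMap D K s * x) ^ (m + 1) = algebraMap D K (s ^ m * d) := by
      rw [map_mul, ← h, map_pow, mul_pow, pow_succ]; ring
    rw [this]
    exact isIntegral_algebraMap
  obtain ⟨y, hy⟩ := IsIntegrallyClosed.exists_algebraMap_eq_of_isIntegral_pow hn hint
  exact ⟨s, y, hs, hy.symm⟩

/-- The standing hypothesis: `f` is an `l`-th power times a unit of `D_q`. -/
def GoodAt (l : ℕ) (f : K) (q : Ideal D) : Prop :=
  ∃ (g : K) (u v : D), u ∉ q ∧ v ∉ q ∧ f * algebraMap D K v = g ^ l * algebraMap D K u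

end Closed

section Main

variable (l : ℕ) (f : K) (P : Ideal D → Prop)

/-- The module of all `h ∈ K` with `h ^ l * f` in `D_q` for all primes `q` with `P q`. It is a
submodule if `D` is integrally closed and `f` is good at `q` (for all `q` with `P q`). -/
def memFrac (h : K) : Prop := ∀ q : Ideal D, q.IsPrime → P q → InLoc q (h ^ l * f)

variable {l f P}

theorem algebraMap_ne_zero_of_notMem [IsFractionRing D K] {q : Ideal D} {u : D} (hu : u ∉ q) :
    algebraMap D K u ≠ 0 := by
  intro h0
  rw [IsFractionRing.to_map_eq_zero_iff] at h0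
  exact hu (h0 ▸ q.zero_mem)

/-- For a good `q`, `h ^ l * f ∈ D_q` iff `h * g ∈ D_q`. -/
theorem inLoc_iff [IsFractionRing D K] [IsIntegrallyClosed D] (hl : 0 < l) {q : Ideal D}
    [q.IsPrime] {g : K} {u v : D} (hu : u ∉ q) (hv : v ∉ q)
    (h : f * algebraMap D K v = g ^ l * algebraMap D K u) (x : K) :
    InLoc q (x ^ l * f) ↔ InLoc q (x * g) := by
  have hu0 : algebraMap D K u ≠ 0 := algebraMap_ne_zero_of_notMem hu
  have hv0 : algebraMap D K v ≠ 0 := algebraMap_ne_zero_of_notMem hv
  constructor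
  · intro hx
    apply inLoc_of_pow hl
    have : (x * g) ^ l = x ^ l * f * (algebraMap D K v * (algebraMap D K u)⁻¹) := by
      have : g ^ l = f * algebraMap D K v * (algebraMap D K u)⁻¹ := by
        rw [h, mul_assoc, mul_inv_cancel₀ hu0, mul_one]
      rw [mul_pow, this]; ring
    rw [this]
    exact hx.mul ((InLoc.algebraMap q v).mul (inLoc_inv hu))
  · intro hx
    have : x ^ l * f = (x * g) ^ l * (algebraMap D K u * (algebraMap D K v)⁻¹) := by
      have : f = g ^ l * algebraMap D K u * (algebraMap D K v)⁻¹ := by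
        rw [← h, mul_assoc, mul_inv_cancel₀ hv0, mul_one]
      rw [this, mul_pow]; ring
    rw [this]
    exact (hx.pow l).mul ((InLoc.algebraMap q u).mul (inLoc_inv hv))

/-- The submodule of `K` of all `h` with `h ^ l * f` locally integral at all `q` with `P q`. -/
def fracMod [IsFractionRing D K] [IsIntegrallyClosed D] (hl : 0 < l)
    (hgood : ∀ q : Ideal D, q.IsPrime → P q → GoodAt l f q) : Submodule D K where
  carrier := {h | memFrac l f P h}
  zero_mem' := by
    intro q hq hP
    rw [zero_pow hl.ne', zero_mul]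
    simpa using InLoc.algebraMap (K := K) q 0
  add_mem' := by
    intro a b ha hb q hq hP
    obtain ⟨g, u, v, hu, hv, h⟩ := hgood q hq hP
    rw [inLoc_iff hl hu hv h, add_mul]
    exact ((inLoc_iff hl hu hv h a).1 (ha q hq hP)).add ((inLoc_iff hl hu hv h b).1 (hb q hq hP))
  smul_mem' := by
    intro c a ha q hq hP
    rw [Algebra.smul_def, mul_pow, mul_assoc]
    exact ((InLoc.algebraMap q c).pow l).mul (ha q hq hP)

variable [IsFractionRing D K] [IsIntegrallyClosed D] (hl : 0 < l)
    (hgood : ∀ q : Ideal D, q.IsPrime → P q → GoodAt l f q)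

theorem mem_fracMod {h : K} : h ∈ fracMod hl hgood ↔
    ∀ q : Ideal D, q.IsPrime → P q → InLoc q (h ^ l * f) := Iff.rfl

/-- `M` generates `D_q g⁻¹`: `v g⁻¹ ∈ M`. -/
theorem mem_fracMod_of_good (hf : f ≠ 0) {g : K} {u v : D}
    (h : f * algebraMap D K v = g ^ l * algebraMap D K u) (hu0 : u ≠ 0) (hv0 : v ≠ 0) :
    algebraMap D K v * g⁻¹ ∈ fracMod hl hgood := by
  intro q hq hP
  have hu1 : algebraMap D K u ≠ 0 := by simpa using hu0
  have hv1 : algebraMap D K v ≠ 0 := by simpa using hv0
  have hg : g ≠ 0 := by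
    rintro rfl
    rw [zero_pow hl.ne', zero_mul] at h
    exact (mul_ne_zero hf hv1) h
  have : (algebraMap D K v * g⁻¹) ^ l * f = algebraMap D K (v ^ (l - 1) * u) := by
    obtain ⟨m, rfl⟩ : ∃ m, l = m + 1 := ⟨l - 1, by omega⟩
    have hgl : g ^ (m + 1) ≠ 0 := pow_ne_zero _ hg
    have hfe : f = g ^ (m + 1) * algebraMap D K u * (algebraMap D K v)⁻¹ := by
      rw [← h, mul_assoc, mul_inv_cancel₀ hv1, mul_one]
    rw [map_mul, map_pow, Nat.add_sub_cancel, hfe, mul_pow, inv_pow]
    field_simp
    ring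
  rw [this]
  exact InLoc.algebraMap q _

/-- Depth: an element of `K` which is in all `D_q` with `P q` is in `D`. -/
def Hartogs (D : Type u) (K : Type v) [CommRing D] [Field K] [Algebra D K]
    (P : Ideal D → Prop) : Prop :=
  ∀ x : K, (∀ q : Ideal D, q.IsPrime → P q → InLoc q x) → ∃ d : D, algebraMap D K d = x

/-- The module `M` is finitely generated. -/
theorem fracMod_fg [IsNoetherianRing D] (hH : Hartogs D K P) (hf : f ≠ 0) :
    (fracMod hl hgood).FG := by
  obtain ⟨a, b, hb, hab⟩ := IsFractionRing.div_surjective (A := D) f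
  have hb0 : b ≠ 0 := nonZeroDivisors.ne_zero hb
  have ha0 : a ≠ 0 := by
    rintro rfl
    exact hf (by rw [← hab]; simp)
  have ha1 : algebraMap D K a ≠ 0 := by simpa using ha0
  have hb1 : algebraMap D K b ≠ 0 := by simpa using hb0
  -- multiplication by `a` maps `M` to `D`
  have hmem : ∀ h ∈ fracMod hl hgood, ∃ d : D, algebraMap D K d = algebraMap D K a * h := by
    intro h hh
    obtain ⟨d, hd⟩ := hH _ hh
    have hint : IsIntegral D ((algebraMap D K a * h) ^ l) := by
      have : (algebraMap D K a * h) ^ l = algebraMap D K (a ^ (l - 1) * (b * d)) := by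
        obtain ⟨m, rfl⟩ : ∃ m, l = m + 1 := ⟨l - 1, by omega⟩
        rw [map_mul, map_mul, map_pow, Nat.add_sub_cancel, hd, ← hab, mul_pow, pow_succ (_ : K) m]
        field_simp
      rw [this]
      exact isIntegral_algebraMap
    obtain ⟨y, hy⟩ := IsIntegrallyClosed.exists_algebraMap_eq_of_isIntegral_pow hl hint
    exact ⟨y, hy⟩
  let φ : K →ₗ[D] K := LinearMap.mulLeft D (algebraMap D K a)
  have hφ : Function.Injective φ := fun x y hxy => mul_left_cancel₀ ha1 hxy
  let N : Submodule D K := LinearMap.range (Algebra.linearMap D K)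
  have hN : IsNoetherian D N := isNoetherian_of_surjective
    (Algebra.linearMap D K).rangeRestrict (LinearMap.range_rangeRestrict _)
  have hle : (fracMod hl hgood).map φ ≤ N := by
    rintro _ ⟨h, hh, rfl⟩
    obtain ⟨d, hd⟩ := hmem h hh
    exact ⟨d, hd⟩
  have hfg : ((fracMod hl hgood).map φ).FG := by
    have h1 : ((fracMod hl hgood).map φ).comap N.subtype |>.FG := IsNoetherian.noetherian _
    have h2 := h1.map N.subtype
    rwa [Submodule.map_comap_subtype, inf_eq_right.2 hle] at h2
  exact Submodule.fg_of_fg_map_injective φ hφ hfg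

/-- If `M` is principal, then `f` is an `l`-th power times a unit. -/
theorem of_principal (hH : Hartogs D K P) (hf : f ≠ 0)
    (hP : ∃ q : Ideal D, q.IsPrime ∧ P q) {h : K}
    (hM : fracMod hl hgood = Submodule.span D {h}) :
    ∃ (g : K) (w : Dˣ), f = g ^ l * algebraMap D K (w : D) := by
  have key : ∀ q : Ideal D, q.IsPrime → P q → h ≠ 0 ∧ InLoc q ((h ^ l * f)⁻¹) := by
    intro q hq hPq
    obtain ⟨g, u, v, hu, hv, e⟩ := hgood q hq hPq
    have hu0 : u ≠ 0 := fun h0 => hu (h0 ▸ q.zero_mem)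
    have hv0 : v ≠ 0 := fun h0 => hv (h0 ▸ q.zero_mem)
    have hu1 : algebraMap D K u ≠ 0 := by simpa using hu0
    have hv1 : algebraMap D K v ≠ 0 := by simpa using hv0
    have hg : g ≠ 0 := by
      rintro rfl
      rw [zero_pow hl.ne', zero_mul] at e
      exact (mul_ne_zero hf hv1) e
    have hm := mem_fracMod_of_good hl hgood hf e hu0 hv0
    rw [hM, Submodule.mem_span_singleton] at hm
    obtain ⟨d, hd⟩ := hm
    rw [Algebra.smul_def] at hd
    have hh0 : h ≠ 0 := by
      rintro rfl
      rw [mul_zero] at hd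
      exact (mul_ne_zero hv1 (inv_ne_zero hg)) hd.symm
    refine ⟨hh0, ?_⟩
    have e1 : algebraMap D K d * (h * g) = algebraMap D K v := by
      rw [← mul_assoc, hd, mul_assoc, inv_mul_cancel₀ hg, mul_one]
    have hin : InLoc q ((h * g)⁻¹) := by
      refine ⟨v, d, hv, ?_⟩
      have hhg : h * g ≠ 0 := mul_ne_zero hh0 hg
      rw [← e1, mul_assoc, mul_inv_cancel₀ hhg, mul_one]
    have : (h ^ l * f)⁻¹ = ((h * g)⁻¹) ^ l * (algebraMap D K v * (algebraMap D K u)⁻¹) := by
      have hfe : f = g ^ l * algebraMap D K u * (algebraMap D K v)⁻¹ := by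
        rw [← e, mul_assoc, mul_inv_cancel₀ hv1, mul_one]
      rw [hfe, inv_pow, mul_pow]
      field_simp
    rw [this]
    exact (hin.pow l).mul ((InLoc.algebraMap q v).mul (inLoc_inv hu))
  obtain ⟨q₀, hq₀, hPq₀⟩ := hP
  have hh0 : h ≠ 0 := (key q₀ hq₀ hPq₀).1
  have hhm : h ∈ fracMod hl hgood := by rw [hM]; exact Submodule.mem_span_singleton_self h
  obtain ⟨d, hd⟩ := hH _ hhm
  obtain ⟨d', hd'⟩ := hH ((h ^ l * f)⁻¹) fun q hq hPq => (key q hq hPq).2
  have hne : h ^ l * f ≠ 0 := mul_ne_zero (pow_ne_zero _ hh0) hf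
  have hdd : d * d' = 1 := by
    apply IsFractionRing.injective D K
    rw [map_mul, hd, hd', map_one, mul_inv_cancel₀ hne]
  refine ⟨h⁻¹, ⟨d, d', hdd, by rw [mul_comm, hdd]⟩, ?_⟩
  change f = h⁻¹ ^ l * algebraMap D K d
  rw [hd, inv_pow, ← mul_assoc, inv_mul_cancel₀ (pow_ne_zero _ hh0), one_mul]

end Main

section Local

variable [IsFractionRing D K] [IsNoetherianRing D] [IsLocalRing D]

/-- Hartogs for the punctured spectrum of a Noetherian local domain with a regular sequence of
length two. -/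
theorem hartogs_of_regular {x y : D} (hx0 : x ≠ 0) (hx : x ∈ maximalIdeal D)
    (hy : y ∈ maximalIdeal D) (hxy : ∀ a : D, x ∣ y * a → x ∣ a) :
    Hartogs D K (fun q => q ≠ maximalIdeal D) := by
  intro z hz
  -- the ideal of denominators
  let J : Ideal D :=
    { carrier := {d | ∃ e : D, algebraMap D K e = algebraMap D K d * z}
      zero_mem' := ⟨0, by simp⟩
      add_mem' := by
        rintro a b ⟨e, he⟩ ⟨e', he'⟩
        exact ⟨e + e', by rw [map_add, map_add, he, he', add_mul]⟩
      smul_mem' := by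
        rintro c a ⟨e, he⟩
        exact ⟨c * e, by rw [smul_eq_mul, map_mul, map_mul, he, mul_assoc]⟩ }
  have hJ : ∀ d : D, d ∈ J ↔ ∃ e : D, algebraMap D K e = algebraMap D K d * z := fun d => Iff.rfl
  have hrad : maximalIdeal D ≤ J.radical := by
    rw [Ideal.radical_eq_sInf]
    refine le_sInf ?_
    rintro q ⟨hJq, hq⟩
    by_contra hle
    have hne : q ≠ maximalIdeal D := by
      rintro rfl
      exact hle le_rfl
    obtain ⟨s, d, hs, h⟩ := hz q hq hne
    exact hs (hJq ⟨d, h.symm⟩)
  obtain ⟨n, hn⟩ := hrad hx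
  obtain ⟨k, hk⟩ := hrad hy
  -- descent on `n`
  have hyk : ∀ (k : ℕ) (a : D), x ∣ y ^ k * a → x ∣ a := by
    intro k
    induction k with
    | zero => intro a h; simpa using h
    | succ k ih =>
      intro a h
      apply ih
      apply hxy
      rw [pow_succ] at h
      convert h using 1
      ring
  have main : ∀ n : ℕ, x ^ n ∈ J → (1 : D) ∈ J := by
    intro n
    induction n with
    | zero => intro h; simpa using h
    | succ n ih =>
      intro h
      apply ih
      obtain ⟨e, he⟩ := (hJ _).1 h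
      obtain ⟨e', he'⟩ := (hJ _).1 hk
      have hx1 : algebraMap D K x ≠ 0 := by simpa using hx0
      have : x ∣ e := by
        apply hyk k
        refine ⟨x ^ n * e', ?_⟩
        apply IsFractionRing.injective D K
        rw [map_mul, he, map_mul, map_mul, he', map_pow, map_pow]
        simp only [map_pow]
        ring
      obtain ⟨e'', rfl⟩ := this
      refine (hJ _).2 ⟨e'', ?_⟩
      apply mul_left_cancel₀ hx1
      rw [← map_mul, he]
      simp only [map_pow]
      ring
  obtain ⟨e, he⟩ := (hJ _).1 (main n hn)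
  exact ⟨e, by simpa using he⟩

variable [IsIntegrallyClosed D]

/-- **Dimension two step.** -/
theorem exists_eq_pow_mul_unit_of_valuationRing {l : ℕ} (hl : 0 < l) {f : K} (hf : f ≠ 0)
    {x : D} (hx : Prime x) [hval : IsDomain (D ⧸ Ideal.span {x})]
    [ValuationRing (D ⧸ Ideal.span {x})]
    (hnf : Ideal.span {x} ≠ maximalIdeal D)
    (hgood : ∀ q : Ideal D, q.IsPrime → q ≠ maximalIdeal D →
      ∃ (g : K) (u v : D), u ∉ q ∧ v ∉ q ∧
        f * algebraMap D K v = g ^ l * algebraMap D K u) :
    ∃ (g : K) (w : Dˣ), f = g ^ l * algebraMap D K (w : D) := by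
  have hgood' : ∀ q : Ideal D, q.IsPrime → q ≠ maximalIdeal D → GoodAt l f q := hgood
  have hqprime : (Ideal.span {x}).IsPrime := (Ideal.span_singleton_prime hx.ne_zero).2 hx
  have hxm : x ∈ maximalIdeal D := by
    rw [mem_maximalIdeal]; exact hx.not_isUnit
  -- a second parameter
  obtain ⟨y, hy, hyx⟩ : ∃ y ∈ maximalIdeal D, y ∉ Ideal.span {x} := by
    by_contra hcon
    push Not at hcon
    apply hnf
    apply le_antisymm
    · rw [Ideal.span_singleton_le_iff_mem]; exact hxm
    · exact hcon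
  have hH : Hartogs D K (fun q => q ≠ maximalIdeal D) := by
    refine hartogs_of_regular hx.ne_zero hxm hy ?_
    intro a ha
    rcases hx.dvd_or_dvd ha with h | h
    · exact absurd (Ideal.mem_span_singleton.2 h) hyx
    · exact h
  -- the module
  set M := fracMod hl hgood' with hMdef
  have hfg : M.FG := fracMod_fg hl hgood' hH hf
  obtain ⟨g, u, v, hu, hv, e⟩ := hgood _ hqprime hnf
  have hu0 : u ≠ 0 := fun h0 => hu (h0 ▸ Ideal.zero_mem _)
  have hv0 : v ≠ 0 := fun h0 => hv (h0 ▸ Ideal.zero_mem _)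
  have hu1 : algebraMap D K u ≠ 0 := by simpa using hu0
  have hv1 : algebraMap D K v ≠ 0 := by simpa using hv0
  have hg : g ≠ 0 := by
    rintro rfl
    rw [zero_pow hl.ne', zero_mul] at e
    exact (mul_ne_zero hf hv1) e
  have hx1 : algebraMap D K x ≠ 0 := by simpa using hx.ne_zero
  -- `M → Frac (D / x)` is injective modulo `x`
  have hker : ∀ h ∈ M, (∃ s d : D, s ∉ Ideal.span {x} ∧ x ∣ d ∧
      algebraMap D K s * (h * g) = algebraMap D K d) → ∃ h' ∈ M, h = algebraMap D K x * h' := by
    rintro h hh ⟨s, d, hs, ⟨d', rfl⟩, hd⟩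
    refine ⟨(algebraMap D K x)⁻¹ * h, ?_, by rw [← mul_assoc, mul_inv_cancel₀ hx1, one_mul]⟩
    intro q hq hqm
    by_cases hxq : x ∈ q
    · by_cases hqx : q = Ideal.span {x}
      · subst hqx
        rw [inLoc_iff hl hu hv e]
        refine ⟨s, d', hs, ?_⟩
        apply mul_left_cancel₀ hx1
        rw [← map_mul _ x d', ← hd]
        field_simp
      · -- `q` contains `x` strictly: impossible unless `q = m` ... use valuation ring? not needed
        -- we use the local equation at `q`
        obtain ⟨g', u', v', hu', hv', e'⟩ := hgood q hq hqm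
        rw [inLoc_iff hl hu' hv' e']
        -- reduce to divisibility by `x` in `D_q`
        obtain ⟨t, c, ht, hc⟩ := (inLoc_iff hl hu' hv' e' h).1 (hh q hq hqm)
        -- `g' / g` is a unit at `span {x}`
        have hu1' : algebraMap D K u' ≠ 0 := algebraMap_ne_zero_of_notMem hu'
        have hv1' : algebraMap D K v' ≠ 0 := algebraMap_ne_zero_of_notMem hv'
        have hxq' : Ideal.span {x} ≤ q := by
          rw [Ideal.span_singleton_le_iff_mem]; exact hxq
        have hin : InLoc (Ideal.span {x}) (g' * g⁻¹) := by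
          apply inLoc_of_pow hl
          have : (g' * g⁻¹) ^ l = (algebraMap D K v' * algebraMap D K u) *
              ((algebraMap D K u')⁻¹ * (algebraMap D K v)⁻¹) := by
            rw [mul_pow, inv_pow]
            have h1 : g' ^ l = f * algebraMap D K v' * (algebraMap D K u')⁻¹ := by
              rw [e', mul_assoc, mul_inv_cancel₀ hu1', mul_one]
            have h2 : g ^ l = f * algebraMap D K v * (algebraMap D K u)⁻¹ := by
              rw [e, mul_assoc, mul_inv_cancel₀ hu1, mul_one]
            rw [h1, h2]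
            field_simp
          rw [this]
          refine InLoc.mul (InLoc.mul (InLoc.algebraMap _ _) (InLoc.algebraMap _ _))
            (InLoc.mul (inLoc_inv fun hmem => hu' (hxq' hmem)) (inLoc_inv hv))
        obtain ⟨s', d'', hs', hd''⟩ := hin
        have hxc : x ∣ c := by
          have h3 : x ∣ s * s' * c := by
            refine ⟨t * d' * d'', ?_⟩
            apply IsFractionRing.injective D K
            have h4 : algebraMap D K (s * s' * c) =
                algebraMap D K s * (h * g) * (algebraMap D K s' * (g' * g⁻¹)) *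
                  algebraMap D K t := by
              rw [map_mul, ← hc, map_mul]
              field_simp
            rw [h4, hd, hd'']
            simp only [map_mul]
            ring
          rcases hx.dvd_or_dvd h3 with h5 | h5
          · rcases hx.dvd_or_dvd h5 with h6 | h6
            · exact absurd (Ideal.mem_span_singleton.2 h6) hs
            · exact absurd (Ideal.mem_span_singleton.2 h6) hs'
          · exact h5
        obtain ⟨c', rfl⟩ := hxc
        refine ⟨t, c', ht, ?_⟩
        apply mul_left_cancel₀ hx1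
        rw [← map_mul _ x c', ← hc]
        field_simp
    · rw [mul_pow, mul_assoc]
      refine InLoc.mul (InLoc.pow (inLoc_inv hxq) l) (hh q hq hqm)
  -- numerators and denominators of `h * g` at `span {x}`
  have hnum : ∀ h ∈ M, ∃ s d : D, s ∉ Ideal.span {x} ∧
      algebraMap D K s * (h * g) = algebraMap D K d := fun h hh =>
    (inLoc_iff hl hu hv e h).1 (hh _ hqprime hnf)
  -- total divisibility modulo `x M`
  have htot : ∀ h₁ ∈ M, ∀ h₂ ∈ M,
      (∃ c : D, ∃ h' ∈ M, h₁ = algebraMap D K c * h₂ + algebraMap D K x * h') ∨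
      (∃ c : D, ∃ h' ∈ M, h₂ = algebraMap D K c * h₁ + algebraMap D K x * h') := by
    have aux : ∀ h₁ ∈ M, ∀ h₂ ∈ M, ∀ s₁ d₁ s₂ d₂ : D, s₁ ∉ Ideal.span {x} →
        s₂ ∉ Ideal.span {x} → algebraMap D K s₁ * (h₁ * g) = algebraMap D K d₁ →
        algebraMap D K s₂ * (h₂ * g) = algebraMap D K d₂ →
        Ideal.Quotient.mk (Ideal.span {x}) (d₁ * s₂) ∣ Ideal.Quotient.mk (Ideal.span {x}) (d₂ * s₁) →
        (∃ c : D, ∃ h' ∈ M, h₂ = algebraMap D K c * h₁ + algebraMap D K x * h') := by
      rintro h₁ hh₁ h₂ hh₂ s₁ d₁ s₂ d₂ hs₁ hs₂ e₁ e₂ ⟨c, hc⟩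
      obtain ⟨c, rfl⟩ := Ideal.Quotient.mk_surjective c
      rw [← map_mul, Ideal.Quotient.eq, Ideal.mem_span_singleton] at hc
      have hmem : h₂ - algebraMap D K c * h₁ ∈ M := by
        rw [← Algebra.smul_def]
        exact M.sub_mem hh₂ (M.smul_mem c hh₁)
      obtain ⟨h', hh', e'⟩ := hker _ hmem ⟨s₁ * s₂, d₂ * s₁ - d₁ * s₂ * c,
        hqprime.mul_notMem hs₁ hs₂, hc, by
          rw [map_sub, map_mul, map_mul, map_mul, map_mul, ← e₁, ← e₂]; ring⟩
      exact ⟨c, h', hh', by rw [← e']; ring⟩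
    intro h₁ hh₁ h₂ hh₂
    obtain ⟨s₁, d₁, hs₁, e₁⟩ := hnum h₁ hh₁
    obtain ⟨s₂, d₂, hs₂, e₂⟩ := hnum h₂ hh₂
    rcases ValuationRing.dvd_total (Ideal.Quotient.mk (Ideal.span {x}) (d₁ * s₂))
      (Ideal.Quotient.mk (Ideal.span {x}) (d₂ * s₁)) with hdvd | hdvd
    · exact Or.inr (aux h₁ hh₁ h₂ hh₂ s₁ d₁ s₂ d₂ hs₁ hs₂ e₁ e₂ hdvd)
    · exact Or.inl (aux h₂ hh₂ h₁ hh₁ s₂ d₂ s₁ d₁ hs₂ hs₁ e₂ e₁ hdvd)
  -- every finite subset has a generator modulo `x M`
  have hgen : ∀ S : Finset K, (∀ h ∈ S, h ∈ M) → ∃ h₀ ∈ M, ∀ h ∈ S,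
      ∃ c : D, ∃ h' ∈ M, h = algebraMap D K c * h₀ + algebraMap D K x * h' := by
    classical
    intro S
    induction S using Finset.induction_on with
    | empty => intro _; exact ⟨0, M.zero_mem, by simp⟩
    | insert a S ha ih =>
      intro hS
      obtain ⟨h₀, hh₀, hall⟩ := ih fun h hh => hS h (Finset.mem_insert_of_mem hh)
      have haM : a ∈ M := hS a (Finset.mem_insert_self a S)
      rcases htot h₀ hh₀ a haM with ⟨c, h', hh', e'⟩ | ⟨c, h', hh', e'⟩
      · refine ⟨a, haM, ?_⟩
        intro h hh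
        rcases Finset.mem_insert.1 hh with rfl | hh
        · exact ⟨1, 0, M.zero_mem, by simp⟩
        · obtain ⟨c', h'', hh'', e''⟩ := hall h hh
          refine ⟨c' * c, c' • h' + h'', M.add_mem (M.smul_mem _ hh') hh'', ?_⟩
          rw [e'', e', Algebra.smul_def, map_mul]; ring
      · refine ⟨h₀, hh₀, ?_⟩
        intro h hh
        rcases Finset.mem_insert.1 hh with rfl | hh
        · exact ⟨c, h', hh', e'⟩
        · exact hall h hh
  obtain ⟨S, hS⟩ := id hfg
  have hSM : ∀ h ∈ S, h ∈ M := fun h hh => hS ▸ Submodule.subset_span hh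
  obtain ⟨h₀, hh₀, hall⟩ := hgen S hSM
  have hle : M ≤ Submodule.span D {h₀} := by
    refine Submodule.le_of_le_smul_of_le_jacobson_bot (I := maximalIdeal D) hfg
      (IsLocalRing.maximalIdeal_le_jacobson _) ?_
    rw [← hS, Submodule.span_le]
    intro h hh
    obtain ⟨c, h', hh', e'⟩ := hall h hh
    rw [hS]
    refine Submodule.mem_sup.2 ⟨algebraMap D K c * h₀, ?_, algebraMap D K x * h', ?_, e'.symm⟩
    · rw [← Algebra.smul_def]
      exact Submodule.smul_mem _ _ (Submodule.mem_span_singleton_self h₀)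
    · rw [← Algebra.smul_def]
      exact Submodule.smul_mem_smul hxm hh'
  have hM : M = Submodule.span D {h₀} :=
    le_antisymm hle (by rw [Submodule.span_singleton_le_iff_mem]; exact hh₀)
  exact of_principal hl hgood' hH hf ⟨_, hqprime, hnf⟩ hM

end Local

end Groth.Agent.EtpbcB.LocAcycDim2
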