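import Groth.Agent.EtpbcB.ClosedImmPush
import Groth.Prelude.Def_EtShriek2

/-!
# Abelian etale sheaves and an open immersion `j : U ⟶ X`

* `compBcAdj`: composition with an etale `j` is left adjoint to base change (on small etale sites).
* `isIso_counit_app`: the counit is an isomorphism on etale schemes lying over the open subscheme.
* `toPushRestr`: the natural map `F ⟶ j_* (F|_U)`.
* `mono_unit_app_app`: `F ⟶ j_* j⁻¹ F` is injective on sections over etale schemes over `U`.
* `hom_push_eq_zero`: maps `F ⟶ j_* G` vanish when `F` vanishes over `U`.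
-/

set_option autoImplicit false
universe u
open CategoryTheory CategoryTheory.Limits AlgebraicGeometry Opposite

namespace Groth.Agent.EtpbcB.OpenImmPush

open EtpbcB.ClosedImmEtale EtpbcB.ClosedImmPush EtShriek EtCoh

variable {U X : Scheme.{u}} (j : U ⟶ X)

set_option backward.isDefEq.respectTransparency.types false in
/-- The adjunction between composition with an etale `j` and base change along `j`. -/
noncomputable def compBcAdj [hj : Etale j] : compEtale j ⊣ bc j :=
  MorphismProperty.Over.mapPullbackAdj etaleMP ⊤ j hj trivial

set_option backward.isDefEq.respectTransparency.types false in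
theorem compBcAdj_counit_app_left [hj : Etale j] (V : X.Etale) :
    ((compBcAdj j).counit.app V).left = pullback.fst V.hom j := rfl

/-- If `p : V ⟶ X` factors through the open immersion `j`, the first projection `V ×_X U ⟶ V` is an
isomorphism. -/
theorem isIso_pullback_fst {V : Scheme.{u}} (p : V ⟶ X) [IsOpenImmersion j]
    (hV : Set.range p.base ⊆ Set.range j.base) : IsIso (pullback.fst p j) := by
  obtain ⟨l, hl⟩ : ∃ l : V ⟶ U, l ≫ j = p := ⟨_, IsOpenImmersion.lift_fac j p hV⟩
  have w : 𝟙 V ≫ p = l ≫ j := by rw [hl, Category.id_comp]
  refine ⟨pullback.lift (𝟙 V) l w, ?_, ?_⟩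
  · apply pullback.hom_ext
    · rw [Category.assoc, pullback.lift_fst, Category.comp_id, Category.id_comp]
    · rw [Category.assoc, pullback.lift_snd, Category.id_comp, ← cancel_mono j, Category.assoc, hl,
        pullback.condition]
  · rw [pullback.lift_fst]

set_option backward.isDefEq.respectTransparency.types false in
/-- For `j` an open immersion and `V` etale over `X` with image in that of `j`, the projection
`V ×_X U → V` is an isomorphism. -/
theorem isIso_counit_app [IsOpenImmersion j] (V : X.Etale)
    (hV : Set.range V.hom.base ⊆ Set.range j.base) : IsIso ((compBcAdj j).counit.app V) := by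
  have : IsIso ((compBcAdj j).counit.app V).left := isIso_pullback_fst j V.hom hV
  exact isIso_of_isIso_left _

/-- The natural map `F ⟶ j_* (F|_U)`. -/
noncomputable def toPushRestr [Etale j] [JCont j] (F : Ab X) : F ⟶ (push j).obj ((restrAlong j).obj F) :=
  ⟨Functor.whiskerRight (NatTrans.op (compBcAdj j).counit) F.obj⟩

theorem toPushRestr_app [Etale j] [JCont j] (F : Ab X) (V : X.Etale) :
    (toPushRestr j F).hom.app (op V) = F.obj.map ((compBcAdj j).counit.app V).op := rfl

instance isIso_compBcAdj_unit [IsOpenImmersion j] : IsIso (compBcAdj j).unit := inferInstance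

/-- The unit `F ⟶ j_* j⁻¹ F` is injective on sections over etale schemes lying over the open subscheme. -/
theorem mono_unit_app_app [IsOpenImmersion j] [BCCont j] (F : Ab X) (V : X.Etale)
    (hV : Set.range V.hom.base ⊆ Set.range j.base) :
    Mono (((pullPushAdj j).unit.app F).hom.app (op V)) := by
  have e : toPushRestr j F = (pullPushAdj j).unit.app F ≫
      (push j).map (((pullPushAdj j).homEquiv F _).symm (toPushRestr j F)) := by
    have := (pullPushAdj j).homEquiv_unit F ((restrAlong j).obj F)
      (((pullPushAdj j).homEquiv F _).symm (toPushRestr j F))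
    rwa [Equiv.apply_symm_apply] at this
  have e2 := congrArg (fun m : F ⟶ (push j).obj ((restrAlong j).obj F) => m.hom.app (op V)) e
  have h1 := isIso_counit_app j V hV
  have : Mono ((toPushRestr j F).hom.app (op V)) := by
    have : IsIso (F.obj.map ((compBcAdj j).counit.app V).op) := inferInstance
    exact (inferInstance : Mono (F.obj.map ((compBcAdj j).counit.app V).op))
  exact mono_of_mono_fac e2.symm

/-- Every map from a sheaf vanishing over `U` to a sheaf `j_* G` is zero, `j : U → X` an open immersion. -/
theorem hom_push_eq_zero [IsOpenImmersion j] [BCCont j] (F : Ab X)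
    (hF : ∀ V : X.Etale, Set.range V.hom.base ⊆ Set.range j.base → IsZero (F.obj.obj (op V)))
    (G : Ab U) (φ : F ⟶ (push j).obj G) : φ = 0 := by
  ext V : 3
  obtain ⟨V⟩ := V
  have h1 : IsIso ((bc j).map ((compBcAdj j).counit.app V)) := by
    infer_instance
  have h2 : IsIso (((push j).obj G).obj.map ((compBcAdj j).counit.app V).op) := by
    have : IsIso (G.obj.map ((bc j).map ((compBcAdj j).counit.app V)).op) := inferInstance
    exact this
  have h3 := φ.hom.naturality ((compBcAdj j).counit.app V).op
  have h4 : F.obj.map ((compBcAdj j).counit.app V).op = 0 := by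
    refine (hF _ ?_).eq_of_tgt _ _
    rintro _ ⟨x, rfl⟩
    exact ⟨((bc j).obj V).hom.base x, rfl⟩
  rw [h4, zero_comp] at h3
  have h5 : φ.hom.app (op V) = 0 := by
    rw [← cancel_mono (((push j).obj G).obj.map ((compBcAdj j).counit.app V).op)]
    exact h3.symm.trans zero_comp.symm
  exact h5

end Groth.Agent.EtpbcB.OpenImmPush
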