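import Groth.Agent.S0171
import Groth.Agent.EtpbcB.NKillH
import Groth.Prelude.Def_EtCore

/-!
# Sheaves supported at closed points without global sections vanish

`X` of finite type over a separably closed field, `F` an abelian étale sheaf whose support consists of
closed points: if `F` has no nonzero global section, then `F = 0`.
-/

set_option autoImplicit false
universe u
open CategoryTheory CategoryTheory.Limits AlgebraicGeometry Opposite

namespace Groth.Agent.EtpbcB.SuppZero

open Groth.Agent.CurvesA.SkyPoint Groth.Agent.EtpbcA.Artin Groth.Agent.CurvesA.Punctual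

variable {X : Scheme.{u}}

/-- The unit `F ⟶ sky ξ (F_ξ)` is an epimorphism at a closed point with separably closed residue
field. -/
theorem epi_unit_sky {Ω : Type u} [Field Ω] [IsSepClosed Ω] (ξ : Spec (CommRingCat.of Ω) ⟶ X)
    (hcl : IsClosed ({ξ default} : Set X)) (hsc : IsSepClosed (X.residueField (ξ default)))
    (F : EtCoh.Ab X) : Epi ((skyAdj ξ).unit.app F) := by
  let η : F ⟶ (sky ξ).obj ((EtCoh.stalk ξ).obj F) := (skyAdj ξ).unit.app F
  have htri : (EtCoh.stalk ξ).map η ≫ (skyAdj ξ).counit.app ((EtCoh.stalk ξ).obj F) = 𝟙 _ :=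
    (skyAdj ξ).left_triangle_components F
  have hinj := counit_injective ξ hcl hsc ((EtCoh.stalk ξ).obj F)
  refine Etcore.Stalks.epi_of_stalks η fun y => ?_
  by_cases hy : y = ξ default
  · subst hy
    refine ⟨Ω, inferInstance, inferInstance, ξ, rfl, fun p => ?_⟩
    refine ⟨(skyAdj ξ).counit.app _ p, ?_⟩
    apply hinj
    exact ConcreteCategory.congr_hom htri ((skyAdj ξ).counit.app _ p)
  · obtain ⟨Ω', _, _, ζ, hζ⟩ := Etcore.Stalks.exists_geom y
    refine ⟨Ω', inferInstance, inferInstance, ζ, hζ, fun p => ⟨0, ?_⟩⟩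
    have hz := isZero_stalk_sky ξ hcl ζ (by rw [hζ]; exact hy) ((EtCoh.stalk ξ).obj F)
    have := AddCommGrpCat.subsingleton_of_isZero hz
    exact Subsingleton.elim _ _

/-- The support of a subsheaf. -/
theorem supp_subset {G F : EtCoh.Ab X} (m : G ⟶ F) [Mono m] : EtPBC.supp G ⊆ EtPBC.supp F := by
  intro y hy
  by_contra hyF
  refine (not_mem_supp_iff _ y).2 ?_ hy
  obtain ⟨Ω', _, _, ζ, hζ⟩ := Etcore.Stalks.exists_geom y
  rw [← hζ, ← stalk_isZero_iff]
  exact IsZero.of_mono ((EtCoh.stalk ζ).map m) (isZero_stalk_of_not_mem hyF ζ hζ)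

/-- No map from `ℤ` means no global sections. -/
theorem subsingleton_top {G : EtCoh.Ab X} (h : ∀ s : EtCoh.const X ℤ ⟶ G, s = 0) :
    Subsingleton (G.obj.obj (op (EtCoh.top X))) := by
  have h1 : Subsingleton (EtCoh.H X G 0) := by
    refine ⟨fun a b => ?_⟩
    obtain ⟨a, rfl⟩ := (Abelian.Ext.mk₀_bijective _ _).2 a
    obtain ⟨b, rfl⟩ := (Abelian.Ext.mk₀_bijective _ _).2 b
    rw [h a, h b]
  exact (Sheaf.H.equiv₀ G (EtCore.topIsTerminal X)).symm.injective.subsingleton

/-- A skyscraper sheaf without sections has zero value. -/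
theorem isZero_of_sky {Ω : Type u} [Field Ω] [IsSepClosed Ω] (ξ : Spec (CommRingCat.of Ω) ⟶ X)
    (A : AddCommGrpCat.{u + 1}) (h : ∀ s : EtCoh.const X ℤ ⟶ (sky ξ).obj A, s = 0) : IsZero A := by
  have h1 := subsingleton_top h
  obtain ⟨x, -⟩ := Etcore.StalkSec.exists_pt ξ (U := EtCoh.top X) (ξ default) rfl
  have h2 : IsSplitEpi (comp ξ A x) :=
    inferInstanceAs (IsSplitEpi (Pi.π (fun _ : (Scheme.pointSmallEtale ξ).fiber.obj (EtCoh.top X) => A) x))
  have h3 : Function.Surjective (comp ξ A x) :=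
    (AddCommGrpCat.epi_iff_surjective _).1 inferInstance
  have h4 : Subsingleton A := h3.subsingleton
  exact AddCommGrpCat.isZero_of_subsingleton A

/-- **Support lemma**: a sheaf supported in closed points of a scheme of finite type over a separably
closed field without nonzero global sections is zero. -/
theorem isZero_of_supp {K : Type u} [Field K] [IsSepClosed K]
    (a : X ⟶ Spec (CommRingCat.of K)) [LocallyOfFiniteType a] [QuasiCompact a]
    (F : EtCoh.Ab X) (hF : ∀ x ∈ EtPBC.supp F, IsClosed ({x} : Set X))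
    (h0 : ∀ s : EtCoh.const X ℤ ⟶ F, s = 0) : IsZero F := by
  refine isZero_of_forall F fun x hx => ?_
  obtain ⟨Ω, _, _, ξ, hξ⟩ := Etcore.Stalks.exists_geom x
  have hcl : IsClosed ({ξ default} : Set X) := by rw [hξ]; exact hF x hx
  have hsc : IsSepClosed (X.residueField (ξ default)) :=
    Groth.Agent.CurvesA.ClosedPtSep.isSepClosed_residueField a _ hcl
  let η : F ⟶ (sky ξ).obj ((EtCoh.stalk ξ).obj F) := (skyAdj ξ).unit.app F
  have hepi : Epi η := epi_unit_sky ξ hcl hsc F
  let S : ShortComplex (EtCoh.Ab X) := ShortComplex.mk (kernel.ι η) η (kernel.condition η)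
  have hS : S.ShortExact := { exact := ShortComplex.exact_kernel η }
  have h1 : Subsingleton (EtCoh.H X S.X₁ 1) :=
    Groth.Agent.S0171.result X a (kernel η) (fun y hy => hF y (supp_subset (kernel.ι η) hy)) 1
      one_pos
  have h2 : ∀ s : EtCoh.const X ℤ ⟶ (sky ξ).obj ((EtCoh.stalk ξ).obj F), s = 0 := by
    intro s
    obtain ⟨e, he⟩ := Abelian.Ext.covariant_sequence_exact₃ (EtCoh.const X ℤ) hS
      (Abelian.Ext.mk₀ s : EtCoh.H X S.X₃ 0) (rfl : 0 + 1 = 1) (h1.elim _ _)
    obtain ⟨t, rfl⟩ := (Abelian.Ext.mk₀_bijective _ _).2 e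
    rw [h0 t, Abelian.Ext.mk₀_zero, Abelian.Ext.zero_comp] at he
    exact (Abelian.Ext.mk₀_bijective _ _).1 (he.symm.trans (Abelian.Ext.mk₀_zero _ _).symm)
  have h3 := isZero_of_sky ξ _ h2
  exact ((mem_supp_iff F x ξ ((range_eq_iff ξ x).2 hξ)).1 hx h3).elim

end Groth.Agent.EtpbcB.SuppZero
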