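import Groth.Prelude.Def_EtBase
import Mathlib.RingTheory.LocalRing.ResidueField.Basic

/-!
# Strictly henselian local rings: transport along ring isomorphisms
-/

set_option autoImplicit false
universe u v

namespace Groth.Agent.EtpbcB.StrHensEquiv

open IsLocalRing Polynomial

theorem henselianLocalRing_of_ringEquiv {R : Type u} {S : Type v} [CommRing R] [CommRing S]
    (e : R ≃+* S) [HenselianLocalRing R] : HenselianLocalRing S := by
  have hS : IsLocalRing S := e.isLocalRing
  have hmem : ∀ x : R, x ∈ maximalIdeal R ↔ e x ∈ maximalIdeal S := by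
    intro x
    simp only [mem_maximalIdeal, mem_nonunits_iff, MulEquiv.isUnit_map]
  refine ⟨fun f hf a₀ h₁ h₂ => ?_⟩
  have hev : ∀ (g : S[X]) (x : S), e ((g.map e.symm.toRingHom).eval (e.symm x)) = g.eval x := by
    intro g x
    have := Polynomial.eval_map_apply (f := e.symm.toRingHom) (p := g) x
    rw [show (e.symm x) = e.symm.toRingHom x from rfl, this]
    simp
  obtain ⟨a, ha, ha'⟩ := HenselianLocalRing.is_henselian (f.map e.symm.toRingHom)
    (hf.map _) (e.symm a₀) (by rw [hmem, hev]; exact h₁)
    (by rw [derivative_map, ← MulEquiv.isUnit_map e, hev]; exact h₂)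
  refine ⟨e a, ?_, ?_⟩
  · rw [Polynomial.IsRoot.def, ← hev, e.symm_apply_apply, ha.eq_zero, map_zero]
  · rw [hmem] at ha'
    simpa using ha'

theorem isSepClosed_of_ringEquiv {k : Type u} {K : Type v} [Field k] [Field K] (e : k ≃+* K)
    [IsSepClosed k] : IsSepClosed K := by
  refine ⟨fun p hp => ?_⟩
  have h1 : (p.map e.symm.toRingHom).Separable := hp.map
  have h2 := IsSepClosed.splits_of_separable _ h1
  exact Splits.of_splits_map e.symm.toRingHom h2 (fun a ha => ⟨e a, by simp⟩)

theorem isStrictlyHenselian_of_ringEquiv {R S : Type u} [CommRing R] [CommRing S]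
    (e : R ≃+* S) (h : EtCoh.IsStrictlyHenselianLocalRing R) :
    EtCoh.IsStrictlyHenselianLocalRing S := by
  obtain ⟨h1, h2⟩ := h
  have := henselianLocalRing_of_ringEquiv e
  refine ⟨this, isSepClosed_of_ringEquiv (ResidueField.mapEquiv e)⟩

end Groth.Agent.EtpbcB.StrHensEquiv
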