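import Mathlib.RingTheory.ZariskisMainTheorem
import Mathlib.LinearAlgebra.LinearIndependent.Lemmas

/-!
# Uniform linear independence of the geometric points of a quasi-finite algebra
-/

set_option autoImplicit false

universe u v w

namespace Groth.Agent.EtpbcB.QFPoints

section

variable (A : Type u) (B : Type v) [CommRing A] [CommRing B] [Algebra A B]

/-- For a quasi-finite algebra `B` of finite type over `A` there is a finite subset `M` of `B` such
that for every field `K` over `A` the `A`-algebra maps `B → K`, restricted to `M`,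
are `K`-linearly independent. -/
theorem exists_finset_linearIndependent
    [Algebra.FiniteType A B] [Algebra.QuasiFinite A B] :
    ∃ M : Finset B, ∀ (K : Type w) [Field K] [Algebra A K],
      LinearIndependent K (fun φ : B →ₐ[A] K => fun m : M => φ (m : B)) := by
  classical
  have key : ∀ p : PrimeSpectrum B, ∃ S' : Subalgebra A B, S'.toSubmodule.FG ∧ ∃ r : S',
      r.1 ∉ p.asIdeal ∧ Function.Bijective (Localization.awayMap S'.val.toRingHom r) := fun p =>
    Algebra.QuasiFiniteAt.exists_fg_and_exists_notMem_and_awayMap_bijective p.asIdeal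
  choose S' hfg r hr hbij using key
  have hspan : Ideal.span (Set.range fun p => (r p : B)) = ⊤ := by
    by_contra h
    obtain ⟨m, hm, hle⟩ := Ideal.exists_le_maximal _ h
    exact hr ⟨m, hm.isPrime⟩ (hle (Ideal.subset_span ⟨_, rfl⟩))
  obtain ⟨t, ht₁, ht₂⟩ := (Ideal.span_eq_top_iff_finite _).mp hspan
  -- generators
  choose G hG using hfg
  have ht₁' : ∀ x : t, ∃ p, (r p : B) = x := fun x => ht₁ x.2
  choose pt hpt using ht₁'
  refine ⟨Finset.univ.biUnion fun x : t => (G (pt x)).image fun s => (x : B) * s, ?_⟩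
  intro K _ _
  rw [linearIndependent_iff]
  intro l hl
  -- the relation, for each element of M
  have rel : ∀ x : t, ∀ s ∈ G (pt x), ∑ φ ∈ l.support, l φ * (φ (x : B) * φ s) = 0 := by
    intro x s hs
    have hm : (x : B) * s ∈ Finset.univ.biUnion fun x : t => (G (pt x)).image fun s => (x : B) * s := by
      simp only [Finset.mem_biUnion, Finset.mem_univ, true_and, Finset.mem_image]
      exact ⟨x, s, hs, rfl⟩
    have := congrFun hl ⟨_, hm⟩
    rw [Finsupp.linearCombination_apply, Finsupp.sum, Finset.sum_apply] at this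
    simpa only [Pi.smul_apply, smul_eq_mul, map_mul, Pi.zero_apply] using this
  have rel2 : ∀ x : t, ∀ s ∈ S' (pt x), ∑ φ ∈ l.support, l φ * (φ (x : B) * φ s) = 0 := by
    intro x s hs
    have hs' : s ∈ Submodule.span A (G (pt x) : Set B) := by
      rw [hG]; exact hs
    clear hs
    induction hs' using Submodule.span_induction with
    | mem s hs => exact rel x s hs
    | zero => simp
    | add s s' _ _ h h' =>
      simp only [map_add, mul_add, Finset.sum_add_distrib, h, h', add_zero]
    | smul a s _ h =>
      simp only [map_smul]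
      have : ∀ φ : B →ₐ[A] K, l φ * (φ (x : B) * a • φ s) = a • (l φ * (φ (x : B) * φ s)) := by
        intro φ
        rw [mul_smul_comm, mul_smul_comm]
      simp only [this, ← Finset.smul_sum, h, smul_zero]
  ext ψ
  obtain ⟨x, hx⟩ : ∃ x : t, ψ (x : B) ≠ 0 := by
    by_contra! hcon
    have h1 : Ideal.span (t : Set B) ≤ RingHom.ker (ψ : B →+* K) := by
      rw [Ideal.span_le]
      intro y hy
      exact hcon ⟨y, hy⟩
    rw [ht₂] at h1
    have h2 : ψ 1 = 0 := h1 trivial
    simp at h2
  -- distinct maps stay distinct on S'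
  let χ : {φ : B →ₐ[A] K // φ (x : B) ≠ 0} → (S' (pt x) →* K) := fun φ =>
    ((φ.1 : B →ₐ[A] K) : B →* K).comp ((S' (pt x)).val : S' (pt x) →* B)
  have χ_apply : ∀ φ s, χ φ s = φ.1 s := fun _ _ => rfl
  have hinj : Function.Injective χ := by
    rintro ⟨φ, hφ⟩ ⟨φ', hφ'⟩ h
    have h' : ∀ s : S' (pt x), φ s = φ' s := fun s => DFunLike.congr_fun h s
    ext b
    change φ b = φ' b
    obtain ⟨s, m, hs⟩ := Localization.awayMap_surjective_iff.mp (hbij (pt x)).2 b
    change (s : B) = ((r (pt x) : S' (pt x)) : B) ^ m * b at hs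
    rw [hpt x] at hs
    have h1 := h' s
    rw [hs, map_mul, map_mul, map_pow, map_pow] at h1
    have h2 : φ (x : B) = φ' (x : B) := by
      rw [← hpt x]; exact h' _
    rw [h2] at h1
    exact mul_left_cancel₀ (pow_ne_zero _ hφ') h1
  have hli := (linearIndependent_monoidHom (S' (pt x)) K).comp χ hinj
  rw [linearIndependent_iff'] at hli
  have h4 := hli (l.support.subtype fun φ => φ (x : B) ≠ 0) (fun φ => l φ.1 * φ.1 (x : B)) (by
    ext s
    rw [Finset.sum_apply]
    simp only [Function.comp, Pi.smul_apply, smul_eq_mul, Pi.zero_apply, χ_apply]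
    have h3 := rel2 x s s.2
    refine Eq.trans ?_ h3
    rw [Finset.sum_subtype_eq_sum_filter (p := fun φ : B →ₐ[A] K => φ (x : B) ≠ 0) (s := l.support)
      (f := fun φ : B →ₐ[A] K => l φ * φ (x : B) * φ s)]
    rw [Finset.sum_filter_of_ne]
    · exact Finset.sum_congr rfl fun φ _ => mul_assoc _ _ _
    · intro φ _ h0 h5
      apply h0
      rw [h5]
      simp)
  by_contra hψ
  have h6 := h4 ⟨ψ, hx⟩ (by simpa using hψ)
  exact hψ ((mul_eq_zero.mp h6).resolve_right hx)

end

end Groth.Agent.EtpbcB.QFPoints
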