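import Groth.Agent.EtpbcB.QFPoints
import Mathlib.RingTheory.Spectrum.Prime.Chevalley
import Mathlib.RingTheory.Etale.Pi
import Mathlib.RingTheory.Etale.Basic
import Mathlib.RingTheory.Nullstellensatz
import Mathlib.RingTheory.Finiteness.Basic
import Mathlib.RingTheory.TensorProduct.Finite

/-!
# Quasi-finite algebras over a product of algebraically closed fields
-/

set_option autoImplicit false

universe u v w

open scoped TensorProduct

namespace Groth.Agent.EtpbcB.QFProd

section Principal

variable {I : Type v} (K : I → Type w) [∀ i, Field (K i)]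

/-- The principal prime of a product of fields. -/
noncomputable def principal (i : I) : PrimeSpectrum (∀ i, K i) :=
  PrimeSpectrum.comap (Pi.evalRingHom K i) ⊥

theorem mem_principal (i : I) (f : ∀ i, K i) : f ∈ (principal K i).asIdeal ↔ f i = 0 := by
  change Pi.evalRingHom K i f ∈ (⊥ : Ideal (K i)) ↔ _
  simp

/-- A nonempty constructible subset of the spectrum of a product of fields contains a principal
prime. -/
theorem exists_principal_mem_of_isConstructible (s : Set (PrimeSpectrum (∀ i, K i)))
    (hs : Topology.IsConstructible s) (hne : s.Nonempty) : ∃ i, principal K i ∈ s := by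
  classical
  obtain ⟨S, rfl⟩ := PrimeSpectrum.exists_constructibleSetData_iff.mpr hs
  obtain ⟨p, hp⟩ := hne
  simp only [PrimeSpectrum.ConstructibleSetData.toSet, Set.mem_iUnion] at hp
  obtain ⟨C, hC, hp⟩ := hp
  rw [PrimeSpectrum.BasicConstructibleSetData.toSet] at hp
  obtain ⟨hp1, hp2⟩ := hp
  by_contra! hcon
  have hcon' : ∀ i, principal K i ∉ C.toSet := by
    intro i hi
    apply hcon i
    simp only [PrimeSpectrum.ConstructibleSetData.toSet, Set.mem_iUnion]
    exact ⟨C, hC, hi⟩
  have h1 : ∀ i, C.f i ≠ 0 → ∃ l, C.g l i ≠ 0 := by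
    intro i hi
    by_contra! h
    apply hcon' i
    rw [PrimeSpectrum.BasicConstructibleSetData.toSet]
    refine ⟨?_, ?_⟩
    · rintro _ ⟨l, rfl⟩
      exact (mem_principal K i _).mpr (h l)
    · intro h2
      exact hi ((mem_principal K i _).mp (h2 rfl))
  apply hp2
  rintro _ rfl
  choose l hl using h1
  have h3 : C.f = ∑ m, C.g m * fun i => if h : C.f i ≠ 0 then (if l i h = m then C.f i / C.g m i else 0) else 0 := by
    ext i
    rw [Finset.sum_apply]
    simp only [Pi.mul_apply]
    by_cases h : C.f i = 0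
    · simp [h]
    · simp only [ne_eq, h, not_false_eq_true, dif_pos]
      rw [Finset.sum_eq_single (l i h)]
      · rw [if_pos rfl, mul_div_cancel₀ _ (hl i h)]
      · intro b _ hb
        rw [if_neg (Ne.symm hb), mul_zero]
      · simp
  change C.f ∈ p.asIdeal
  rw [h3]
  refine Ideal.sum_mem _ fun m _ => Ideal.mul_mem_right _ _ (hp1 ⟨m, rfl⟩)

end Principal

section Sub

variable {I : Type v} (K : I → Type w) [∀ i, Field (K i)] (p : I → Prop)

/-- Partial product of a family of fields, over the indices satisfying `p`. -/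
def Sub : Type (max v w) := ∀ i : {i // p i}, K i.1

noncomputable instance : CommRing (Sub K p) := inferInstanceAs (CommRing (∀ i : {i // p i}, K i.1))

noncomputable instance : Algebra (∀ i, K i) (Sub K p) :=
  (RingHom.pi fun i : {i // p i} => Pi.evalRingHom K i.1 : (∀ i, K i) →+* (∀ i : {i // p i}, K i.1)).toAlgebra

theorem algebraMap_sub_apply (f : ∀ i, K i) (i : {i // p i}) :
    algebraMap (∀ i, K i) (Sub K p) f i = f i.1 := rfl

theorem algebraMap_sub_surjective : Function.Surjective (algebraMap (∀ i, K i) (Sub K p)) := by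
  classical
  intro g
  refine ⟨fun i => if h : p i then g ⟨i, h⟩ else 0, ?_⟩
  funext i
  rw [algebraMap_sub_apply]
  rw [dif_pos i.2]

open Classical in
noncomputable instance : Algebra.Etale (∀ i, K i) (Sub K p) := by
  have : IsLocalization.Away (fun i => if p i then 1 else 0 : ∀ i, K i) (Sub K p) := by
    refine IsLocalization.away_of_isIdempotentElem_of_mul ?_ ?_ (algebraMap_sub_surjective K p)
    · ext i
      by_cases h : p i <;> simp [h]
    · intro x y
      constructor
      · intro h
        ext i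
        by_cases hi : p i
        · have := congrFun h ⟨i, hi⟩
          simp only [Pi.mul_apply, if_pos hi, one_mul]
          exact this
        · simp only [Pi.mul_apply, if_neg hi, zero_mul]
      · intro h
        funext i
        have := congrFun h i.1
        simp only [Pi.mul_apply, if_pos i.2, one_mul] at this
        exact this
  exact Algebra.Etale.of_isLocalizationAway (fun i => if p i then 1 else 0 : ∀ i, K i)

end Sub

section Main

theorem exists_coeff {k : Type*} [Field k] {Φ M : Type*} [Fintype M] (v : Φ → (M → k))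
    (hv : LinearIndependent k v) (c : Φ → k) : ∃ r : M → k, ∀ φ, ∑ m, r m * v φ m = c φ := by
  classical
  obtain ⟨f, hf⟩ := LinearMap.exists_extend
    ((Finsupp.linearCombination k c).comp (hv.repr : _ →ₗ[k] (Φ →₀ k)))
  refine ⟨fun m => f (Pi.single m 1), fun φ => ?_⟩
  have h1 : f (v φ) = c φ := by
    have := LinearMap.congr_fun hf ⟨v φ, Submodule.subset_span ⟨φ, rfl⟩⟩
    simp only [LinearMap.comp_apply, Submodule.subtype_apply] at this
    rw [this]
    have h2 : hv.repr ⟨v φ, Submodule.subset_span ⟨φ, rfl⟩⟩ = Finsupp.single φ 1 :=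
      hv.repr_eq_single _ _ rfl
    change Finsupp.linearCombination k c (hv.repr _) = _
    rw [h2]
    simp
  rw [← h1, LinearMap.pi_apply_eq_sum_univ f (v φ)]
  refine Finset.sum_congr rfl fun m _ => ?_
  rw [smul_eq_mul, mul_comm]
  congr 1
  change f (Pi.single m 1) = _
  congr 1
  funext j
  simp [Pi.single_apply, eq_comm]

variable {A : Type u} {B : Type u} [CommRing A] [CommRing B] [Algebra A B]
  {I : Type v} (K : I → Type w) [∀ i, Field (K i)] [∀ i, Algebra A (K i)]

noncomputable instance (p : I → Prop) : Algebra A (Sub K p) :=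
  inferInstanceAs (Algebra A (∀ i : {i // p i}, K i.1))

instance (p : I → Prop) : IsScalarTower A (∀ i, K i) (Sub K p) :=
  .of_algebraMap_eq fun _ => rfl

theorem exists_finite_etale_model [Algebra.QuasiFinite A B]
    [Algebra.FinitePresentation A B] [∀ i, IsAlgClosed (K i)] :
    ∃ (C : Type (max v w)) (_ : CommRing C) (_ : Algebra (∀ i, K i) C)
      (π : (∀ i, K i) ⊗[A] B →ₐ[∀ i, K i] C), Function.Surjective π ∧
        Module.Finite (∀ i, K i) C ∧ Algebra.Etale (∀ i, K i) C ∧
        Function.Surjective (PrimeSpectrum.comap π.toRingHom) := by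
  classical
  obtain ⟨M, hM⟩ := QFPoints.exists_finset_linearIndependent.{u, u, w} A B
  have hfin : ∀ i, Finite (B →ₐ[A] K i) := fun i =>
    (hM (K i)).finite_of_isNoetherian
  have hcard : ∀ i, Nat.card (B →ₐ[A] K i) ≤ Fintype.card M := by
    intro i
    have := Fintype.ofFinite (B →ₐ[A] K i)
    rw [Nat.card_eq_fintype_card]
    have := (hM (K i)).fintype_card_le_finrank
    rwa [Module.finrank_fintype_fun_eq_card] at this
  let e : ∀ i, Fin (Nat.card (B →ₐ[A] K i)) ≃ (B →ₐ[A] K i) := fun i =>
    (Finite.equivFin _).symm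
  let P : Fin (Fintype.card M) → I → Prop := fun j i => (j : ℕ) < Nat.card (B →ₐ[A] K i)
  let β : B →ₐ[A] (∀ j, Sub K (P j)) := AlgHom.pi fun j =>
    (AlgHom.pi fun i : {i // P j i} => e i.1 ⟨j, i.2⟩ :
      B →ₐ[A] (∀ i : {i // P j i}, K i.1))
  have β_apply : ∀ b j (i : {i // P j i}), β b j i = e i.1 ⟨j, i.2⟩ b := fun _ _ _ => rfl
  let π : (∀ i, K i) ⊗[A] B →ₐ[∀ i, K i] (∀ j, Sub K (P j)) :=
    Algebra.TensorProduct.lift (Algebra.ofId _ _) β (fun _ _ => Commute.all _ _)
  have π_tmul : ∀ r b j (i : {i // P j i}), π (r ⊗ₜ b) j i = r i.1 * e i.1 ⟨j, i.2⟩ b := by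
    intro r b j i
    rw [Algebra.TensorProduct.lift_tmul]
    rfl
  have surj : Function.Surjective π := by
    intro c
    have h1 : ∀ i, ∃ r : M → K i, ∀ φ : B →ₐ[A] K i, ∑ m, r m * φ m =
        c ⟨(e i).symm φ, lt_of_lt_of_le ((e i).symm φ).2 (hcard i)⟩ ⟨i, ((e i).symm φ).2⟩ := by
      intro i
      exact exists_coeff _ (hM (K i)) _
    choose r hr using h1
    refine ⟨∑ m, (fun i => r i m) ⊗ₜ (m : B), ?_⟩
    ext j
    funext i
    rw [map_sum, Finset.sum_apply]
    have h2 : ∀ (s : Finset M) (f : M → Sub K (P j)), (∑ m ∈ s, f m) i = ∑ m ∈ s, f m i := by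
      intro s f
      exact Finset.sum_apply (M := fun i : {i // P j i} => K i.1) i s f
    rw [h2]
    simp only [π_tmul]
    rw [hr]
    have h3 : ∀ (k : Fin (Nat.card (B →ₐ[A] K i.1))) (_ : k = ⟨j, i.2⟩),
        c ⟨k, lt_of_lt_of_le k.2 (hcard i.1)⟩ ⟨i.1, k.2⟩ = c j i := by
      rintro _ rfl
      rfl
    exact h3 _ (Equiv.symm_apply_apply _ _)
  have hfinite : Module.Finite (∀ i, K i) (∀ j, Sub K (P j)) := by
    have : ∀ j, Module.Finite (∀ i, K i) (Sub K (P j)) := fun j =>
      Module.Finite.of_surjective (Algebra.linearMap _ _) (algebraMap_sub_surjective K (P j))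
    infer_instance
  refine ⟨∀ j, Sub K (P j), inferInstance, inferInstance, π, surj, hfinite, inferInstance, ?_⟩
  rw [← Set.range_eq_univ, range_comap_of_surjective _ _ surj,
    Set.eq_univ_iff_forall]
  intro q t ht
  by_contra htq
  change t ∉ q.asIdeal at htq
  have ht' : π t = 0 := ht
  obtain ⟨i, 𝔮, h𝔮⟩ : ∃ i, principal K i ∈ Set.range
      (PrimeSpectrum.comap (algebraMap (∀ i, K i) (Localization.Away t))) := by
    refine exists_principal_mem_of_isConstructible K _
      (PrimeSpectrum.isConstructible_range_comap ?_) ?_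
    · have : Algebra.FinitePresentation ((∀ i, K i) ⊗[A] B) (Localization.Away t) :=
        IsLocalization.Away.finitePresentation t
      have : Algebra.FinitePresentation (∀ i, K i) (Localization.Away t) :=
        Algebra.FinitePresentation.trans (∀ i, K i) ((∀ i, K i) ⊗[A] B) _
      exact RingHom.finitePresentation_algebraMap.mpr this
    · have hq : q ∈ Set.range (PrimeSpectrum.comap (algebraMap ((∀ i, K i) ⊗[A] B)
          (Localization.Away t))) := by
        rw [PrimeSpectrum.localization_away_comap_range _ t]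
        exact htq
      obtain ⟨q', _⟩ := hq
      exact ⟨_, q', rfl⟩
  obtain ⟨𝔪, h𝔪, hle⟩ := Ideal.exists_le_maximal 𝔮.asIdeal 𝔮.isPrime.ne_top
  let F := Localization.Away t ⧸ 𝔪
  let _ : Field F := Ideal.Quotient.field 𝔪
  let _ : Algebra (∀ i, K i) (K i) := (Pi.evalRingHom K i).toAlgebra
  have hker : RingHom.ker (Pi.evalRingHom K i) ≤ RingHom.ker (algebraMap (∀ i, K i) F) := by
    intro f hf
    have hf' : f ∈ (principal K i).asIdeal := (mem_principal K i f).mpr hf
    rw [← h𝔮] at hf'
    have : algebraMap (∀ i, K i) (Localization.Away t) f ∈ 𝔪 := hle hf'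
    exact Ideal.Quotient.eq_zero_iff_mem.mpr this
  let _ : Algebra (K i) F := ((Pi.evalRingHom K i).liftOfSurjective
    (Function.surjective_eval i) ⟨algebraMap (∀ i, K i) F, hker⟩).toAlgebra
  have hmap : ∀ r : ∀ i, K i, algebraMap (K i) F (r i) = algebraMap (∀ i, K i) F r := fun r =>
    RingHom.liftOfRightInverse_comp_apply _ _ _ ⟨algebraMap (∀ i, K i) F, hker⟩ r
  have : IsScalarTower (∀ i, K i) (K i) F := .of_algebraMap_eq fun r => (hmap r).symm
  have hft : Algebra.FiniteType (∀ i, K i) F := by
    have : Algebra.FiniteType A B := inferInstance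
    have h1 : Algebra.FiniteType (∀ i, K i) ((∀ i, K i) ⊗[A] B) := inferInstance
    have h2 : Algebra.FiniteType ((∀ i, K i) ⊗[A] B) (Localization.Away t) := by
      have : Algebra.FinitePresentation ((∀ i, K i) ⊗[A] B) (Localization.Away t) :=
        IsLocalization.Away.finitePresentation t
      infer_instance
    have h3 : Algebra.FiniteType (∀ i, K i) (Localization.Away t) := h1.trans h2
    exact h3.of_surjective (Ideal.Quotient.mkₐ _ 𝔪) (Ideal.Quotient.mkₐ_surjective _ _)
  have hft' : Algebra.FiniteType (K i) F := .of_restrictScalars_finiteType (∀ i, K i) (K i) F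
  have hfin' : Module.Finite (K i) F := finite_of_finite_type_of_isJacobsonRing (K i) F
  have hbij : Function.Bijective (algebraMap (K i) F) :=
    IsAlgClosed.algebraMap_bijective_of_isIntegral
  let e' : K i ≃+* F := RingEquiv.ofBijective _ hbij
  let ψ : (∀ i, K i) ⊗[A] B →+* K i :=
    (e'.symm : F →+* K i).comp ((Ideal.Quotient.mk 𝔪).comp (algebraMap _ (Localization.Away t)))
  have ψ_alg : ∀ r : ∀ i, K i, ψ (r ⊗ₜ 1) = r i := by
    intro r
    change e'.symm (algebraMap (∀ i, K i) F r) = r i
    rw [← hmap, RingEquiv.symm_apply_eq]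
    rfl
  have ψt : ψ t ≠ 0 := by
    have h1 : IsUnit (algebraMap _ (Localization.Away t) t) :=
      IsLocalization.map_units (M := .powers t) _ ⟨t, Submonoid.mem_powers t⟩
    exact ((h1.map (Ideal.Quotient.mk 𝔪)).map (e'.symm : F →+* K i)).ne_zero
  let φ : B →ₐ[A] K i :=
    { (ψ.comp (Algebra.TensorProduct.includeRight : B →ₐ[A] (∀ i, K i) ⊗[A] B).toRingHom) with
      commutes' := by
        intro a
        change ψ (1 ⊗ₜ algebraMap A B a) = _
        rw [Algebra.algebraMap_eq_smul_one, ← TensorProduct.smul_tmul]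
        rw [ψ_alg]
        rw [Pi.smul_apply, Pi.one_apply, ← Algebra.algebraMap_eq_smul_one] }
  have hφ : ∀ b, ψ (1 ⊗ₜ b) = φ b := fun _ => rfl
  apply ψt
  let j : Fin (Fintype.card M) := ⟨(e i).symm φ, lt_of_lt_of_le ((e i).symm φ).2 (hcard i)⟩
  have hj : P j i := ((e i).symm φ).2
  have hall : ∀ d, ψ d = π d j ⟨i, hj⟩ := by
    intro d
    induction d with
    | zero =>
      rw [map_zero, map_zero]
      rfl
    | add x y hx hy =>
      rw [map_add, map_add, hx, hy]
      rfl
    | tmul r b =>
      rw [π_tmul]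
      have h1 : r ⊗ₜ[A] b = (r ⊗ₜ 1) * (1 ⊗ₜ b) := by
        rw [Algebra.TensorProduct.tmul_mul_tmul, mul_one, one_mul]
      rw [h1, map_mul, ψ_alg, hφ]
      congr 1
      have h2 : e i ⟨j, hj⟩ = φ := Equiv.apply_symm_apply _ _
      rw [h2]
  rw [hall, ht']
  rfl

end Main

end Groth.Agent.EtpbcB.QFProd
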