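import Groth.Agent.EtpbcB.Spectral
import Mathlib.Order.Disjointed

/-!
# Closed points and connected components of spectral spaces (Stacks 0968, 005F)
-/

set_option autoImplicit false
universe u

namespace Groth.Agent.EtpbcB.SpectralWLocal

open TopologicalSpace Topology Set
open Groth.Agent.EtpbcB.Spectral

variable {X : Type u} [TopologicalSpace X]

/-- A point and its specializations lie in the same connected component. -/
theorem mem_connectedComponent_of_specializes {x y : X} (h : x ⤳ y) :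
    y ∈ connectedComponent x :=
  (isPreconnected_singleton.closure (s := {x})).subset_connectedComponent
    (subset_closure (mem_singleton x)) (specializes_iff_mem_closure.1 h)

/-- closed points map onto the connected components in a quasi-compact T0 space -/
theorem surjective_mk [CompactSpace X] [T0Space X] :
    Function.Surjective (fun x : {x : X // IsClosed ({x} : Set X)} =>
      ConnectedComponents.mk x.1) := by
  intro c
  obtain ⟨x, rfl⟩ := ConnectedComponents.surjective_coe c
  obtain ⟨z, hz, hxz⟩ := exists_isClosed_singleton_specializes x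
  refine ⟨⟨z, hz⟩, ?_⟩
  change ConnectedComponents.mk z = ConnectedComponents.mk x
  rw [ConnectedComponents.coe_eq_coe']
  exact mem_connectedComponent_of_specializes hxz

/-- Two points in a clopen set and its complement have different components. -/
theorem mk_ne_of_isClopen {V : Set X} (hV : IsClopen V) {x y : X} (hx : x ∈ V) (hy : y ∉ V) :
    ConnectedComponents.mk x ≠ ConnectedComponents.mk y := by
  intro h
  rw [eq_comm, ConnectedComponents.coe_eq_coe'] at h
  exact hy (hV.connectedComponent_subset hx h)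

/-- In a spectral space (more generally in a quasi-compact quasi-separated prespectral space) the
connected component of a point is the intersection of the clopen sets containing it.
(Stacks 005F) -/
theorem connectedComponent_eq_iInter_isClopen [CompactSpace X] [PrespectralSpace X]
    [QuasiSeparatedSpace X] (x : X) :
    connectedComponent x = ⋂ s : { s : Set X // IsClopen s ∧ x ∈ s }, s.1 := by
  apply subset_antisymm
  · exact connectedComponent_subset_iInter_isClopen
  -- We show the intersection is connected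
  refine IsPreconnected.subset_connectedComponent ?_ (mem_iInter.2 fun s => s.2.2)
  set S : Set X := ⋂ s : { s : Set X // IsClopen s ∧ x ∈ s }, s.1 with hS
  have hSc : IsClosed S := isClosed_iInter fun s => s.2.1.1
  have hne : Nonempty { s : Set X // IsClopen s ∧ x ∈ s } := ⟨⟨univ, isClopen_univ, mem_univ x⟩⟩
  have hdir : Directed (fun a b => a ⊇ b) (fun s : { s : Set X // IsClopen s ∧ x ∈ s } => s.1) := by
    intro s t
    exact ⟨⟨s.1 ∩ t.1, s.2.1.inter t.2.1, s.2.2, t.2.2⟩, inter_subset_left, inter_subset_right⟩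
  -- it suffices to treat closed decompositions with x in the first part
  have key : ∀ B C : Set X, IsClosed B → IsClosed C → S = B ∪ C → Disjoint B C → x ∈ B →
      C = ∅ := by
    intro B C hB hC hBC hd hxB
    have hBU : B ⊆ Cᶜ := hd.subset_compl_right
    have hCV : C ⊆ Bᶜ := hd.symm.subset_compl_right
    obtain ⟨U, hUc, hUo, hBU', hUC⟩ := PrespectralSpace.exists_isCompact_and_isOpen_between
      hB.isCompact hC.isOpen_compl hBU
    obtain ⟨V, hVc, hVo, hCV', hVB⟩ := PrespectralSpace.exists_isCompact_and_isOpen_between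
      hC.isCompact hB.isOpen_compl hCV
    have hUV : IsCompact (U ∩ V) := QuasiSeparatedSpace.inter_isCompact _ _ hUo hUc hVo hVc
    have h1 : (U ∩ V) ∩ S = ∅ := by
      rw [hBC]
      ext z
      simp only [mem_inter_iff, mem_union, mem_empty_iff_false, iff_false, not_and, not_or]
      rintro ⟨hzU, hzV⟩
      exact ⟨fun h => hVB hzV h, fun h => hUC hzU h⟩
    obtain ⟨Z₁, hZ₁⟩ := hUV.elim_directed_family_closed
      (fun s : { s : Set X // IsClopen s ∧ x ∈ s } => s.1) (fun s => s.2.1.1) h1 hdir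
    have h2 : ((U ∪ V)ᶜ) ∩ S = ∅ := by
      rw [hBC]
      ext z
      simp only [mem_inter_iff, mem_compl_iff, mem_union, mem_empty_iff_false, iff_false, not_and,
        not_or]
      rintro ⟨hzU, hzV⟩
      exact ⟨fun h => hzU (hBU' h), fun h => hzV (hCV' h)⟩
    obtain ⟨Z₂, hZ₂⟩ := (hUo.union hVo).isClosed_compl.isCompact.elim_directed_family_closed
      (fun s : { s : Set X // IsClopen s ∧ x ∈ s } => s.1) (fun s => s.2.1.1) h2 hdir
    set Z : Set X := Z₁.1 ∩ Z₂.1 with hZ
    have hZclopen : IsClopen Z := Z₁.2.1.inter Z₂.2.1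
    have hZUV : Z ⊆ U ∪ V := by
      intro z hz
      by_contra hcon
      have : z ∈ (∅ : Set X) := hZ₂ ▸ ⟨hcon, hz.2⟩
      exact this
    have hZd : ∀ z ∈ Z, z ∈ U → z ∉ V := by
      intro z hz hzU hzV
      have : z ∈ (∅ : Set X) := hZ₁ ▸ ⟨⟨hzU, hzV⟩, hz.1⟩
      exact this
    have hZU : Z ∩ U = Z ∩ Vᶜ := by
      ext z
      constructor
      · rintro ⟨hz, hzU⟩
        exact ⟨hz, hZd z hz hzU⟩
      · rintro ⟨hz, hzV⟩
        exact ⟨hz, (hZUV hz).resolve_right hzV⟩
    have hcl : IsClopen (Z ∩ U) := by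
      refine ⟨?_, hZclopen.2.inter hUo⟩
      rw [hZU]
      exact hZclopen.1.inter hVo.isClosed_compl
    have hSZ : S ⊆ Z ∩ U :=
      iInter_subset_of_subset ⟨Z ∩ U, hcl, ⟨⟨Z₁.2.2, Z₂.2.2⟩, hBU' hxB⟩⟩ subset_rfl
    by_contra hCne
    obtain ⟨c, hc⟩ := nonempty_iff_ne_empty.2 hCne
    have hcS : c ∈ S := hBC ▸ Or.inr hc
    exact hUC (hSZ hcS).2 hc
  rw [isPreconnected_iff_subset_of_disjoint_closed]
  intro u v hu hv huv hdisj
  have hxS : x ∈ S := mem_iInter.2 fun s => s.2.2
  rcases huv hxS with hxu | hxv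
  · left
    have := key (S ∩ u) (S ∩ v) (hSc.inter hu) (hSc.inter hv)
      (by rw [← inter_union_distrib_left, inter_eq_left.2 huv])
      (by
        rw [disjoint_iff_inter_eq_empty, ← hdisj]
        ext z; simp only [mem_inter_iff]; tauto)
      ⟨hxS, hxu⟩
    intro z hz
    rcases huv hz with h | h
    · exact h
    · exact absurd (this ▸ (⟨hz, h⟩ : z ∈ S ∩ v) : z ∈ (∅ : Set X)) (notMem_empty z)
  · right
    have := key (S ∩ v) (S ∩ u) (hSc.inter hv) (hSc.inter hu)
      (by rw [← inter_union_distrib_left, union_comm, inter_eq_left.2 huv])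
      (by
        rw [disjoint_iff_inter_eq_empty, ← hdisj]
        ext z; simp only [mem_inter_iff]; tauto)
      ⟨hxS, hxv⟩
    intro z hz
    rcases huv hz with h | h
    · exact absurd (this ▸ (⟨hz, h⟩ : z ∈ S ∩ u) : z ∈ (∅ : Set X)) (notMem_empty z)
    · exact h

/-- If each connected component contains only one closed point, every open neighbourhood of a
closed point contains a clopen neighbourhood. -/
theorem exists_isClopen_of_injective [SpectralSpace X]
    (hinj : Function.Injective (fun x : {x : X // IsClosed ({x} : Set X)} =>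
      ConnectedComponents.mk x.1)) {x : X} (hx : IsClosed ({x} : Set X)) {U : Set X}
    (hU : IsOpen U) (hxU : x ∈ U) : ∃ Z : Set X, IsClopen Z ∧ x ∈ Z ∧ Z ⊆ U := by
  have hT : connectedComponent x ⊆ U := by
    intro y hy
    obtain ⟨z, hz, hyz⟩ := exists_isClosed_singleton_specializes y
    have h1 : ConnectedComponents.mk z = ConnectedComponents.mk x := by
      rw [ConnectedComponents.coe_eq_coe']
      have := connectedComponent_eq hy
      rw [this]
      exact mem_connectedComponent_of_specializes hyz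
    have h2 := hinj (a₁ := ⟨z, hz⟩) (a₂ := ⟨x, hx⟩) h1
    have h3 : z = x := congrArg Subtype.val h2
    subst h3
    exact hyz.mem_open hU hxU
  rw [connectedComponent_eq_iInter_isClopen] at hT
  have hne : Nonempty { s : Set X // IsClopen s ∧ x ∈ s } := ⟨⟨univ, isClopen_univ, mem_univ x⟩⟩
  have hdir : Directed (fun a b => a ⊇ b) (fun s : { s : Set X // IsClopen s ∧ x ∈ s } => s.1) := by
    intro s t
    exact ⟨⟨s.1 ∩ t.1, s.2.1.inter t.2.1, s.2.2, t.2.2⟩, inter_subset_left, inter_subset_right⟩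
  obtain ⟨Z, hZ⟩ := hU.isClosed_compl.isCompact.elim_directed_family_closed
      (fun s : { s : Set X // IsClopen s ∧ x ∈ s } => s.1) (fun s => s.2.1.1)
      (by rw [inter_comm, ← sdiff_eq, sdiff_eq_empty]; exact hT) hdir
  refine ⟨Z.1, Z.2.1, Z.2.2, ?_⟩
  rwa [inter_comm, ← sdiff_eq, sdiff_eq_empty] at hZ

/-- Stacks 0968, (2) implies (1). -/
theorem refinement_of_injective [SpectralSpace X]
    (hinj : Function.Injective (fun x : {x : X // IsClosed ({x} : Set X)} =>
      ConnectedComponents.mk x.1)) (ι : Type u) (U : ι → Set X) (hU : ∀ i, IsOpen (U i))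
    (hcov : (⋃ i, U i) = univ) :
    ∃ (n : ℕ) (V : Fin n → Set X), (∀ k, IsClopen (V k)) ∧
        Pairwise (fun k l => Disjoint (V k) (V l)) ∧ (⋃ k, V k) = Set.univ ∧ ∀ k, ∃ i, V k ⊆ U i := by
  classical
  -- a clopen nbhd of each closed point
  have h1 : ∀ x : {x : X // IsClosed ({x} : Set X)}, ∃ (Z : Set X) (i : ι), IsClopen Z ∧ x.1 ∈ Z ∧
      Z ⊆ U i := by
    rintro ⟨x, hx⟩
    have : x ∈ ⋃ i, U i := hcov ▸ mem_univ x
    obtain ⟨i, hi⟩ := mem_iUnion.1 this
    obtain ⟨Z, hZ⟩ := exists_isClopen_of_injective hinj hx (hU i) hi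
    exact ⟨Z, i, hZ⟩
  choose Z i hZ using h1
  have h2 : (univ : Set X) ⊆ ⋃ x, Z x := by
    intro y _
    obtain ⟨z, hz, hyz⟩ := exists_isClosed_singleton_specializes y
    exact mem_iUnion.2 ⟨⟨z, hz⟩, hyz.mem_open (hZ ⟨z, hz⟩).1.2 (hZ ⟨z, hz⟩).2.1⟩
  obtain ⟨t, ht⟩ := isCompact_univ.elim_finite_subcover Z (fun x => (hZ x).1.2) h2
  -- enumerate
  let e := t.equivFin
  let W : Fin t.card → Set X := fun k => Z (e.symm k).1
  refine ⟨t.card, disjointed W, ?_, ?_, ?_, ?_⟩
  · intro k
    have hW : ∀ k, IsClopen (W k) := fun k => (hZ _).1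
    exact disjointedRec (fun {_ j} h => h.diff (hW j)) (hW k)
  · exact fun a b hab => disjoint_disjointed W hab
  · rw [iUnion_disjointed]
    apply subset_antisymm (subset_univ _)
    intro y hy
    obtain ⟨x, hx⟩ := mem_iUnion.1 (ht hy)
    obtain ⟨hxt, hyx⟩ := mem_iUnion.1 hx
    refine mem_iUnion.2 ⟨e ⟨x, hxt⟩, ?_⟩
    simpa [W] using hyx
  · intro k
    exact ⟨i (e.symm k).1, (disjointed_subset W k).trans (hZ _).2.2⟩

/-- Stacks 0968, (1) implies (2). -/
theorem injective_of_refinement
    (h : ∀ (ι : Type u) (U : ι → Set X), (∀ i, IsOpen (U i)) → (⋃ i, U i) = Set.univ →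
      ∃ (n : ℕ) (V : Fin n → Set X), (∀ k, IsClopen (V k)) ∧
        Pairwise (fun k l => Disjoint (V k) (V l)) ∧ (⋃ k, V k) = Set.univ ∧ ∀ k, ∃ i, V k ⊆ U i) :
    Function.Injective (fun x : {x : X // IsClosed ({x} : Set X)} =>
      ConnectedComponents.mk x.1) := by
  rintro ⟨x, hx⟩ ⟨y, hy⟩ hxy
  by_contra hne
  have hne' : x ≠ y := fun h => hne (Subtype.ext h)
  obtain ⟨n, V, hV, -, hcov, href⟩ := h (ULift.{u} Bool)
    (fun b => cond b.down ({x}ᶜ) ({y}ᶜ)) (by
      rintro ⟨b⟩
      cases b
      · exact hy.isOpen_compl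
      · exact hx.isOpen_compl) (by
      apply subset_antisymm (subset_univ _)
      intro z _
      by_cases hzx : z = x
      · exact mem_iUnion.2 ⟨⟨false⟩, by simpa [hzx] using hne'⟩
      · exact mem_iUnion.2 ⟨⟨true⟩, by simpa using hzx⟩)
  have hxV : x ∈ ⋃ k, V k := hcov ▸ mem_univ x
  obtain ⟨k, hk⟩ := mem_iUnion.1 hxV
  obtain ⟨⟨b⟩, hb⟩ := href k
  cases b
  · have hyV : y ∉ V k := fun hyk => by simpa using hb hyk
    exact mk_ne_of_isClopen (hV k) hk hyV hxy
  · exact absurd (hb hk) (by simp)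

/-- Stacks 0968, last assertion. -/
theorem injective_of_existsUnique [SpectralSpace X]
    (h0 : IsClosed {x : X | IsClosed ({x} : Set X)})
    (huniq : ∀ x : X, ∃! z : X, IsClosed ({z} : Set X) ∧ x ⤳ z) :
    Function.Injective (fun x : {x : X // IsClosed ({x} : Set X)} =>
      ConnectedComponents.mk x.1) := by
  rintro ⟨x, hx⟩ ⟨y, hy⟩ hxy
  by_contra hne
  have hne' : x ≠ y := fun h => hne (Subtype.ext h)
  set X₀ : Set X := {x : X | IsClosed ({x} : Set X)} with hX₀
  have hbasis := PrespectralSpace.isTopologicalBasis (X := X)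
  -- the pairs of qc open nbhds of a and b
  have sep : ∀ a b : X, IsClosed ({a} : Set X) → IsClosed ({b} : Set X) → a ≠ b →
      ∃ A B : Set X, IsOpen A ∧ IsCompact A ∧ IsOpen B ∧ IsCompact B ∧ a ∈ A ∧ b ∈ B ∧
        A ∩ B ∩ X₀ = ∅ := by
    intro a b ha hb hab
    by_contra hcon
    push Not at hcon
    let ι := {W : Set X × Set X // IsOpen W.1 ∧ IsCompact W.1 ∧ IsOpen W.2 ∧ IsCompact W.2 ∧
      a ∈ W.1 ∧ b ∈ W.2}
    have hι : Nonempty ι := by
      obtain ⟨A, hA, haA, -⟩ := hbasis.exists_subset_of_mem_open (mem_univ a) isOpen_univ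
      obtain ⟨B, hB, hbB, -⟩ := hbasis.exists_subset_of_mem_open (mem_univ b) isOpen_univ
      exact ⟨⟨(A, B), hA.1, hA.2, hB.1, hB.2, haA, hbB⟩⟩
    have key : (⋂ W : ι, (W.1.1 ∩ W.1.2 ∩ X₀)).Nonempty := by
      refine nonempty_iInter_of_directed (fun W : ι => W.1.1 ∩ W.1.2 ∩ X₀) ?_ ?_ ?_
      · intro W W'
        refine ⟨⟨(W.1.1 ∩ W'.1.1, W.1.2 ∩ W'.1.2), W.2.1.inter W'.2.1,
          QuasiSeparatedSpace.inter_isCompact _ _ W.2.1 W.2.2.1 W'.2.1 W'.2.2.1,
          W.2.2.2.1.inter W'.2.2.2.1,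
          QuasiSeparatedSpace.inter_isCompact _ _ W.2.2.2.1 W.2.2.2.2.1 W'.2.2.2.1 W'.2.2.2.2.1,
          ⟨W.2.2.2.2.2.1, W'.2.2.2.2.2.1⟩, ⟨W.2.2.2.2.2.2, W'.2.2.2.2.2.2⟩⟩, ?_, ?_⟩
        · exact inter_subset_inter_left _ (inter_subset_inter inter_subset_left inter_subset_left)
        · exact inter_subset_inter_left _ (inter_subset_inter inter_subset_right inter_subset_right)
      · intro W
        exact hcon W.1.1 W.1.2 W.2.1 W.2.2.1 W.2.2.2.1 W.2.2.2.2.1 W.2.2.2.2.2.1
          W.2.2.2.2.2.2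
      · intro W
        refine @IsClosed.inter X _ _ (constructibleTopology X)
          (@IsClosed.inter X _ _ (constructibleTopology X)
            (isClosed_constr_of_isCompact_of_isOpen W.2.2.1 W.2.1)
            (isClosed_constr_of_isCompact_of_isOpen W.2.2.2.2.1 W.2.2.2.1))
          (isClosed_constr_of_isClosed h0)
    obtain ⟨z, hz⟩ := key
    rw [mem_iInter] at hz
    have hz0 : IsClosed ({z} : Set X) := (hz (Classical.arbitrary ι)).2
    have hza : z ⤳ a := by
      rw [specializes_iff_forall_open]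
      intro U hU haU
      obtain ⟨A, hA, haA, hAU⟩ := hbasis.exists_subset_of_mem_open haU hU
      obtain ⟨B, hB, hbB, -⟩ := hbasis.exists_subset_of_mem_open (mem_univ b) isOpen_univ
      exact hAU (hz ⟨(A, B), hA.1, hA.2, hB.1, hB.2, haA, hbB⟩).1.1
    have hzb : z ⤳ b := by
      rw [specializes_iff_forall_open]
      intro U hU hbU
      obtain ⟨A, hA, haA, -⟩ := hbasis.exists_subset_of_mem_open (mem_univ a) isOpen_univ
      obtain ⟨B, hB, hbB, hBU⟩ := hbasis.exists_subset_of_mem_open hbU hU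
      exact hBU (hz ⟨(A, B), hA.1, hA.2, hB.1, hB.2, haA, hbB⟩).1.2
    have e1 : a = z := by
      have := specializes_iff_mem_closure.1 hza
      rwa [hz0.closure_eq, mem_singleton_iff] at this
    have e2 : b = z := by
      have := specializes_iff_mem_closure.1 hzb
      rwa [hz0.closure_eq, mem_singleton_iff] at this
    exact hab (e1.trans e2.symm)
  -- A ∩ X₀ is open in X₀ ; show X₀ \ A is ... we find a clopen partition of X₀
  have part : ∃ A B : Set X, IsClosed A ∧ IsClosed B ∧ x ∈ A ∧ y ∈ B ∧ A ∪ B = X₀ ∧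
      Disjoint A B := by
    obtain ⟨A, B, hAo, hAc, hBo, hBc, hxA, hyB, hAB⟩ := sep x y hx hy hne'
    -- A' = X₀ ∩ A is closed
    refine ⟨X₀ ∩ A, X₀ ∩ Aᶜ, ?_, h0.inter hAo.isClosed_compl, ⟨hx, hxA⟩, ⟨hy, fun hyA => ?_⟩, ?_, ?_⟩
    · apply isClosed_of_stableUnderSpecialization
      · exact @IsClosed.inter X _ _ (constructibleTopology X)
          (isClosed_constr_of_isClosed h0) (isClosed_constr_of_isCompact_of_isOpen hAc hAo)
      · rintro a b hab ⟨ha0, haA⟩
        have : b = a := by
          have := specializes_iff_mem_closure.1 hab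
          rwa [IsClosed.closure_eq ha0, mem_singleton_iff] at this
        subst this
        exact ⟨ha0, haA⟩
    · have : y ∈ (∅ : Set X) := hAB ▸ ⟨⟨hyA, hyB⟩, hy⟩
      exact this
    · rw [← inter_union_distrib_left, union_compl_self, inter_univ]
    · rw [disjoint_iff_inter_eq_empty]
      ext z
      simp only [mem_inter_iff, mem_compl_iff, mem_empty_iff_false, iff_false]
      tauto
  obtain ⟨A, B, hA, hB, hxA, hyB, hAB, hdisj⟩ := part
  -- generalizations
  have hcompl : (gen A)ᶜ = gen B := by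
    ext z
    obtain ⟨w, ⟨hw, hzw⟩, hw'⟩ := huniq z
    constructor
    · intro hz
      have hwX : w ∈ A ∪ B := by rw [hAB]; exact hw
      rcases hwX with h | h
      · exact absurd ⟨w, h, hzw⟩ hz
      · exact ⟨w, h, hzw⟩
    · rintro ⟨b, hb, hzb⟩ ⟨a, ha, hza⟩
      have hb0 : b ∈ X₀ := hAB ▸ Or.inr hb
      have ha0 : a ∈ X₀ := hAB ▸ Or.inl ha
      have e1 := hw' b ⟨hb0, hzb⟩
      have e2 := hw' a ⟨ha0, hza⟩
      subst e1
      subst e2
      exact disjoint_left.1 hdisj ha hb
  have hcA : IsClosed (gen A) := by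
    apply isClosed_of_stableUnderSpecialization (isClosed_constr_gen hA.isCompact)
    have := (stableUnderGeneralization_gen B).compl
    rwa [← hcompl, compl_compl] at this
  have hcB : IsClosed (gen B) := by
    apply isClosed_of_stableUnderSpecialization (isClosed_constr_gen hB.isCompact)
    have := (stableUnderGeneralization_gen A).compl
    rwa [hcompl] at this
  have hclopen : IsClopen (gen A) := ⟨hcA, by rw [← isClosed_compl_iff, hcompl]; exact hcB⟩
  refine mk_ne_of_isClopen hclopen (subset_gen A hxA) ?_ hxy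
  intro hy
  have : y ∈ (gen A)ᶜ := by rw [hcompl]; exact subset_gen B hyB
  exact this hy

end Groth.Agent.EtpbcB.SpectralWLocal
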