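import Mathlib.RingTheory.QuasiFinite.Basic
import Mathlib.RingTheory.Localization.Integral
import Mathlib.RingTheory.TensorProduct.Finite

/-!
# Spreading out finiteness from a point to a locally closed constructible neighbourhood

For a prime `p` of `A`, a property `Q` of `A`-algebras holds *eventually near `p`* (`Ev p Q`) if there are
`f ∉ p` and a finitely generated `I ≤ p` such that `Q` holds for all `A`-algebras in which `f` is a
unit and `I` becomes zero.
-/

set_option autoImplicit false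

universe u v w

open scoped TensorProduct Polynomial

namespace Groth.Agent.EtpbcB.StratAlg

section Ev

variable {A : Type u} [CommRing A]

/-- `Q` holds for all `A`-algebras factoring over a locally closed constructible
neighbourhood `D(f) ∩ V(I)` of `p`. -/
def Ev (p : Ideal A) (Q : ∀ (T : Type u) [CommRing T], (A →+* T) → Prop) : Prop :=
  ∃ f : A, f ∉ p ∧ ∃ I : Ideal A, I.FG ∧ I ≤ p ∧ ∀ (T : Type u) [CommRing T] (φ : A →+* T),
    IsUnit (φ f) → I ≤ RingHom.ker φ → Q T φ

variable {p : Ideal A} 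

theorem Ev.mono {Q Q' : ∀ (T : Type u) [CommRing T], (A →+* T) → Prop}
    (h : Ev p Q) (hQ : ∀ (T : Type u) [CommRing T] (φ : A →+* T), Q T φ → Q' T φ) : Ev p Q' := by
  obtain ⟨f, hf, I, hI, hIp, H⟩ := h
  exact ⟨f, hf, I, hI, hIp, fun T _ φ h1 h2 => hQ T φ (H T φ h1 h2)⟩

theorem Ev.of_forall [p.IsPrime] {Q : ∀ (T : Type u) [CommRing T], (A →+* T) → Prop}
    (hQ : ∀ (T : Type u) [CommRing T] (φ : A →+* T), Q T φ) : Ev p Q :=
  ⟨1, (Ideal.ne_top_iff_one p).mp (Ideal.IsPrime.ne_top ‹_›), ⊥, Submodule.fg_bot, bot_le, fun T _ φ _ _ => hQ T φ⟩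

theorem Ev.and [hp : p.IsPrime] {Q Q' : ∀ (T : Type u) [CommRing T], (A →+* T) → Prop}
    (h : Ev p Q) (h' : Ev p Q') : Ev p (fun T _ φ => Q T φ ∧ Q' T φ) := by
  obtain ⟨f, hf, I, hI, hIp, H⟩ := h
  obtain ⟨f', hf', I', hI', hIp', H'⟩ := h'
  refine ⟨f * f', fun h => (hp.mem_or_mem h).elim hf hf', I ⊔ I', Submodule.FG.sup hI hI',
    sup_le hIp hIp', fun T _ φ h1 h2 => ?_⟩
  rw [map_mul, IsUnit.mul_iff] at h1
  exact ⟨H T φ h1.1 (le_sup_left.trans h2), H' T φ h1.2 (le_sup_right.trans h2)⟩

theorem Ev.forall_finset [hp : p.IsPrime] {ι : Type v} (s : Finset ι)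
    {Q : ι → ∀ (T : Type u) [CommRing T], (A →+* T) → Prop}
    (h : ∀ i ∈ s, Ev p (Q i)) : Ev p (fun T _ φ => ∀ i ∈ s, Q i T φ) := by
  classical
  induction s using Finset.induction_on with
  | empty => exact Ev.of_forall fun T _ φ i hi => by simp at hi
  | insert a s has IH =>
    refine ((h a (Finset.mem_insert_self a s)).and (IH fun i hi => h i (Finset.mem_insert_of_mem hi))).mono ?_
    intro T _ φ hT i hi
    rcases Finset.mem_insert.mp hi with rfl | hi
    · exact hT.1
    · exact hT.2 i hi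

theorem Ev.forall_finite [hp : p.IsPrime] {ι : Type v} [Finite ι]
    {Q : ι → ∀ (T : Type u) [CommRing T], (A →+* T) → Prop}
    (h : ∀ i, Ev p (Q i)) : Ev p (fun T _ φ => ∀ i, Q i T φ) := by
  have := Fintype.ofFinite ι
  exact (Ev.forall_finset Finset.univ fun i _ => h i).mono fun T _ φ hT i => hT i (Finset.mem_univ i)

end Ev

section Finite

variable {A : Type u} {B : Type v} [CommRing A] [CommRing B] [Algebra A B] (p : Ideal A) [hp : p.IsPrime]

/-- An element of `B` vanishing in the fibre at `p`: some multiple of a power lies in `pB`. -/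
theorem exists_mul_pow_mem (y : B) (hy : (1 : p.ResidueField) ⊗ₜ[A] y = 0) :
    ∃ s ∉ p, ∃ n : ℕ, algebraMap A B s * y ^ n ∈ p.map (algebraMap A B) := by
  by_contra! hcon
  let S : Submonoid B := (p.primeCompl.map (algebraMap A B)) ⊔ Submonoid.powers y
  have hdisj : Disjoint ((p.map (algebraMap A B) : Ideal B) : Set B) (S : Set B) := by
    rw [Set.disjoint_left]
    intro b hb hbS
    obtain ⟨_, ⟨s, hs, rfl⟩, _, ⟨n, rfl⟩, rfl⟩ := Submonoid.mem_sup.mp hbS
    exact hcon s hs n hb
  obtain ⟨q, hq, hle, hdis⟩ := Ideal.exists_le_prime_disjoint _ S hdisj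
  have hcomap : q.comap (algebraMap A B) = p := by
    apply le_antisymm
    · intro a ha
      by_contra hap
      exact Set.disjoint_left.mp hdis ha
        (Submonoid.mem_sup_left ⟨a, hap, rfl⟩)
    · exact Ideal.map_le_iff_le_comap.mp hle
  have hker : RingHom.ker (algebraMap A q.ResidueField) = p := by
    rw [IsScalarTower.algebraMap_eq A B q.ResidueField, ← RingHom.comap_ker,
      Ideal.ker_algebraMap_residueField, hcomap]
  let g : p.ResidueField →ₐ[A] q.ResidueField :=
    Ideal.ResidueField.liftₐ p (Algebra.ofId A q.ResidueField) (le_of_eq hker.symm) (by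
      intro a ha
      have h0 : algebraMap A q.ResidueField a ≠ 0 := fun h => ha (hker.le h)
      exact h0.isUnit)
  let G : p.ResidueField ⊗[A] B →ₐ[A] q.ResidueField :=
    Algebra.TensorProduct.lift g (IsScalarTower.toAlgHom A B q.ResidueField) (fun _ _ => Commute.all _ _)
  have h1 : G (1 ⊗ₜ y) = algebraMap B q.ResidueField y := by
    simp [G]
  rw [hy, map_zero] at h1
  have h2 : y ∈ q := by
    rw [← Ideal.algebraMap_residueField_eq_zero]
    exact h1.symm
  exact Set.disjoint_left.mp hdis h2 (Submonoid.mem_sup_right (Submonoid.mem_powers y))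

/-- An element of `B` which is integral in the fibre at `p` satisfies a polynomial equation over
`A` modulo `p`, with leading coefficient outside `p`. -/
theorem exists_poly (b : B) (hb : IsIntegral p.ResidueField ((1 : p.ResidueField) ⊗ₜ[A] b)) :
    ∃ P : A[X], P.leadingCoeff ∉ p ∧ Polynomial.aeval b P ∈ p.map (algebraMap A B) := by
  obtain ⟨μ, hμ, hμ0⟩ := hb
  obtain ⟨c, hc, hQ⟩ := IsLocalization.integerNormalization_spec (nonZeroDivisors (A ⧸ p)) μ
  have hc0 : c ≠ 0 := nonZeroDivisors.ne_zero hc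
  set Q := IsLocalization.integerNormalization (nonZeroDivisors (A ⧸ p)) μ with hQdef
  obtain ⟨P', hP'1, hP'2⟩ := Polynomial.exists_degree_eq_of_mem_lifts (f := Ideal.Quotient.mk p)
    (p := Q) (by
      rw [Polynomial.lifts_iff_coeff_lifts]
      intro n
      exact Ideal.Quotient.mk_surjective _)
  have hinj : Function.Injective (algebraMap (A ⧸ p) p.ResidueField) :=
    Ideal.injective_algebraMap_quotient_residueField p
  have hdeg : Q.degree = μ.degree := by
    rw [← Polynomial.degree_map_eq_of_injective hinj, hQ]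
    rw [algebra_compatible_smul p.ResidueField c μ]
    exact Polynomial.degree_smul_of_smul_regular _ (by
      refine IsSMulRegular.of_ne_zero ?_
      rwa [Ne, map_eq_zero_iff _ hinj])
  have hlc : P'.leadingCoeff ∉ p := by
    intro h
    have h1 : Ideal.Quotient.mk p P'.leadingCoeff = 0 := Ideal.Quotient.eq_zero_iff_mem.mpr h
    have h2 : Q.coeff μ.natDegree = 0 := by
      rw [← hP'1, Polynomial.coeff_map]
      have : P'.natDegree = μ.natDegree := Polynomial.natDegree_eq_of_degree_eq (hP'2.trans hdeg)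
      rw [← this]
      exact h1
    have h3 := congrArg (fun R => Polynomial.coeff R μ.natDegree) hQ
    simp only [Polynomial.coeff_map, h2, map_zero, Polynomial.coeff_smul] at h3
    rw [hμ.coeff_natDegree] at h3
    rw [Algebra.smul_def, mul_one] at h3
    exact hc0 ((map_eq_zero_iff _ hinj).mp h3.symm)
  have hev : (1 : p.ResidueField) ⊗ₜ[A] (Polynomial.aeval b P') = 0 := by
    have h1 : Polynomial.aeval ((1 : p.ResidueField) ⊗ₜ[A] b) P' =
        (1 : p.ResidueField) ⊗ₜ[A] (Polynomial.aeval b P') :=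
      Polynomial.aeval_algHom_apply (Algebra.TensorProduct.includeRight : B →ₐ[A] p.ResidueField ⊗[A] B) b P'
    rw [← h1]
    have h2 : Polynomial.aeval ((1 : p.ResidueField) ⊗ₜ[A] b) (P'.map (algebraMap A p.ResidueField)) = 0 := by
      have h3 : P'.map (algebraMap A p.ResidueField) = c • μ := by
        rw [← hQ, ← hP'1, Polynomial.map_map]
        rfl
      rw [h3]
      rw [algebra_compatible_smul p.ResidueField c μ, map_smul]
      have : Polynomial.aeval ((1 : p.ResidueField) ⊗ₜ[A] b) μ = 0 := hμ0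
      rw [this, smul_zero]
    rwa [Polynomial.aeval_map_algebraMap] at h2
  obtain ⟨s, hs, n, hn⟩ := exists_mul_pow_mem p _ hev
  have hlcn : P'.leadingCoeff ^ n ∉ p := fun h => hlc (hp.mem_of_pow_mem n h)
  have hlcsn : s * P'.leadingCoeff ^ n ∉ p := fun h => (hp.mem_or_mem h).elim hs hlcn
  have h0 : ∀ a : A, a ∉ p → a ≠ 0 := fun a ha h => ha (h ▸ p.zero_mem)
  refine ⟨Polynomial.C s * P' ^ n, ?_, ?_⟩
  · rw [Polynomial.leadingCoeff_mul', Polynomial.leadingCoeff_C, Polynomial.leadingCoeff_pow']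
    · exact hlcsn
    · exact h0 _ hlcn
    · rw [Polynomial.leadingCoeff_C, Polynomial.leadingCoeff_pow' (h0 _ hlcn)]
      exact h0 _ hlcsn
  · rw [map_mul, Polynomial.aeval_C, map_pow]
    exact hn

theorem exists_fg_of_mem_map (p : Ideal A) (y : B) (hy : y ∈ p.map (algebraMap A B)) :
    ∃ I : Ideal A, I.FG ∧ I ≤ p ∧ y ∈ I.map (algebraMap A B) := by
  obtain ⟨T, hT, hyT⟩ := Submodule.mem_span_finite_of_mem_span hy
  classical
  obtain ⟨T', hT', rfl⟩ := Finset.subset_set_image_iff.mp hT
  refine ⟨Ideal.span T', ⟨T', rfl⟩, Ideal.span_le.mpr hT', ?_⟩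
  rw [Ideal.map_span]
  simpa using hyT

theorem ev_finite [Algebra.FiniteType A B] [Algebra.QuasiFinite A B] :
    Ev p (fun (T : Type u) [CommRing T] (φ : A →+* T) =>
      letI := φ.toAlgebra; Module.Finite T (T ⊗[A] B)) := by
  classical
  have hfin : Module.Finite p.ResidueField (p.ResidueField ⊗[A] B) := inferInstance
  have h1 : ∀ b : B, ∃ P : A[X], P.leadingCoeff ∉ p ∧ Polynomial.aeval b P ∈ p.map (algebraMap A B) :=
    fun b => exists_poly p b (Algebra.IsIntegral.isIntegral _)
  obtain ⟨s, hs⟩ := (inferInstance : Algebra.FiniteType A B).out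
  have h2 : ∀ b ∈ s, Ev p (fun (T : Type u) [CommRing T] (φ : A →+* T) =>
      letI := φ.toAlgebra; IsIntegral T ((1 : T) ⊗ₜ[A] b)) := by
    intro b _
    obtain ⟨P, hP, hP'⟩ := h1 b
    obtain ⟨I, hI, hIp, hyI⟩ := exists_fg_of_mem_map p _ hP'
    refine ⟨P.leadingCoeff, hP, I, hI, hIp, fun T _ φ hu hle => ?_⟩
    let _ : Algebra A T := φ.toAlgebra
    change IsIntegral T ((1 : T) ⊗ₜ[A] b)
    cases subsingleton_or_nontrivial T with
    | inl hT =>
      have : Subsingleton (T ⊗[A] B) := Module.subsingleton T _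
      rw [Subsingleton.elim ((1 : T) ⊗ₜ[A] b) 0]
      exact isIntegral_zero
    | inr hT =>
    have h3 : Polynomial.aeval ((1 : T) ⊗ₜ[A] b) (P.map φ) = 0 := by
      have h4 : Polynomial.aeval ((1 : T) ⊗ₜ[A] b) (P.map (algebraMap A T)) =
        (1 : T) ⊗ₜ[A] (Polynomial.aeval b P) := by
        rw [Polynomial.aeval_map_algebraMap]
        exact Polynomial.aeval_algHom_apply (Algebra.TensorProduct.includeRight : B →ₐ[A] T ⊗[A] B) b P
      refine h4.trans ?_
      have h5 : I.map (algebraMap A B) ≤ RingHom.ker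
          (Algebra.TensorProduct.includeRight : B →ₐ[A] T ⊗[A] B).toRingHom := by
        rw [Ideal.map_le_iff_le_comap]
        intro i hi
        change (1 : T) ⊗ₜ[A] (algebraMap A B i) = 0
        rw [Algebra.algebraMap_eq_smul_one, ← TensorProduct.smul_tmul, Algebra.smul_def, mul_one]
        have : algebraMap A T i = 0 := hle hi
        rw [this, TensorProduct.zero_tmul]
      exact h5 hyI
    have hlc : (P.map φ).leadingCoeff = φ P.leadingCoeff :=
      Polynomial.leadingCoeff_map_of_leadingCoeff_ne_zero _ hu.ne_zero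
    have hu' : IsUnit (P.map φ).leadingCoeff := by rwa [hlc]
    refine ⟨hu'.unit⁻¹ • P.map φ, Polynomial.monic_of_isUnit_leadingCoeff_inv_smul hu', ?_⟩
    change Polynomial.aeval ((1 : T) ⊗ₜ[A] b) _ = 0
    rw [Units.smul_def, map_smul, h3, smul_zero]
  refine (Ev.forall_finset s h2).mono fun T _ φ hT => ?_
  let _ : Algebra A T := φ.toAlgebra
  change Module.Finite T (T ⊗[A] B)
  have hT' : ∀ b ∈ s, IsIntegral T ((1 : T) ⊗ₜ[A] b) := hT
  have hint : Algebra.IsIntegral T (T ⊗[A] B) := by
    have h3 := Algebra.TensorProduct.adjoin_one_tmul_image_eq_top (A := T) (s : Set B) hs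
    have h4 : Algebra.IsIntegral T (Algebra.adjoin T ((fun x => (1 : T) ⊗ₜ[A] x) '' (s : Set B))) := by
      apply Algebra.IsIntegral.adjoin
      rintro _ ⟨b, hb, rfl⟩
      exact hT' b hb
    rw [h3] at h4
    exact Algebra.IsIntegral.of_surjective (Subalgebra.topEquiv : (⊤ : Subalgebra T (T ⊗[A] B)) ≃ₐ[T] _).toAlgHom
      (Subalgebra.topEquiv : (⊤ : Subalgebra T (T ⊗[A] B)) ≃ₐ[T] _).surjective
  exact Algebra.IsIntegral.finite

end Finite

end Groth.Agent.EtpbcB.StratAlg
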