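import Groth.Agent.EtpbcB.StratAlg
import Mathlib.AlgebraicGeometry.Limits
import Mathlib.RingTheory.Spectrum.Prime.ConstructibleSet
import Mathlib.AlgebraicGeometry.Morphisms.QuasiFinite
import Mathlib.AlgebraicGeometry.Morphisms.FinitePresentation
import Mathlib.AlgebraicGeometry.Morphisms.Etale
import Mathlib.AlgebraicGeometry.Morphisms.Finite

/-!
# Locally quasi-finite morphisms become finite over a stratum through a given point
-/

set_option autoImplicit false

universe u v w

open CategoryTheory CategoryTheory.Limits AlgebraicGeometry Topology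

open scoped TensorProduct

namespace Groth.Agent.EtpbcB.StratScheme

open Groth.Agent.EtpbcB.StratAlg

/-- A scheme over an affine scheme which is the disjoint union of finitely many schemes finite over
the base is finite over the base. -/
theorem isFinite_of_isColimit_cofan {ι : Type u} [Finite ι] {T : CommRingCat.{u}} {Z : Scheme.{u}}
    (g : Z ⟶ Spec T) (O : ι → Scheme.{u}) (o : ∀ i, O i ⟶ Z)
    (hcolim : Nonempty (IsColimit (Cofan.mk Z o))) (hfin : ∀ i, IsFinite (o i ≫ g)) :
    IsFinite g := by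
  have haff : ∀ i, IsAffine (O i) := fun i => isAffine_of_isAffineHom (o i ≫ g)
  have hex : ∀ i, ∃ ψ : T ⟶ Γ(O i, ⊤), Spec.map ψ = (O i).isoSpec.inv ≫ o i ≫ g := fun i =>
    ⟨Spec.preimage _, Spec.map_preimage _⟩
  choose ψ hψ using hex
  have hψfin : ∀ i, (ψ i).hom.Finite := by
    intro i
    rw [← IsFinite.SpecMap_iff, hψ]
    infer_instance
  let R : ι → CommRingCat.{u} := fun i => Γ(O i, ⊤)
  let Ψ : T ⟶ CommRingCat.of (∀ i, R i) := CommRingCat.ofHom (RingHom.pi fun i => (ψ i).hom)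
  have hΨ : IsFinite (Spec.map Ψ) := by
    rw [IsFinite.SpecMap_iff]
    have h1 : ∀ i, letI := (ψ i).hom.toAlgebra; Module.Finite T (R i) := hψfin
    let _ : ∀ i, Algebra T (R i) := fun i => (ψ i).hom.toAlgebra
    have h2 : Module.Finite T (∀ i, R i) := by
      have : ∀ i, Module.Finite T (R i) := h1
      infer_instance
    change (RingHom.pi fun i => (ψ i).hom).Finite
    have h3 : algebraMap T (∀ i, R i) = RingHom.pi fun i => (ψ i).hom := rfl
    rw [← h3]
    exact RingHom.finite_algebraMap.mpr h2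
  obtain ⟨hc⟩ := hcolim
  let e : (∐ fun i => Spec (R i)) ≅ Z :=
    (Sigma.mapIso fun i => (O i).isoSpec.symm) ≪≫
      IsColimit.coconePointUniqueUpToIso (colimit.isColimit (Discrete.functor O)) hc
  have he : ∀ i, Sigma.ι (fun i => Spec (R i)) i ≫ e.hom = (O i).isoSpec.inv ≫ o i := by
    intro i
    dsimp only [e]
    rw [Iso.trans_hom, Sigma.ι_mapIso_hom_assoc]
    rw [Iso.symm_hom]
    congr 1
    exact IsColimit.comp_coconePointUniqueUpToIso_hom (colimit.isColimit (Discrete.functor O)) hc ⟨i⟩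
  have h3 : e.hom ≫ g = sigmaSpec R ≫ Spec.map Ψ := by
    refine Sigma.hom_ext _ _ fun i => ?_
    rw [← Category.assoc, he, ι_sigmaSpec_assoc, ← Spec.map_comp, Category.assoc, ← hψ]
    rfl
  have h4 : IsFinite (e.hom ≫ g) := by
    rw [h3]
    infer_instance
  rwa [MorphismProperty.cancel_left_of_respectsIso (P := @IsFinite)] at h4

/-- Constructible sets give eventual properties. -/
theorem ev_of_isConstructible {A : Type u} [CommRing A] (p : PrimeSpectrum A)
    (C : Set (PrimeSpectrum A)) (hC : IsConstructible C) (hp : p ∈ C) :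
    Ev p.asIdeal (fun (T : Type u) [CommRing T] (φ : A →+* T) =>
      Set.range (PrimeSpectrum.comap φ) ⊆ C) := by
  obtain ⟨S, rfl⟩ := PrimeSpectrum.exists_constructibleSetData_iff.mpr hC
  simp only [PrimeSpectrum.ConstructibleSetData.toSet, Set.mem_iUnion] at hp
  obtain ⟨D, hD, hp⟩ := hp
  rw [PrimeSpectrum.BasicConstructibleSetData.toSet] at hp
  obtain ⟨hp1, hp2⟩ := hp
  refine ⟨D.f, fun h => hp2 (by rintro _ rfl; exact h), Ideal.span (Set.range D.g), ?_, ?_, ?_⟩
  · exact (Submodule.fg_def).mpr ⟨_, Set.finite_range _, rfl⟩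
  · exact Ideal.span_le.mpr hp1
  · rintro T _ φ hu hle _ ⟨q, rfl⟩
    simp only [PrimeSpectrum.ConstructibleSetData.toSet, Set.mem_iUnion]
    refine ⟨D, hD, ?_⟩
    rw [PrimeSpectrum.BasicConstructibleSetData.toSet]
    refine ⟨?_, ?_⟩
    · rintro _ ⟨i, rfl⟩
      change φ (D.g i) ∈ q.asIdeal
      have : φ (D.g i) = 0 := hle (Ideal.subset_span ⟨i, rfl⟩)
      rw [this]
      exact q.asIdeal.zero_mem
    · intro h
      have h1 : φ D.f ∈ q.asIdeal := h rfl
      exact q.isPrime.ne_top (Ideal.eq_top_of_isUnit_mem _ h1 hu)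

/-- The base change of an affine scheme finite in the sense of rings. -/
theorem isFinite_of_isPullback_affine {A T : Type u} [CommRing A] [CommRing T] {V W : Scheme.{u}} [IsAffine W]
    (j : W ⟶ Spec (.of A)) (φ : A →+* T)
    (ψ : A →+* Γ(W, ⊤)) (hψ : Spec.map (CommRingCat.ofHom ψ) = W.isoSpec.inv ≫ j)
    (a : V ⟶ W) (b : V ⟶ Spec (.of T))
    (h : IsPullback b a (Spec.map (CommRingCat.ofHom φ)) j)
    (hfin : letI := φ.toAlgebra; letI := ψ.toAlgebra; Module.Finite T (T ⊗[A] Γ(W, ⊤))) :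
    IsFinite b := by
  let _ : Algebra A T := φ.toAlgebra
  let _ : Algebra A Γ(W, ⊤) := ψ.toAlgebra
  have sq1 : IsPullback (Spec.map (CommRingCat.ofHom (Algebra.TensorProduct.includeLeftRingHom : T →+* T ⊗[A] Γ(W, ⊤))))
      (Spec.map (CommRingCat.ofHom (Algebra.TensorProduct.includeRight.toRingHom : Γ(W, ⊤) →+* T ⊗[A] Γ(W, ⊤))))
      (Spec.map (CommRingCat.ofHom φ)) (Spec.map (CommRingCat.ofHom ψ)) :=
    isPullback_SpecMap_of_isPushout _ _ _ _ (CommRingCat.isPushout_tensorProduct A T Γ(W, ⊤))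
  have sq2 : IsPullback (Spec.map (CommRingCat.ofHom (Algebra.TensorProduct.includeLeftRingHom : T →+* T ⊗[A] Γ(W, ⊤))))
      (Spec.map (CommRingCat.ofHom (Algebra.TensorProduct.includeRight.toRingHom : Γ(W, ⊤) →+* T ⊗[A] Γ(W, ⊤))) ≫ W.isoSpec.inv)
      (Spec.map (CommRingCat.ofHom φ)) j := by
    refine sq1.of_iso (Iso.refl _) (Iso.refl _) W.isoSpec.symm (Iso.refl _) ?_ ?_ ?_ ?_
    · simp
    · simp
    · simp
    · simp [hψ]
  let e := h.isoIsPullback _ _ sq2
  have he : b = e.hom ≫ Spec.map (CommRingCat.ofHom (Algebra.TensorProduct.includeLeftRingHom : T →+* T ⊗[A] Γ(W, ⊤))) := by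
    rw [IsPullback.isoIsPullback_hom_fst]
  rw [he, MorphismProperty.cancel_left_of_respectsIso (P := @IsFinite), IsFinite.SpecMap_iff]
  exact RingHom.finite_algebraMap.mpr hfin

/-- A locally quasi-finite morphism of finite presentation with affine target is finite over a
locally closed constructible neighbourhood of each point. -/
theorem ev_isFinite {A : Type u} [CommRing A] {U : Scheme.{u}} [CompactSpace U]
    [QuasiSeparatedSpace U] (j : U ⟶ Spec (.of A)) [LocallyQuasiFinite j]
    [LocallyOfFinitePresentation j] (p : PrimeSpectrum A) :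
    Ev p.asIdeal (fun (T : Type u) [CommRing T] (φ : A →+* T) =>
      IsFinite (pullback.snd j (Spec.map (CommRingCat.ofHom φ)))) := by
  classical
  have hqc : QuasiCompact j := HasAffineProperty.iff_of_isAffine.mpr ‹CompactSpace U›
  let y : (Spec (.of A) : Scheme.{u}) := p
  have hfin : (j ⁻¹' {y}).Finite := j.finite_preimage_singleton y
  have hdisc := j.isDiscrete_preimage_singleton y
  have hfin' : Finite (j ⁻¹' {y}) := hfin
  have hW : ∀ u : (j ⁻¹' {y}), ∃ W : U.Opens, IsAffineOpen W ∧ (u : U) ∈ W ∧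
      ∀ v : (j ⁻¹' {y}), (v : U) ∈ W → v = u := by
    intro u
    have h1 : DiscreteTopology (j ⁻¹' {y}) := hdisc.to_subtype
    obtain ⟨O, hO, hOu⟩ := isOpen_induced_iff.mp (isOpen_discrete ({u} : Set (j ⁻¹' {y})))
    have huO : (u : U) ∈ (⟨O, hO⟩ : U.Opens) := by
      have : u ∈ (Subtype.val ⁻¹' O : Set (j ⁻¹' {y})) := by rw [hOu]; rfl
      exact this
    obtain ⟨W, hW, huW, hWO⟩ := exists_isAffineOpen_mem_and_subset huO
    refine ⟨W, hW, huW, fun v hv => ?_⟩
    have : v ∈ (Subtype.val ⁻¹' O : Set (j ⁻¹' {y})) := hWO hv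
    rw [hOu] at this
    exact this
  choose W hWaff huW hWuniq using hW
  have hWaff' : ∀ u, IsAffine (W u).toScheme := hWaff
  -- each piece is eventually finite
  have hex : ∀ u, ∃ ψ : CommRingCat.of A ⟶ Γ(W u, ⊤), Spec.map ψ = (W u).toScheme.isoSpec.inv ≫ (W u).ι ≫ j := by
    intro u
    exact ⟨Spec.preimage _, Spec.map_preimage _⟩
  choose ψ hψ using hex
  have E1 : ∀ u, Ev p.asIdeal (fun (T : Type u) [CommRing T] (φ : A →+* T) =>
      letI := φ.toAlgebra; letI := (ψ u).hom.toAlgebra; Module.Finite T (T ⊗[A] Γ(W u, ⊤))) := by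
    intro u
    let _ : Algebra A Γ(W u, ⊤) := (ψ u).hom.toAlgebra
    have h1 : Algebra.QuasiFinite A Γ(W u, ⊤) := by
      have : LocallyQuasiFinite (Spec.map (ψ u)) := by
        rw [hψ]
        infer_instance
      exact (HasRingHomProperty.Spec_iff (P := @LocallyQuasiFinite)).mp this
    have h2 : Algebra.FiniteType A Γ(W u, ⊤) := by
      have : LocallyOfFiniteType (Spec.map (ψ u)) := by
        rw [hψ]
        infer_instance
      exact (HasRingHomProperty.Spec_iff (P := @LocallyOfFiniteType)).mp this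
    exact ev_finite p.asIdeal
  -- the pieces are eventually disjoint
  have hWc : ∀ u, IsConstructible (W u : Set U) := fun u =>
    (hWaff u).isCompact.isConstructible (W u).isOpen
  have E2 : ∀ u : (j ⁻¹' {y}) × (j ⁻¹' {y}), Ev p.asIdeal (fun (T : Type u) [CommRing T] (φ : A →+* T) =>
      u.1 ≠ u.2 → Set.range (PrimeSpectrum.comap φ) ⊆ (j '' ((W u.1 : Set U) ∩ (W u.2 : Set U)))ᶜ) := by
    rintro ⟨u, v⟩
    by_cases huv : u = v
    · exact Ev.of_forall fun T _ φ h => absurd huv h
    · refine (ev_of_isConstructible p ((j '' ((W u : Set U) ∩ (W v : Set U)))ᶜ) ?_ ?_).mono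
        fun T _ φ h _ => h
      · exact (j.isConstructible_image ((hWc u).inter (hWc v))).compl
      · rintro ⟨z, ⟨hz1, hz2⟩, hz3⟩
        have h1 := hWuniq u ⟨z, hz3⟩ hz1
        have h2 := hWuniq v ⟨z, hz3⟩ hz2
        exact huv (h1.symm.trans h2)
  -- the pieces eventually cover
  have E3 : Ev p.asIdeal (fun (T : Type u) [CommRing T] (φ : A →+* T) =>
      Set.range (PrimeSpectrum.comap φ) ⊆ (j '' (⋃ u, (W u : Set U))ᶜ)ᶜ) := by
    refine ev_of_isConstructible p _ ?_ ?_
    · exact (j.isConstructible_image (IsConstructible.iUnion hWc).compl).compl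
    · rintro ⟨z, hz, hz3⟩
      exact hz (Set.mem_iUnion.mpr ⟨⟨z, hz3⟩, huW _⟩)
  refine (((Ev.forall_finite E1).and (Ev.forall_finite E2)).and E3).mono ?_
  rintro T _ φ ⟨⟨H1, H2⟩, H3⟩
  let Z := pullback j (Spec.map (CommRingCat.ofHom φ))
  let O : (j ⁻¹' {y}) → Z.Opens := fun u => (pullback.fst j (Spec.map (CommRingCat.ofHom φ))) ⁻¹ᵁ (W u)
  have hrange : ∀ z : Z, j (pullback.fst j (Spec.map (CommRingCat.ofHom φ)) z) ∈ Set.range (PrimeSpectrum.comap φ) := by
    intro z
    refine ⟨pullback.snd j (Spec.map (CommRingCat.ofHom φ)) z, ?_⟩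
    change Spec.map (CommRingCat.ofHom φ) (pullback.snd j (Spec.map (CommRingCat.ofHom φ)) z) = _
    rw [← Scheme.Hom.comp_apply, ← pullback.condition, Scheme.Hom.comp_apply]
  refine isFinite_of_isColimit_cofan _ (fun u => (O u).toScheme) (fun u => (O u).ι)
    (nonempty_isColimit_cofanMk_of _ ?_ ?_) ?_
  · rw [eq_top_iff]
    intro z _
    have h1 := H3 (hrange z)
    have h2 : pullback.fst j (Spec.map (CommRingCat.ofHom φ)) z ∈ ⋃ u, (W u : Set U) := by
      by_contra h
      exact h1 ⟨_, h, rfl⟩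
    obtain ⟨u, hu⟩ := Set.mem_iUnion.mp h2
    refine TopologicalSpace.Opens.mem_iSup.mpr ⟨u, ?_⟩
    rw [Scheme.Opens.opensRange_ι]
    exact hu
  · intro u v huv
    change Disjoint ((O u).ι.opensRange) ((O v).ι.opensRange)
    rw [Scheme.Opens.opensRange_ι, Scheme.Opens.opensRange_ι]
    rw [disjoint_iff]
    apply TopologicalSpace.Opens.ext
    apply Set.eq_empty_of_forall_notMem
    rintro z ⟨hz1, hz2⟩
    exact H2 (u, v) huv (hrange z) ⟨_, ⟨hz1, hz2⟩, rfl⟩
  · intro u
    refine isFinite_of_isPullback_affine ((W u).ι ≫ j) φ (ψ u).hom ?_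
      ((pullback.fst j (Spec.map (CommRingCat.ofHom φ))) ∣_ (W u)) _ ?_ (H1 u)
    · exact hψ u
    · exact (isPullback_morphismRestrict _ _).flip.paste_horiz (IsPullback.of_hasPullback j _).flip

end Groth.Agent.EtpbcB.StratScheme
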