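import Mathlib.Topology.Spectral.ConstructibleTopology
import Mathlib.Topology.Constructible

/-!
# Finite constructible partitions subordinate to a property of locally closed sets
-/

set_option autoImplicit false

universe u v w

open Topology

namespace Groth.Agent.EtpbcB.StratTop

/-- On a spectral space (qcqs scheme), if each point has a locally closed constructible
neighbourhood satisfying a property which is inherited by locally closed subsets, then the space has
a finite partition into constructible locally closed subsets satisfying the property. -/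
theorem exists_partition {X : Type u} [TopologicalSpace X] [CompactSpace X] [QuasiSober X]
    [PrespectralSpace X] [QuasiSeparatedSpace X] (P : Set X → Prop)
    (hP : ∀ S V C : Set X, IsOpen V → IsClosed C → P S → P (S ∩ V ∩ C))
    (h : ∀ x : X, ∃ O O' : Set X, IsOpen O ∧ IsCompact O ∧ IsOpen O' ∧ IsCompact O' ∧ x ∈ O ∧
      x ∉ O' ∧ P (O \ O')) :
    ∃ (n : ℕ) (S : Fin n → Set X), (∀ i, IsConstructible (S i)) ∧
      Pairwise (fun i i' => Disjoint (S i) (S i')) ∧ (⋃ i, S i) = Set.univ ∧ ∀ i, P (S i) := by
  classical
  choose O O' hO hOc hO' hOc' hxO hxO' hPO using h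
  obtain ⟨F, hF⟩ : ∃ F : Finset X, (⋃ x ∈ F, (O x \ O' x)) = Set.univ := by
    have hcomp : CompactSpace (WithConstructibleTopology X) := inferInstance
    have hopen : ∀ x : X, IsOpen (WithTopology.toTopology (constructibleTopology X) ''
        (O x \ O' x) : Set (WithConstructibleTopology X)) := by
      intro x
      rw [WithConstructibleTopology.isOpen_iff,
        Set.preimage_image_eq _ (WithTopology.toTopology_injective _), Set.sdiff_eq]
      exact @TopologicalSpace.isOpen_inter X (constructibleTopology X) _ _
        ((hOc x).isOpen_constructibleTopology_of_isOpen (hO x))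
        (IsCompact.isOpen_constructibleTopology_of_isClosed (by rw [compl_compl]; exact hOc' x)
          (hO' x).isClosed_compl)
    obtain ⟨F, hF⟩ := isCompact_univ.elim_finite_subcover _ hopen (by
      intro y _
      refine Set.mem_iUnion.mpr ⟨WithTopology.ofTopology y, _, ⟨hxO _, hxO' _⟩, ?_⟩
      simp)
    refine ⟨F, Set.eq_univ_iff_forall.mpr fun x => ?_⟩
    have h1 := hF (Set.mem_univ (WithTopology.toTopology (constructibleTopology X) x))
    obtain ⟨u, hu⟩ := Set.mem_iUnion.mp h1
    obtain ⟨huF, x', hx', hxx'⟩ := Set.mem_iUnion.mp hu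
    rw [WithTopology.toTopology_inj] at hxx'
    subst hxx'
    exact Set.mem_biUnion huF hx'
  let κ : X → (F → Prop × Prop) := fun x u => (x ∈ O u, x ∈ O' u)
  have hfin : Finite (Set.range κ) := inferInstance
  obtain ⟨n, ⟨e⟩⟩ := Finite.exists_equiv_fin (Set.range κ)
  refine ⟨n, fun i => κ ⁻¹' {(e.symm i : F → Prop × Prop)}, ?_, ?_, ?_, ?_⟩
  · intro i
    have hc : ∀ v : X, IsConstructible (O v) := fun v => (hOc v).isConstructible (hO v)
    have hc' : ∀ v : X, IsConstructible (O' v) := fun v => (hOc' v).isConstructible (hO' v)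
    have key : κ ⁻¹' {(e.symm i : F → Prop × Prop)} =
        ⋂ v : F, ({y | y ∈ O v ↔ ((e.symm i : F → Prop × Prop) v).1} ∩
          {y | y ∈ O' v ↔ ((e.symm i : F → Prop × Prop) v).2}) := by
      ext y
      rw [Set.mem_iInter]
      constructor
      · intro hy v
        have := congrFun hy v
        exact ⟨iff_of_eq (congrArg Prod.fst this), iff_of_eq (congrArg Prod.snd this)⟩
      · intro hy
        funext v
        exact Prod.ext (propext (hy v).1) (propext (hy v).2)
    change IsConstructible (κ ⁻¹' {(e.symm i : F → Prop × Prop)})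
    rw [key]
    refine IsConstructible.iInter fun v => IsConstructible.inter ?_ ?_
    · by_cases h : ((e.symm i : F → Prop × Prop) v).1
      · simpa [h] using hc v
      · simp only [h, iff_false]
        exact (hc v).compl
    · by_cases h : ((e.symm i : F → Prop × Prop) v).2
      · simpa [h] using hc' v
      · simp only [h, iff_false]
        exact (hc' v).compl
  · intro i i' hii'
    rw [Set.disjoint_left]
    intro x hx hx'
    apply hii'
    apply e.symm.injective
    apply Subtype.ext
    exact hx.symm.trans hx'
  · rw [Set.eq_univ_iff_forall]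
    intro x
    refine Set.mem_iUnion.mpr ⟨e ⟨κ x, x, rfl⟩, ?_⟩
    simp
  · intro i
    obtain ⟨x, hx⟩ := (e.symm i).2
    obtain ⟨u, hu, hxu⟩ : ∃ u ∈ F, x ∈ O u \ O' u := by
      have : x ∈ (⋃ x ∈ F, (O x \ O' x)) := by rw [hF]; trivial
      obtain ⟨u, hu, h⟩ := Set.mem_iUnion₂.mp this
      exact ⟨u, hu, h⟩
    change P (κ ⁻¹' {(e.symm i : F → Prop × Prop)})
    rw [← hx]
    have key : κ ⁻¹' {κ x} = (O u \ O' u) ∩ (⋂ v : F, ({y | x ∈ O v → y ∈ O v} ∩ {y | x ∈ O' v → y ∈ O' v})) ∩
        (⋂ v : F, ({y | x ∉ O v → y ∉ O v} ∩ {y | x ∉ O' v → y ∉ O' v})) := by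
      ext y
      constructor
      · intro hy
        have hy' : ∀ v : F, (y ∈ O v ↔ x ∈ O v) ∧ (y ∈ O' v ↔ x ∈ O' v) := by
          intro v
          have := congrFun hy v
          exact ⟨iff_of_eq (congrArg Prod.fst this), iff_of_eq (congrArg Prod.snd this)⟩
        refine ⟨⟨⟨(hy' ⟨u, hu⟩).1.mpr hxu.1, fun h => hxu.2 ((hy' ⟨u, hu⟩).2.mp h)⟩, ?_⟩, ?_⟩
        · refine Set.mem_iInter.mpr fun v => ⟨fun h => (hy' v).1.mpr h, fun h => (hy' v).2.mpr h⟩
        · refine Set.mem_iInter.mpr fun v => ⟨fun h h2 => h ((hy' v).1.mp h2), fun h h2 => h ((hy' v).2.mp h2)⟩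
      · rintro ⟨⟨_, h1⟩, h2⟩
        have h1' := fun v => Set.mem_iInter.mp h1 v
        have h2' := fun v => Set.mem_iInter.mp h2 v
        funext v
        refine Prod.ext (propext ⟨fun h => ?_, fun h => (h1' v).1 h⟩) (propext ⟨fun h => ?_, fun h => (h1' v).2 h⟩)
        · by_contra hx'
          exact (h2' v).1 hx' h
        · by_contra hx'
          exact (h2' v).2 hx' h
    rw [key]
    refine hP _ _ _ ?_ ?_ (hPO u)
    · refine isOpen_iInter_of_finite fun v => ?_
      refine IsOpen.inter ?_ ?_
      · by_cases h : x ∈ O v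
        · simpa [h] using hO v
        · simp [h]
      · by_cases h : x ∈ O' v
        · simpa [h] using hO' v
        · simp [h]
    · refine isClosed_iInter fun v => ?_
      refine IsClosed.inter ?_ ?_
      · by_cases h : x ∈ O v
        · simp [h]
        · simp only [h, not_false_eq_true, forall_true_left]
          exact (hO v).isClosed_compl
      · by_cases h : x ∈ O' v
        · simp [h]
        · simp only [h, not_false_eq_true, forall_true_left]
          exact (hO' v).isClosed_compl

end Groth.Agent.EtpbcB.StratTop
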