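import Groth.Prelude.Def_PBC
import Groth.Agent.EtpbcA.FLC
import Groth.Agent.EtpbcA.ConsVan
import Groth.Agent.EtpbcA.StalkTools
import Groth.Agent.EtpbcA.StrataGlob
import Groth.Agent.EtpbcA.ConstrTop
import Groth.Agent.EtpbcA.PullFLC
import Groth.Agent.Etbase.EtSite

/-!
# The locus where a map of constructible sheaves is surjective on stalks

* `SurjPt ψ x` : the map `ψ` is surjective near `x` étale locally (pointwise form, no geometric
  points); `surjective_stalk_iff` compares with geometric stalks.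
* `surjPt_pull_iff` : behaviour under inverse images.
* `exists_open_surjPt_iff` : for finite locally constant sheaves the locus is open and closed.
* `isConstructible_surjPt` : for constructible sheaves on a qcqs scheme it is constructible.
-/

set_option autoImplicit false
universe u
open CategoryTheory CategoryTheory.Limits AlgebraicGeometry Opposite Topology

namespace Groth.Agent.EtpbcB.SurjLocus

open Groth.Agent.EtpbcA Groth.Agent.Etbase

section Top

variable {Y : Type*} [TopologicalSpace Y]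

/-- A relatively clopen subset of a constructible set in a spectral space is constructible. -/
theorem isConstructible_of_cover [CompactSpace Y] [QuasiSober Y] [PrespectralSpace Y]
    [QuasiSeparatedSpace Y] {D E : Set Y} (hD : IsConstructible D) (O₁ O₂ : Set Y)
    (h1 : IsOpen O₁) (h2 : IsOpen O₂) (hE1 : D ∩ E ⊆ O₁) (hE2 : D \ E ⊆ O₂)
    (hd1 : D ∩ O₁ ⊆ E) (hd2 : D ∩ O₂ ⊆ Eᶜ) : IsConstructible (D ∩ E) := by
  have hDc : IsCompact D := ConstrTop.isCompact_of_isConstructible hD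
  obtain ⟨s1, hs1, e1⟩ := PrespectralSpace.isTopologicalBasis (X := Y) |>.open_eq_sUnion h1
  obtain ⟨s2, hs2, e2⟩ := PrespectralSpace.isTopologicalBasis (X := Y) |>.open_eq_sUnion h2
  have hcov : D ⊆ ⋃ V : ((s1 ∪ s2 : Set (Set Y)) : Type _), (V : Set Y) := by
    intro x hx
    rw [← Set.sUnion_eq_iUnion, Set.sUnion_union, ← e1, ← e2]
    by_cases hxE : x ∈ E
    · exact Or.inl (hE1 ⟨hx, hxE⟩)
    · exact Or.inr (hE2 ⟨hx, hxE⟩)
  obtain ⟨t, htc⟩ := hDc.elim_finite_subcover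
    (fun V : ((s1 ∪ s2 : Set (Set Y)) : Type _) => (V : Set Y)) (fun V => by
      rcases V.2 with hV | hV
      · exact (hs1 hV).1
      · exact (hs2 hV).1) hcov
  have hE : D ∩ E = D ∩ ⋃ V ∈ {V : ((s1 ∪ s2 : Set (Set Y)) : Type _) | V ∈ t ∧ (V : Set Y) ∈ s1},
      (V : Set Y) := by
    ext x
    constructor
    · rintro ⟨hx, hxE⟩
      obtain ⟨V, hV, hxV⟩ := Set.mem_iUnion₂.1 (htc hx)
      refine ⟨hx, Set.mem_iUnion₂.2 ⟨V, ⟨hV, ?_⟩, hxV⟩⟩
      rcases V.2 with h | h
      · exact h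
      · exfalso
        refine hd2 ⟨hx, ?_⟩ hxE
        rw [e2]
        exact ⟨V, h, hxV⟩
    · rintro ⟨hx, hx'⟩
      obtain ⟨V, ⟨hV, hV1⟩, hxV⟩ := Set.mem_iUnion₂.1 hx'
      refine ⟨hx, hd1 ⟨hx, ?_⟩⟩
      rw [e1]
      exact ⟨V, hV1, hxV⟩
  rw [hE]
  refine hD.inter (IsConstructible.biUnion (t.finite_toSet.subset fun V hV => hV.1) fun V hV => ?_)
  exact (hs1 hV.2).2.isConstructible (hs1 hV.2).1

end Top

variable {X : Scheme.{u}} {F G : EtCoh.Ab X}

/-- `φ` is surjective étale locally at the point `x` of `X`. -/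
def SurjPt (φ : F ⟶ G) (x : X) : Prop :=
  ∀ (U : X.Etale) (u : U.left), U.hom u = x → ∀ s : EtCoh.sect G U, StalkTools.LocIm φ s u

/-- Comparison with geometric stalks. -/
theorem surjective_stalk_iff (φ : F ⟶ G) {Ω : Type u} [Field Ω] [IsSepClosed Ω]
    (ξ : Spec (CommRingCat.of Ω) ⟶ X) :
    Function.Surjective ((EtCoh.stalk ξ).map φ) ↔ SurjPt φ (ξ default) := by
  constructor
  · intro h U u hu s
    obtain ⟨l, hl, hl'⟩ := Scheme.exists_fac_of_etale_of_isSepClosed U.hom ξ u hu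
    let t : (Scheme.pointSmallEtale ξ).fiber.obj U := Over.homMk l hl
    have ht : StalkTools.fibPt ξ t = u := hl'
    rw [← ht, StalkTools.locIm_iff]
    exact h _
  · intro h p
    obtain ⟨U, t, s, rfl⟩ := StalkTools.germ_surj ξ p
    rw [← StalkTools.locIm_iff]
    exact h U _ (Germ.hom_pt ξ t) s

theorem range_eq_singleton_iff {Ω : Type u} [Field Ω]
    (ξ : Spec (CommRingCat.of Ω) ⟶ X) (x : X) : Set.range ξ = {x} ↔ ξ default = x := by
  constructor
  · intro h
    have : ξ default ∈ Set.range ξ := ⟨_, rfl⟩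
    rw [h] at this
    exact this
  · rintro rfl
    ext y
    constructor
    · rintro ⟨z, rfl⟩
      rw [Subsingleton.elim z default]
      rfl
    · rintro rfl
      exact ⟨_, rfl⟩

/-- The condition of the statement in terms of `SurjPt`. -/
theorem forall_geom_iff (φ : F ⟶ G) (x : X) :
    (∀ (Ω : Type u) [Field Ω] [IsSepClosed Ω] (ξ : Spec (CommRingCat.of Ω) ⟶ X),
      Set.range ξ = {x} → Function.Surjective ((EtCoh.stalk ξ).map φ)) ↔ SurjPt φ x := by
  constructor
  · intro h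
    obtain ⟨Ω, _, _, ξ, rfl⟩ := StalkTools.exists_geomPt x
    rw [← surjective_stalk_iff]
    exact h Ω ξ ((range_eq_singleton_iff ξ _).2 rfl)
  · intro h Ω _ _ ξ hξ
    rw [surjective_stalk_iff, (range_eq_singleton_iff ξ x).1 hξ]
    exact h

/-- Behaviour under inverse images. -/
theorem surjPt_pull_iff {T : Scheme.{u}} (k : T ⟶ X) (φ : F ⟶ G) (t : T) :
    SurjPt ((EtCoh.pull k).map φ) t ↔ SurjPt φ (k t) := by
  obtain ⟨Ω, _, _, ξ, rfl⟩ := StalkTools.exists_geomPt t
  rw [← surjective_stalk_iff, StalkTools.stalk_pull_surjective_iff, surjective_stalk_iff,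
    Scheme.Hom.comp_apply]

/-- For finite locally constant sheaves the locus of surjectivity is open and closed. -/
theorem exists_open_surjPt_iff (hF : EtCoh.IsFiniteLocallyConstant F)
    (hG : EtCoh.IsFiniteLocallyConstant G) (φ : F ⟶ G) (x : X) :
    ∃ O : Set X, IsOpen O ∧ x ∈ O ∧ ∀ y ∈ O, SurjPt φ y ↔ SurjPt φ x := by
  obtain ⟨U, u, M, _, _, α, hu, hα⟩ := (FLC.flc_iff F).1 hF x
  obtain ⟨V, v, N, _, _, β, hv, hβ⟩ := (FLC.flc_iff G).1 hG x
  obtain ⟨W, a, b, w, ha, hb⟩ : ∃ (W : X.Etale) (a : W ⟶ U) (b : W ⟶ V) (w : W.left),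
      a.left w = u ∧ b.left w = v := by
    obtain ⟨Ω, _, _, ξ, hξ⟩ := StalkTools.exists_geomPt x
    obtain ⟨l, hl, hl'⟩ := Scheme.exists_fac_of_etale_of_isSepClosed U.hom ξ u (hu.trans hξ.symm)
    obtain ⟨m, hm, hm'⟩ := Scheme.exists_fac_of_etale_of_isSepClosed V.hom ξ v (hv.trans hξ.symm)
    obtain ⟨W, a, b, w, ha, hb⟩ := Germ.exists_common ξ U V (Over.homMk l hl) (Over.homMk m hm)
    refine ⟨W, a, b, Germ.pt ξ w, ?_, ?_⟩
    · rw [← Germ.pt_fmap, ha]
      exact hl'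
    · rw [← Germ.pt_fmap, hb]
      exact hm'
  -- restrict both trivializations to `W`
  have hα' := hα.res a
  have hβ' := hβ.res b
  set α' := (Germ.res F a).comp α with hα'_def
  set β' := (Germ.res G b).comp β with hβ'_def
  have key : ∀ m : M, ∃ (W' : X.Etale) (g : W' ⟶ W) (w' : W'.left), g.left w' = w ∧
      ∃ n : N, Germ.ev φ W' (Germ.res F g (α' m)) = Germ.res G g (β' n) := by
    intro m
    obtain ⟨W', k, w', n, hw', e⟩ := hβ'.surjective (𝟙 W) w (Germ.ev φ W (α' m))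
    refine ⟨W', k, w', hw', n, ?_⟩
    rw [Germ.ev_res, e, Category.comp_id]
  obtain ⟨W', g, w', hw', hk⟩ := ConsVan.exists_common_finite w
    (fun (m : M) (W' : X.Etale) (g : W' ⟶ W) =>
      ∃ n : N, Germ.ev φ W' (Germ.res F g (α' m)) = Germ.res G g (β' n))
    (by
      rintro m V₁ V₂ g k ⟨n, hn⟩
      exact ⟨n, by rw [Germ.res_comp, Germ.res_comp, Germ.ev_res, hn]⟩) key
  choose h hh using hk
  -- over `W'` the map is `h : M → N`
  have hstalk : ∀ y : W'.left, SurjPt φ (W'.hom y) ↔ Function.Surjective h := by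
    intro y
    obtain ⟨Ω, _, _, ξ, t, rfl⟩ := Germ.exists_geomPt (X := X) (U := W') y
    rw [Germ.hom_pt, ← surjective_stalk_iff]
    have hA := (hα'.res g) Ω ξ t
    have hB := (hβ'.res g) Ω ξ t
    have hcomm : ∀ m, (EtCoh.stalk ξ).map φ (Germ.germ ξ F t (((Germ.res F g).comp α') m)) =
        Germ.germ ξ G t (((Germ.res G g).comp β') (h m)) := by
      intro m
      rw [Germ.germ_map]
      congr 1
      exact hh m
    constructor
    · intro hs n
      obtain ⟨p, hp⟩ := hs (Germ.germ ξ G t (((Germ.res G g).comp β') n))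
      obtain ⟨m, rfl⟩ := hA.2 p
      refine ⟨m, hB.1 ?_⟩
      exact (hcomm m).symm.trans hp
    · intro hs q
      obtain ⟨n, rfl⟩ := hB.2 q
      obtain ⟨m, rfl⟩ := hs n
      exact ⟨_, hcomm m⟩
  have hW'x : W'.hom w' = x := by
    have h1 : g.left ≫ W.hom = W'.hom := Over.w g.hom
    have h2 : a.left ≫ U.hom = W.hom := Over.w a.hom
    rw [← h1, Scheme.Hom.comp_apply, hw', ← h2, Scheme.Hom.comp_apply, ha, hu]
  refine ⟨Set.range W'.hom, ?_, ⟨w', hW'x⟩, ?_⟩
  · have : Etale W'.hom := W'.prop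
    exact (Scheme.Hom.isOpenMap W'.hom).isOpen_range
  · rintro _ ⟨y, rfl⟩
    rw [hstalk y, ← hW'x, hstalk w']

/-- The locus of surjectivity of a map of constructible sheaves on a qcqs scheme is
constructible. -/
theorem isConstructible_surjPt [CompactSpace X] [QuasiSeparatedSpace X] (φ : F ⟶ G)
    (hF : EtPBC.IsConstructible F) (hG : EtPBC.IsConstructible G) :
    IsConstructible {x : X | SurjPt φ x} := by
  obtain ⟨n, T, g, hg1, hg2, -, hg4, hg5⟩ := (StrataGlob.isConstructible_iff_univ F).1 hF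
  obtain ⟨n', T', g', hg1', hg2', -, hg4', hg5'⟩ := (StrataGlob.isConstructible_iff_univ G).1 hG
  have hcon : ∀ R : Set X, IsConstructible ((Subtype.val : ((Set.univ : Set X) : Type u) → X) ⁻¹' R) →
      IsConstructible R := by
    intro R hR
    have := hR.image_of_isOpenEmbedding isOpen_univ.isOpenEmbedding_subtypeVal (by simp)
    rwa [Subtype.image_preimage_coe, Set.univ_inter] at this
  have hcov : {x : X | SurjPt φ x} = ⋃ p : Fin n × Fin n',
      ((Set.range (g p.1) ∩ Set.range (g' p.2)) ∩ {x : X | SurjPt φ x} : Set X) := by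
    ext x
    simp only [Set.mem_iUnion, Set.mem_inter_iff]
    constructor
    · intro hx
      have h1 : x ∈ ⋃ i, Set.range (g i) := by rw [hg4]; trivial
      have h2 : x ∈ ⋃ i, Set.range (g' i) := by rw [hg4']; trivial
      obtain ⟨i, hi⟩ := Set.mem_iUnion.1 h1
      obtain ⟨j, hj⟩ := Set.mem_iUnion.1 h2
      exact ⟨(i, j), ⟨hi, hj⟩, hx⟩
    · rintro ⟨-, -, hx⟩
      exact hx
  rw [hcov]
  refine IsConstructible.iUnion fun p => ?_
  have := hg1 p.1
  have := hg1' p.2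
  let P : Scheme.{u} := pullback (g p.1) (g' p.2)
  let k : P ⟶ X := pullback.fst (g p.1) (g' p.2) ≫ g p.1
  have hk : IsImmersion k := inferInstance
  have hkr : Set.range k = Set.range (g p.1) ∩ Set.range (g' p.2) := by
    exact Scheme.Pullback.range_fst_comp (g p.1) (g' p.2)
  have hFk : EtCoh.IsFiniteLocallyConstant ((EtCoh.pull k).obj F) :=
    Strata.isFLC_comp (g p.1) (pullback.fst (g p.1) (g' p.2)) F (hg5 p.1)
  have hGk : EtCoh.IsFiniteLocallyConstant ((EtCoh.pull k).obj G) := by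
    have hk' : k = pullback.snd (g p.1) (g' p.2) ≫ g' p.2 := pullback.condition
    rw [hk']
    exact Strata.isFLC_comp (g' p.2) (pullback.snd (g p.1) (g' p.2)) G (hg5' p.2)
  have hemb : IsEmbedding k := k.isEmbedding
  let E : Set X := {x : X | SurjPt φ x}
  have hloc : ∀ t : P, ∃ O : Set X, IsOpen O ∧ k t ∈ O ∧
      ∀ y ∈ O ∩ Set.range k, SurjPt φ y ↔ SurjPt φ (k t) := by
    intro t
    obtain ⟨O, hO, htO, h⟩ := exists_open_surjPt_iff hFk hGk ((EtCoh.pull k).map φ) t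
    obtain ⟨O', hO', rfl⟩ := hemb.isOpen_iff.1 hO
    refine ⟨O', hO', htO, ?_⟩
    rintro _ ⟨hy, z, rfl⟩
    rw [← surjPt_pull_iff k φ z, ← surjPt_pull_iff k φ t]
    exact h z hy
  choose O hO htO hOE using hloc
  rw [← hkr]
  refine isConstructible_of_cover (E := E) (D := Set.range k) ?_
    (⋃ (t : P) (_ : SurjPt φ (k t)), O t) (⋃ (t : P) (_ : ¬ SurjPt φ (k t)), O t)
    (isOpen_iUnion fun t => isOpen_iUnion fun _ => hO t)
    (isOpen_iUnion fun t => isOpen_iUnion fun _ => hO t) ?_ ?_ ?_ ?_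
  · rw [hkr]
    exact (hcon _ (hg2 p.1)).inter (hcon _ (hg2' p.2))
  · rintro _ ⟨⟨t, rfl⟩, ht⟩
    exact Set.mem_iUnion₂.2 ⟨t, ht, htO t⟩
  · rintro _ ⟨⟨t, rfl⟩, ht⟩
    exact Set.mem_iUnion₂.2 ⟨t, ht, htO t⟩
  · rintro y ⟨hy, hy'⟩
    obtain ⟨t, ht, hyt⟩ := Set.mem_iUnion₂.1 hy'
    exact (hOE t y ⟨hyt, hy⟩).2 ht
  · rintro y ⟨hy, hy'⟩
    obtain ⟨t, ht, hyt⟩ := Set.mem_iUnion₂.1 hy'
    exact fun h => ht ((hOE t y ⟨hyt, hy⟩).1 h)

end Groth.Agent.EtpbcB.SurjLocus
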