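import Mathlib.RingTheory.Etale.Weakly
import Mathlib.RingTheory.Ideal.Pure
import Mathlib.Algebra.Algebra.Epi
import Mathlib.RingTheory.RingHom.Flat
import Mathlib.RingTheory.Flat.FaithfullyFlat.Algebra
import Mathlib.FieldTheory.Separable
import Mathlib.LinearAlgebra.Charpoly.Basic

/-!
# Weakly etale algebras, part 1

* cancellation (Stacks 092C, 092K),
* weakly etale algebras over a field are reduced and all elements are separable algebraic
  (Stacks 092Q).
-/

set_option autoImplicit false
universe u

open TensorProduct

namespace Groth.Agent.EtpbcB.WeaklyEtale1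

/-- Stacks 092C for algebras: if `B ⊗[A] B → B` is flat and `C` is a `B`-algebra which is flat
over `A`, then `C` is flat over `B`. -/
theorem flat_of_flat_lmul' (A B C : Type u) [CommRing A] [CommRing B] [CommRing C]
    [Algebra A B] [Algebra B C] [Algebra A C] [IsScalarTower A B C]
    (h : (Algebra.TensorProduct.lmul' A (S := B)).Flat) [Module.Flat A C] : Module.Flat B C := by
  have h1 := h.mapOfCompatibleSMul B C
  have h2 : Module.Flat B (B ⊗[A] C) := inferInstance
  have h3 : (algebraMap B (B ⊗[A] C)).Flat := RingHom.flat_algebraMap_iff.2 h2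
  have h4 := RingHom.Flat.comp h3 h1
  have h5 := RingHom.Flat.comp h4 (RingHom.Flat.of_bijective (Algebra.TensorProduct.lid B C).bijective)
  rw [← RingHom.flat_algebraMap_iff]
  convert h5 using 1
  ext x
  simp

/-- flatness descends along surjections (for algebras) -/
theorem flat_of_surjective (A B C : Type u) [CommRing A] [CommRing B] [CommRing C]
    [Algebra A B] [Algebra B C] [Algebra A C] [IsScalarTower A B C]
    (hs : Function.Surjective (algebraMap A B)) [Module.Flat A C] : Module.Flat B C := by
  refine flat_of_flat_lmul' A B C ?_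
  have : Algebra.IsEpi A B := Algebra.isEpi_of_surjective_algebraMap A B hs
  refine RingHom.Flat.of_bijective ⟨?_, ?_⟩
  · have h1 := this.injective_lift_mul
    have : ⇑(Algebra.TensorProduct.lmul' A (S := B)) = ⇑(TensorProduct.lift (LinearMap.mul A B)) := by
      ext x
      induction x with
      | zero => simp
      | tmul x y => simp
      | add x y hx hy => simp [hx, hy]
    exact this ▸ h1
  · intro b
    exact ⟨b ⊗ₜ 1, by simp⟩

theorem ringHom_flat_of_comp_surjective {A B C : Type u} [CommRing A] [CommRing B] [CommRing C]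
    (f : A →+* B) (g : B →+* C) (hf : Function.Surjective f) (h : (g.comp f).Flat) : g.Flat := by
  algebraize [f, g, g.comp f]
  exact flat_of_surjective A B C hf

/-- If `C ⊗[A] C → C` is flat then so is `C ⊗[B] C → C` for an intermediate ring. -/
theorem flat_lmul'_of_tower (A B C : Type u) [CommRing A] [CommRing B] [CommRing C]
    [Algebra A B] [Algebra B C] [Algebra A C] [IsScalarTower A B C]
    (h : (Algebra.TensorProduct.lmul' A (S := C)).Flat) :
    (Algebra.TensorProduct.lmul' B (S := C)).Flat := by
  let φ : C ⊗[A] C →ₐ[C] C ⊗[B] C := Algebra.TensorProduct.mapOfCompatibleSMul B A C C C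
  have hφ : Function.Surjective φ := Algebra.TensorProduct.mapOfCompatibleSMul_surjective B A C C C
  refine ringHom_flat_of_comp_surjective φ.toRingHom _ hφ ?_
  have : ((Algebra.TensorProduct.lmul' B (S := C)).toRingHom.comp φ.toRingHom) =
      (Algebra.TensorProduct.lmul' A (S := C)).toRingHom := by
    ext x <;> simp [φ]
  change RingHom.Flat ((Algebra.TensorProduct.lmul' B (S := C)).toRingHom.comp φ.toRingHom)
  rw [this]
  exact h

/-- cancellation for weakly etale algebras (Stacks 092K) -/
theorem weaklyEtale_of_tower (A B C : Type u) [CommRing A] [CommRing B] [CommRing C]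
    [Algebra A B] [Algebra B C] [Algebra A C] [IsScalarTower A B C]
    (h : (Algebra.TensorProduct.lmul' A (S := B)).Flat) [Algebra.WeaklyEtale A C] :
    Algebra.WeaklyEtale B C where
  flat := flat_of_flat_lmul' A B C h
  flat_lmul' := flat_lmul'_of_tower A B C (Algebra.WeaklyEtale.flat_lmul' A C)

/-- Over an algebra `B` with `B ⊗[A] B → B` flat, where `A` is a field, every quotient of `B` is flat. -/
theorem pure_of_field (K B : Type u) [Field K] [CommRing B] [Algebra K B]
    (h : (Algebra.TensorProduct.lmul' K (S := B)).Flat) (I : Ideal B) : I.Pure :=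
  flat_of_flat_lmul' K B (B ⧸ I) h

theorem isReduced_of_field (K B : Type u) [Field K] [CommRing B] [Algebra K B]
    (h : (Algebra.TensorProduct.lmul' K (S := B)).Flat) : IsReduced B := by
  rw [isReduced_iff_pow_one_lt 2 one_lt_two]
  intro x hx
  have := pure_of_field K B h (Ideal.span {x})
  obtain ⟨y, hy, hxy⟩ := Ideal.exists_eq_mul_of_pure (I := Ideal.span {x}) (Ideal.mem_span_singleton_self x)
  obtain ⟨z, rfl⟩ := Ideal.mem_span_singleton'.1 hy
  rw [hxy]
  linear_combination z * hx


/-- The key element: if `B ⊗[K] B → B` is flat, then for `b : B` there is `v : B ⊗ B` with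
`(b ⊗ 1) v = (1 ⊗ b) v` and `μ v = 1`. -/
theorem exists_commuting_element (K B : Type u) [CommRing K] [CommRing B] [Algebra K B]
    (h : (Algebra.TensorProduct.lmul' K (S := B)).Flat) (b : B) :
    ∃ v : B ⊗[K] B, (b ⊗ₜ[K] (1 : B)) * v = ((1 : B) ⊗ₜ[K] b) * v ∧
      Algebra.TensorProduct.lmul' K v = 1 := by
  let μ := (Algebra.TensorProduct.lmul' K (S := B)).toRingHom
  have hsurj : Function.Surjective μ := fun x => ⟨x ⊗ₜ 1, by simp [μ]⟩
  have hp : (RingHom.ker μ).Pure := by
    have h1 : (Ideal.Quotient.mk (RingHom.ker μ)) =
        ((RingHom.quotientKerEquivOfSurjective hsurj).symm : B →+* _).comp μ := by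
      ext x <;>
      · simp only [RingHom.comp_apply, RingHom.coe_coe]
        rw [RingEquiv.eq_symm_apply]
        rfl
    have h2 : (Ideal.Quotient.mk (RingHom.ker μ)).Flat := by
      rw [h1]
      exact RingHom.Flat.comp h (RingHom.Flat.of_bijective (RingEquiv.bijective _))
    exact h2
  have hmem : (b ⊗ₜ[K] (1 : B)) - ((1 : B) ⊗ₜ[K] b) ∈ RingHom.ker μ := by
    simp [μ, RingHom.mem_ker]
  obtain ⟨e, he, hbe⟩ := Ideal.exists_eq_mul_of_pure hmem
  refine ⟨1 - e, ?_, ?_⟩
  · linear_combination hbe
  · have : μ e = 0 := he
    simp only [map_sub, map_one]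
    change 1 - μ e = 1
    rw [this, sub_zero]

theorem isIntegral_of_field (K B : Type u) [Field K] [CommRing B] [Algebra K B]
    (h : (Algebra.TensorProduct.lmul' K (S := B)).Flat) (b : B) : IsIntegral K b := by
  obtain ⟨v, hv, hv1⟩ := exists_commuting_element K B h b
  let ℬ := Module.Free.chooseBasis K B
  let E := TensorProduct.equivFinsuppOfBasisLeft (N := B) ℬ
  let W : Submodule K B := Submodule.span K (Set.range (E v))
  have hWfg : W.FG := Submodule.fg_span (E v).finite_range
  have hE1 : ∀ (c : B) (z : B ⊗[K] B) (i), E (((1 : B) ⊗ₜ[K] c) * z) i = c * E z i := by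
    intro c z i
    induction z with
    | zero => simp
    | add x y hx hy => simp only [mul_add, map_add, Finsupp.add_apply, hx, hy]
    | tmul x y =>
      simp [E]
  have hE2 : ∀ (z : B ⊗[K] B) (i), E ((b ⊗ₜ[K] (1 : B)) * z) i =
      (E z).sum (fun j w => ℬ.repr (b * ℬ j) i • w) := by
    intro z i
    obtain ⟨f, rfl⟩ := E.symm.surjective z
    rw [LinearEquiv.apply_symm_apply]
    induction f using Finsupp.induction_linear with
    | zero => simp
    | add f g hf hg =>
      rw [map_add, mul_add, map_add, Finsupp.add_apply, hf, hg, Finsupp.sum_add_index']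
      · simp
      · intro j w w'; rw [smul_add]
    | single j w =>
      rw [Finsupp.sum_single_index (by simp)]
      simp [E]
  have hWb : ∀ w ∈ W, b * w ∈ W := by
    intro w hw
    induction hw using Submodule.span_induction with
    | zero => simp
    | add x y _ _ hx hy => rw [mul_add]; exact W.add_mem hx hy
    | smul a x _ hx => rw [mul_smul_comm]; exact W.smul_mem _ hx
    | mem x hx =>
      obtain ⟨i, rfl⟩ := hx
      rw [← hE1, ← hv, hE2]
      exact W.sum_mem fun j _ => W.smul_mem _ (Submodule.subset_span ⟨j, rfl⟩)
  have : Module.Finite K W := Module.Finite.iff_fg.2 hWfg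
  let T : Module.End K W := ((LinearMap.mulLeft K b).restrict hWb)
  obtain ⟨p, hpm, hp⟩ := LinearMap.exists_monic_and_aeval_eq_zero K T
  refine ⟨p, hpm, ?_⟩
  have hT : ∀ (q : Polynomial K) (w : W), ((Polynomial.aeval T q w : W) : B) = Polynomial.aeval b q * w := by
    intro q
    induction q using Polynomial.induction_on' with
    | add p q hp hq => intro w; simp [hp, hq, add_mul]
    | monomial n a =>
      intro w
      have : ∀ (n : ℕ) (w : W), (((T ^ n) w : W) : B) = b ^ n * w := by
        intro n
        induction n with
        | zero => simp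
        | succ n ih =>
          intro w
          rw [pow_succ', Module.End.mul_apply]
          change b * ((T ^ n) w : W) = _
          rw [ih, pow_succ']
          ring
      simp only [Polynomial.aeval_monomial, Module.End.mul_apply, Module.algebraMap_end_apply,
        Submodule.coe_smul, this]
      rw [Algebra.smul_def]
      ring
  have key : ((1 : B) ⊗ₜ[K] (Polynomial.aeval b p)) * v = 0 := by
    rw [← E.map_eq_zero_iff]
    ext i
    rw [hE1]
    have := hT p ⟨E v i, Submodule.subset_span ⟨i, rfl⟩⟩
    rw [hp] at this
    simpa using this.symm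
  have := congrArg (Algebra.TensorProduct.lmul' K) key
  rw [map_mul, hv1] at this
  simpa [Polynomial.aeval_def] using this

end Groth.Agent.EtpbcB.WeaklyEtale1
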